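import Mathlib
import Groth.Prelude.Def_Red

/-! Compatibility of iterated base change of group schemes with composite base change. -/

set_option autoImplicit false
universe u
open CategoryTheory MonoidalCategory CartesianMonoidalCategory MonObj AlgebraicGeometry Limits
open Functor.LaxMonoidal

namespace Groth.Agent.AbVarLib.BcComp

section general

universe v₁ v₂ v₃ u₁ u₂ u₃
variable {C : Type u₁} [Category.{v₁} C] [CartesianMonoidalCategory C]
  {D : Type u₂} [Category.{v₂} D] [CartesianMonoidalCategory D]
  {E : Type u₃} [Category.{v₃} E] [CartesianMonoidalCategory E]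
  (F : C ⥤ D) (G : D ⥤ E) (H : C ⥤ E) [F.Monoidal] [G.Monoidal] [H.Monoidal]

open scoped CategoryTheory.Obj in
theorem isMonHom_app (τ : F ⋙ G ⟶ H) (M : C) [MonObj M] :
    IsMonHom (M := G.obj (F.obj M)) (N := H.obj M) (τ.app M) where
  one_hom := by
    have n := τ.naturality η[M]
    simp only [Functor.comp_obj, Functor.comp_map] at n
    simp only [Functor.obj.η_def, Functor.map_comp, Category.assoc]
    rw [n, ← Category.assoc (G.map (ε F)), ← Category.assoc (ε G)]
    congr 1
    rw [← cancel_mono (Functor.OplaxMonoidal.η H)]; exact toUnit_unique _ _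
  mul_hom := by
    have n := τ.naturality μ[M]
    simp only [Functor.comp_obj, Functor.comp_map] at n
    simp only [Functor.obj.μ_def, Functor.map_comp, Category.assoc]
    rw [n, ← Category.assoc (G.map _), ← Category.assoc (Functor.LaxMonoidal.μ G _ _),
      ← Category.assoc (τ.app M ⊗ₘ τ.app M)]
    congr 1
    have n1 := τ.naturality (fst M M)
    have n2 := τ.naturality (snd M M)
    simp only [Functor.comp_obj, Functor.comp_map] at n1 n2
    rw [← cancel_mono (Functor.OplaxMonoidal.δ H M M)]
    apply CartesianMonoidalCategory.hom_ext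
    · simp only [Category.assoc, Functor.OplaxMonoidal.δ_fst, Functor.Monoidal.μ_fst, ← n1,
        tensorHom_fst]
      rw [← Category.assoc (G.map _), ← G.map_comp, Functor.Monoidal.μ_fst, ← Category.assoc,
        Functor.Monoidal.μ_fst]
      rfl
    · simp only [Category.assoc, Functor.OplaxMonoidal.δ_snd, Functor.Monoidal.μ_snd, ← n2,
        tensorHom_snd]
      rw [← Category.assoc (G.map _), ← G.map_comp, Functor.Monoidal.μ_snd, ← Category.assoc,
        Functor.Monoidal.μ_snd]
      rfl

end general

variable {S S' S'' : Scheme.{u}} (f : S' ⟶ S) (g : S'' ⟶ S') (h : S'' ⟶ S) (hc : g ≫ f = h)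

/-- `(X ×ₛ S') ×ₛ' S'' ≅ X ×ₛ S''`, natural in `X`. -/
noncomputable def compIso : Over.pullback f ⋙ Over.pullback g ≅ Over.pullback h :=
  (Over.pullbackComp g f).symm ≪≫ eqToIso (congrArg (fun φ => Over.pullback φ) hc)

theorem compIso_hom_app (X : Over S) : (compIso f g h hc).hom.app X =
    (Over.pullbackComp g f).inv.app X ≫ eqToHom (congrArg (fun φ => Red.bc φ X) hc) := by
  simp [compIso, eqToHom_app]

theorem compIso_inv_app (X : Over S) : (compIso f g h hc).inv.app X =
    eqToHom (congrArg (fun φ => Red.bc φ X) hc.symm) ≫ (Over.pullbackComp g f).hom.app X := by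
  simp [compIso, eqToHom_app]

theorem compIso_hom_app' (X : Over S) :
    CategoryStruct.comp (X := (Over.pullback g).obj (Red.bc f X))
      ((Over.pullbackComp g f).inv.app X) (eqToHom (congrArg (fun φ => Red.bc φ X) hc)) =
      (compIso f g h hc).hom.app X :=
  (compIso_hom_app f g h hc X).symm

theorem isMonHom_compIso_hom (X : Over S) [GrpObj X] :
    IsMonHom (M := Red.bc g (Red.bc f X)) (N := Red.bc h X) ((compIso f g h hc).hom.app X) :=
  isMonHom_app _ _ _ (compIso f g h hc).hom X

theorem isMonHom_compIso_inv (X : Over S) [GrpObj X] :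
    IsMonHom (M := Red.bc h X) (N := Red.bc g (Red.bc f X)) ((compIso f g h hc).inv.app X) :=
  let e : Red.bc g (Red.bc f X) ≅ Red.bc h X := (compIso f g h hc).app X
  have : IsMonHom e.hom := isMonHom_compIso_hom f g h hc X
  inferInstanceAs (IsMonHom e.inv)

theorem of_stable_pullback_map (P : MorphismProperty Scheme.{u}) [P.IsStableUnderBaseChange]
    {X Y : Over S} (a : X ⟶ Y) (ha : P a.left) : P ((Over.pullback f).map a).left := by
  have sq : IsPullback (pullback.fst X.hom f) ((Over.pullback f).map a).left a.left
      (pullback.fst Y.hom f) := by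
    refine IsPullback.of_bot ?_ (pullback.lift_fst _ _ _).symm (IsPullback.of_hasPullback Y.hom f)
    rw [Over.w, show ((Over.pullback f).map a).left ≫ pullback.snd Y.hom f = pullback.snd X.hom f from
      pullback.lift_snd _ _ _]
    exact IsPullback.of_hasPullback X.hom f
  exact MorphismProperty.of_isPullback sq ha

end Groth.Agent.AbVarLib.BcComp
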