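import Groth.Agent.PicLaw.Mumford
import Mathlib.AlgebraicGeometry.Group.Abelian

/-!
# Consequences of the theorem of the cube for abelian varieties

The theorem of the cube (in the form of `PicF.w4c4avmwcourse_cube_of_geometricallyConnected_geometricallyReduced`,
for proper geometrically integral factors) is taken as a hypothesis.
-/

set_option autoImplicit false
universe u

open CategoryTheory MonoidalCategory CartesianMonoidalCategory MonObj AlgebraicGeometry

noncomputable section

namespace Groth.Agent.AbVarLib.CubeCons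

open scoped Groth.Agent.PicLaw
open PicLaw.Mumford (op op_comp op_unit_eq_one)

variable {k : Type u} [Field k]

/-- The theorem of the cube for three copies of one proper geometrically integral pointed variety. -/
def CubeHyp (A : Over (Spec (CommRingCat.of k))) [GrpObj A] : Prop :=
  ∀ c : PicLoc.PicSet (A ⊗ A ⊗ A).left,
    op (lift (toUnit (A ⊗ A) ≫ η[A]) (𝟙 (A ⊗ A))) c = 1 →
    op (lift (fst A A) (lift (toUnit (A ⊗ A) ≫ η[A]) (snd A A))) c = 1 →
    op (lift (fst A A) (lift (snd A A) (toUnit (A ⊗ A) ≫ η[A]))) c = 1 → c = 1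

variable {A : Over (Spec (CommRingCat.of k))} [GrpObj A]

theorem op_one {V : Over (Spec (CommRingCat.of k))} (l : PicLoc.PicSet A.left) : op (1 : V ⟶ A) l = 1 := by
  rw [Hom.one_def, op_comp, op_unit_eq_one k, map_one]

/-- The cube class of `l` at three morphisms. -/
def cube (l : PicLoc.PicSet A.left) {V : Over (Spec (CommRingCat.of k))} (f g h : V ⟶ A) :
    PicLoc.PicSet V.left :=
  op (f * g * h) l * op f l * op g l * op h l / (op (f * g) l * op (f * h) l * op (g * h) l)

theorem op_cube (l : PicLoc.PicSet A.left) {V W : Over (Spec (CommRingCat.of k))} (p : W ⟶ V) (f g h : V ⟶ A) :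
    op p (cube l f g h) = cube l (p ≫ f) (p ≫ g) (p ≫ h) := by
  simp only [cube, map_div, map_mul, ← op_comp, MonObj.comp_mul]

theorem cube_one_left (l : PicLoc.PicSet A.left) {V : Over (Spec (CommRingCat.of k))} (g h : V ⟶ A) :
    cube l 1 g h = 1 := by
  rw [cube, div_eq_one]
  simp only [_root_.one_mul, op_one, _root_.mul_one]
  ac_rfl

theorem cube_one_mid (l : PicLoc.PicSet A.left) {V : Over (Spec (CommRingCat.of k))} (f h : V ⟶ A) :
    cube l f 1 h = 1 := by
  rw [cube, div_eq_one]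
  simp only [_root_.one_mul, _root_.mul_one, op_one]
  ac_rfl

theorem cube_one_right (l : PicLoc.PicSet A.left) {V : Over (Spec (CommRingCat.of k))} (f g : V ⟶ A) :
    cube l f g 1 = 1 := by
  rw [cube, div_eq_one]
  simp only [_root_.mul_one, op_one]

/-- The relation of the cube for three morphisms. -/
theorem cube_eq_one (H : CubeHyp A) (l : PicLoc.PicSet A.left) {V : Over (Spec (CommRingCat.of k))}
    (f g h : V ⟶ A) : cube l f g h = 1 := by
  have hu : cube l (fst A (A ⊗ A)) (snd A (A ⊗ A) ≫ fst A A) (snd A (A ⊗ A) ≫ snd A A) = 1 := by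
    apply H
    · rw [op_cube]
      simp only [lift_fst, ← Hom.one_def]
      exact cube_one_left l _ _
    · rw [op_cube]
      simp only [lift_fst, lift_snd_assoc, ← Hom.one_def]
      exact cube_one_mid l _ _
    · rw [op_cube]
      simp only [lift_fst, lift_snd_assoc, lift_snd, ← Hom.one_def]
      exact cube_one_right l _ _
  have := congrArg (op (lift f (lift g h))) hu
  rw [op_cube, map_one] at this
  simpa only [lift_fst, lift_snd_assoc, lift_snd] using this

theorem cube_rel (H : CubeHyp A) (l : PicLoc.PicSet A.left) {V : Over (Spec (CommRingCat.of k))} (f g h : V ⟶ A) :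
    op (f * g * h) l * op f l * op g l * op h l = op (f * g) l * op (f * h) l * op (g * h) l :=
  div_eq_one.mp (cube_eq_one H l f g h)

/-- The theorem of the square, for constants `a`, `b` (morphisms inducing the trivial class). -/
theorem square (H : CubeHyp A) (l : PicLoc.PicSet A.left) {V : Over (Spec (CommRingCat.of k))} (f a b : V ⟶ A)
    (ha : op a l = 1) (hb : op b l = 1) (hab : op (a * b) l = 1) :
    op (f * a * b) l * op f l = op (f * a) l * op (f * b) l := by
  have h := cube_rel H l f a b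
  rwa [ha, hb, hab, _root_.mul_one, _root_.mul_one, _root_.mul_one] at h

theorem op_const (l : PicLoc.PicSet A.left) {V : Over (Spec (CommRingCat.of k))}
    (a : 𝟙_ (Over (Spec (CommRingCat.of k))) ⟶ A) : op (toUnit V ≫ a) l = 1 := by
  rw [op_comp]
  have : op a l = 1 := by
    obtain ⟨L, hL, rfl⟩ := PicGrp.exists_eq_cls l
    have : Subsingleton ↥(𝟙_ (Over (Spec (CommRingCat.of k)))).left :=
      inferInstanceAs (Subsingleton (PrimeSpectrum k))
    have : Nonempty ↥(𝟙_ (Over (Spec (CommRingCat.of k)))).left :=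
      inferInstanceAs (Nonempty (PrimeSpectrum k))
    rw [← PicLaw.cls_pullback _ hL]
    exact (PicGrp.cls_eq_one_iff _).mpr (PicLaw.nonempty_iso_of_subsingleton (PicLoc.isInvertible_pullback _ hL))
  rw [this, map_one]

/-- `φ_{[-1]^* L} = φ_L`. -/
theorem phi_inv [IsCommMonObj A] (H : CubeHyp A) (l : PicLoc.PicSet A.left)
    (a : 𝟙_ (Over (Spec (CommRingCat.of k))) ⟶ A) :
    op (𝟙 A * (toUnit A ≫ a)) (op (𝟙 A)⁻¹ l) * l =
      op (𝟙 A)⁻¹ l * op (𝟙 A * (toUnit A ≫ a)) l := by
  let c : A ⟶ A := toUnit A ≫ a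
  have hc : op c l = 1 := op_const l a
  have hc' : op c⁻¹ l = 1 := by
    rw [show c⁻¹ = toUnit A ≫ a⁻¹ from (GrpObj.comp_inv _ _).symm]; exact op_const l a⁻¹
  have hid : op (𝟙 A) l = l := PicLaw.pl_id l
  -- the symmetry relation
  have h1 : l * op (𝟙 A)⁻¹ l = op (𝟙 A * c) l * op ((𝟙 A)⁻¹ * c) l := by
    have h := cube_rel H l (𝟙 A) (𝟙 A)⁻¹ c
    rw [mul_inv_cancel, _root_.one_mul, op_one, hc, hid, _root_.one_mul, _root_.one_mul, _root_.mul_one] at h
    exact h
  -- the square relation on inverted arguments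
  have h2 : op (𝟙 A)⁻¹ l * op (𝟙 A)⁻¹ l = op ((𝟙 A)⁻¹ * c) l * op ((𝟙 A)⁻¹ * c⁻¹) l := by
    have h := square H l (𝟙 A)⁻¹ c c⁻¹ hc hc' (by rw [mul_inv_cancel, op_one])
    rwa [_root_.mul_assoc, mul_inv_cancel, _root_.mul_one] at h
  rw [← op_comp, GrpObj.comp_inv, Category.comp_id, mul_inv]
  show op ((𝟙 A)⁻¹ * c⁻¹) l * l = op (𝟙 A)⁻¹ l * op (𝟙 A * c) l
  apply mul_left_cancel (a := op ((𝟙 A)⁻¹ * c) l)
  calc op ((𝟙 A)⁻¹ * c) l * (op ((𝟙 A)⁻¹ * c⁻¹) l * l)
      = (op (𝟙 A)⁻¹ l * op (𝟙 A)⁻¹ l) * l := by rw [h2, _root_.mul_assoc]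
    _ = (l * op (𝟙 A)⁻¹ l) * op (𝟙 A)⁻¹ l := by ac_rfl
    _ = _ := by rw [h1]; ac_rfl

end Groth.Agent.AbVarLib.CubeCons
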