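import Groth.Agent.Cube.Main
import Groth.Agent.Cube.Seesaw
import Groth.Agent.AbVarLib.CubeCons
import Mathlib.AlgebraicGeometry.Geometrically.Integral

/-!
# Translation invariant invertible modules are primitive

For an abelian variety over an algebraically closed field a class invariant under all translations
satisfies `m^* l = p^* l ⊗ q^* l`.
-/

set_option autoImplicit false
universe u

open CategoryTheory CategoryTheory.Limits MonoidalCategory CartesianMonoidalCategory MonObj GrpObj
  AlgebraicGeometry TopologicalSpace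

noncomputable section

namespace Groth.Agent.AbVarLib.TransInv

open scoped Groth.Agent.PicLaw
open PicLaw (pl)
open PicLaw.Mumford (op)

variable {K : Type u} [Field K] [IsAlgClosed K]

/-- The Picard group of the base field is trivial. -/
theorem pic_unit (c : PicLoc.PicSet (𝟙_ (Over (Spec (CommRingCat.of K)))).left) : c = 1 := by
  obtain ⟨L, hL, rfl⟩ := PicGrp.exists_eq_cls c
  have : Subsingleton ↥(𝟙_ (Over (Spec (CommRingCat.of K)))).left :=
    inferInstanceAs (Subsingleton (PrimeSpectrum K))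
  have : Nonempty ↥(𝟙_ (Over (Spec (CommRingCat.of K)))).left :=
    inferInstanceAs (Nonempty (PrimeSpectrum K))
  exact (PicGrp.cls_eq_one_iff _).mpr (PicLaw.nonempty_iso_of_subsingleton hL)

/-- The point at a closed point. -/
def ptAt (A : Over (Spec (CommRingCat.of K))) [LocallyOfFiniteType A.hom] (z : A.left) (hz : IsClosed {z}) :
    𝟙_ (Over (Spec (CommRingCat.of K))) ⟶ A :=
  Over.homMk (pointOfClosedPoint A.hom z hz) (pointOfClosedPoint_comp A.hom z hz)

variable {A : Over (Spec (CommRingCat.of K))} [GrpObj A] [IsProper A.hom] [GeometricallyIntegral A.hom]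

/-- The class `m^* l / (p^* l · q^* l)`. -/
def defect (l : PicLoc.PicSet A.left) : PicLoc.PicSet (A ⊗ A).left :=
  op (fst A A * snd A A) l / (op (fst A A) l * op (snd A A) l)

variable (l : PicLoc.PicSet A.left)
  (hl : ∀ a : 𝟙_ (Over (Spec (CommRingCat.of K))) ⟶ A, op (𝟙 A * (toUnit A ≫ a)) l = l)

include hl in
theorem op_translate (a : 𝟙_ (Over (Spec (CommRingCat.of K))) ⟶ A) :
    op (A ◁ (𝟙 A * (toUnit A ≫ a))) (defect l) = defect l := by
  set ka : A ⊗ A ⟶ A := toUnit (A ⊗ A) ≫ a with hka
  have h1 : op ka l = 1 := by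
    rw [hka, PicLaw.Mumford.op_comp, pic_unit (op a l), map_one]
  have h2 : op (fst A A * ka) l = op (fst A A) l := by
    conv_rhs => rw [← hl a, ← PicLaw.Mumford.op_comp]
    congr 1
    rw [MonObj.comp_mul, Category.comp_id, ← Category.assoc, toUnit_unique (fst A A ≫ toUnit A) (toUnit (A ⊗ A))]
  have h3 := CubeCons.cube_eq_one (Cube.cubeHyp A) l (fst A A) (snd A A) ka
  rw [CubeCons.cube, div_eq_one, h1, h2, _root_.mul_one] at h3
  have e1 : (A ◁ (𝟙 A * (toUnit A ≫ a))) ≫ fst A A = fst A A := by simp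
  have e2 : (A ◁ (𝟙 A * (toUnit A ≫ a))) ≫ snd A A = snd A A * ka := by
    rw [whiskerLeft_snd, MonObj.comp_mul, Category.comp_id, hka, ← Category.assoc,
      toUnit_unique (snd A A ≫ toUnit A) (toUnit (A ⊗ A))]
  simp only [defect, map_div, map_mul, ← PicLaw.Mumford.op_comp, MonObj.comp_mul, e1, e2]
  rw [show fst A A * (snd A A * ka) = fst A A * snd A A * ka from (_root_.mul_assoc _ _ _).symm,
    div_eq_div_iff_mul_eq_mul, ← _root_.mul_assoc, ← _root_.mul_assoc]
  exact h3

include hl in
theorem op_slice (a : 𝟙_ (Over (Spec (CommRingCat.of K))) ⟶ A) :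
    op (lift (𝟙 A) (toUnit A ≫ a)) (defect l) = 1 := by
  simp only [defect, map_div, map_mul, ← PicLaw.Mumford.op_comp, MonObj.comp_mul, lift_fst, lift_snd]
  rw [hl a, PicLaw.Mumford.op_comp (toUnit A) a, pic_unit (op a l), map_one, div_eq_one,
    show op (𝟙 A) l = l from PicLaw.pl_id l, _root_.mul_one]

theorem op_zero_slice : op (lift (toUnit A ≫ η[A]) (𝟙 A)) (defect l) = 1 := by
  simp only [defect, map_div, map_mul, ← PicLaw.Mumford.op_comp, MonObj.comp_mul, lift_fst, lift_snd, ← Hom.one_def,
    CubeCons.op_one, _root_.one_mul]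
  rw [div_eq_one]

include hl in
theorem fibre_closed (z : A.left) (hz : IsClosed {z}) :
    pl ((snd A A).left.fiberι z) (defect l) = 1 := by
  let π := (snd A A).left
  let F : Over (Spec (CommRingCat.of K)) := Over.mk (π.fiberι z ≫ (A ⊗ A).hom)
  let i : F ⟶ A ⊗ A := Over.homMk (π.fiberι z) rfl
  have hi : i = (i ≫ fst A A) ≫ lift (𝟙 A) (toUnit A ≫ ptAt A z hz) := by
    have hsnd : π.fiberι z ≫ π = (π.fiberToSpecResidueField z ≫
        Spec.map (residueFieldIsoBase A.hom z hz).inv) ≫ pointOfClosedPoint A.hom z hz := by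
      rw [show π.fiberι z ≫ π = π.fiberToSpecResidueField z ≫ A.left.fromSpecResidueField z from pullback.condition,
        pointOfClosedPoint, Category.assoc, ← Spec.map_comp_assoc, Iso.hom_inv_id, Spec.map_id, Category.id_comp]
    apply CartesianMonoidalCategory.hom_ext
    · simp
    · rw [Category.assoc, lift_snd, ← Category.assoc, toUnit_unique ((i ≫ fst A A) ≫ toUnit A) (toUnit F)]
      apply Over.OverMorphism.ext
      show π.fiberι z ≫ π = (π.fiberι z ≫ (A ⊗ A).hom) ≫ pointOfClosedPoint A.hom z hz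
      rw [← Over.w (snd A A)]
      show π.fiberι z ≫ π = (π.fiberι z ≫ π ≫ A.hom) ≫ _
      rw [← Category.assoc (π.fiberι z) π A.hom, hsnd]
      simp only [Category.assoc, pointOfClosedPoint_comp_assoc]
  show op i (defect l) = 1
  rw [hi, PicLaw.Mumford.op_comp, op_slice l hl, map_one]

include hl in
theorem exists_gen_nonempty {L : (A ⊗ A).left.Modules} (hL : PicF.IsInvertible L)
    (hc : PicGrp.cls L hL = defect l) :
    ∃ (V : A.left.Opens) (_ : (V : Set A.left).Nonempty) (g : Γ(L, (snd A A).left ⁻¹ᵁ V)),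
      Props.GenLocus.IsGen L ((snd A A).left ⁻¹ᵁ V) g := by
  let π := (snd A A).left
  obtain ⟨L', hL', hc'⟩ := PicGrp.exists_eq_cls (defect l)⁻¹
  have : IsLocallyNoetherian A.left := LocallyOfFiniteType.isLocallyNoetherian A.hom
  have : JacobsonSpace A.left := LocallyOfFiniteType.jacobsonSpace A.hom
  have : Subsingleton ↥(Spec (CommRingCat.of K)) := inferInstanceAs (Subsingleton (PrimeSpectrum K))
  have : IsIntegral A.left := GeometricallyIntegral.isIntegral_of_subsingleton A.hom
  have : IsProper π := Cube.Local.isProper_snd A A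
  have : Flat π := Cube.Local.flat_snd A A
  have : GeometricallyIntegral π :=
    show GeometricallyIntegral (pullback.snd A.hom A.hom) from inferInstance
  have hint : ∀ z : A.left, IsIntegral (π.fiber z) := fun z =>
    pullback_of_geometrically (GeometricallyIntegral.geometrically_isIntegral (f := π)) _
      (A.left.fromSpecResidueField z)
  have hpos : ∀ (M : (A ⊗ A).left.Modules) (hM : PicF.IsInvertible M),
      (∀ z : A.left, IsClosed {z} → pl (π.fiberι z) (PicGrp.cls M hM) = 1) →
      ∀ z : A.left, Nontrivial Γ(CohIII.fiberMod π M z, ⊤) := by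
    intro M hM h z
    rw [← Cube.Seesaw.one_le_fiberRank_iff π hM]
    have hcl := Cube.Seesaw.isClosed_fiberRank_pos π hM
    have hsub : closedPoints A.left ⊆ {z | 1 ≤ CohIII.fiberRank π M 0 z} := fun w hw => by
      have := hint w
      refine (Cube.Seesaw.one_le_fiberRank_iff π hM w).mpr (Cube.Seesaw.nontrivial_of_iso ?_)
      refine (PicGrp.cls_eq_one_iff (PicLoc.isInvertible_pullback _ hM)).mp ?_
      rw [PicLaw.cls_pullback _ hM]
      exact h w hw
    have := hcl.closure_subset_iff.mpr hsub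
    rw [closure_closedPoints] at this
    exact this (Set.mem_univ z)
  set ξ := genericPoint A.left with hξ
  have := hint ξ
  have hfield : IsField Γ(π.fiber ξ, ⊤) := by
    have : UniversallyClosed (π.fiberToSpecResidueField ξ) :=
      show UniversallyClosed (pullback.snd π (A.left.fromSpecResidueField ξ)) from inferInstance
    exact isField_of_universallyClosed (K := A.left.residueField ξ) (π.fiberToSpecResidueField ξ)
  have h1 := Cube.Seesaw.iso_of_sections hfield (L := CohIII.fiberMod π L ξ) (L' := CohIII.fiberMod π L' ξ)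
    (PicLoc.isInvertible_pullback _ hL) (PicLoc.isInvertible_pullback _ hL')
    ((PicGrp.cls_eq_one_iff (PicLaw.isInvertible_tensor (PicLoc.isInvertible_pullback _ hL)
      (PicLoc.isInvertible_pullback _ hL'))).mp (by
        rw [PicLaw.cls_tensor (PicLoc.isInvertible_pullback _ hL) (PicLoc.isInvertible_pullback _ hL'),
          PicLaw.cls_pullback _ hL, PicLaw.cls_pullback _ hL', ← map_mul, hc, ← hc', mul_inv_cancel, map_one]))
    (hpos L hL (fun z hz => by rw [hc]; exact fibre_closed l hl z hz) ξ)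
    (hpos L' hL' (fun z hz => by rw [← hc', map_inv, fibre_closed l hl z hz, inv_one]) ξ)
  have : IsIso (A.left.residue ξ) := by
    rw [ConcreteCategory.isIso_iff_bijective]
    let : Field (A.left.presheaf.stalk ξ) := inferInstanceAs (Field A.left.functionField)
    exact ⟨(A.left.residue ξ).hom.injective, IsLocalRing.residue_surjective⟩
  have H : IsPullback (π.fiberι ξ) (π.fiberToSpecResidueField ξ ≫ Spec.map (A.left.residue ξ)) π
      (A.left.fromSpecStalk ξ) :=
    (IsPullback.of_hasPullback π (A.left.fromSpecResidueField ξ)).of_iso (Iso.refl _) (Iso.refl _)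
      (asIso (Spec.map (A.left.residue ξ))) (Iso.refl _) ((Category.comp_id _).trans (Category.id_comp _).symm) (Category.id_comp _).symm
      (by simp) (by simp [Scheme.fromSpecResidueField])
  obtain ⟨V, hV, g, hg⟩ := Cube.Spread.exists_gen_nhd π hL ξ H h1
  exact ⟨V, ⟨ξ, hV⟩, g, hg⟩

include hl in
/-- A translation invariant class is primitive. -/
theorem defect_eq_one : defect l = 1 := by
  obtain ⟨L, hL, hc₀⟩ := PicGrp.exists_eq_cls (defect l)
  have hc := hc₀.symm
  obtain ⟨V, hVne, g, hg⟩ := exists_gen_nonempty l hl hL hc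
  rw [← hc]
  refine (PicGrp.cls_eq_one_iff _).mpr ?_
  have := Rigidity.isIso_appTop A.hom
  have : JacobsonSpace A.left := LocallyOfFiniteType.jacobsonSpace A.hom
  let π := (snd A A).left
  refine Cube.Seesaw.iso_of_locally π (lift (toUnit A ≫ η[A]) (𝟙 A)).left ?_
    (fun U hU => Cube.Global.bijective_app_snd A A U hU.isCompact hU.isQuasiSeparated) ?_ ?_
  · show (lift (toUnit A ≫ η[A]) (𝟙 A) ≫ snd A A).left = _
    rw [lift_snd]; rfl
  · refine (Cube.Local.cls_op_eq_one _ hL).mp ?_
    rw [hc]; exact op_zero_slice l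
  intro z
  obtain ⟨z₀, hz₀, hz₀'⟩ := nonempty_inter_closedPoints (Z := closure {z}) ⟨z, subset_closure rfl⟩
    isClosed_closure.isLocallyClosed
  obtain ⟨b, hbV, hb⟩ := nonempty_inter_closedPoints hVne V.2.isLocallyClosed
  let pz := ptAt A z₀ hz₀'
  let pb := ptAt A b hb
  let a := pz⁻¹ * pb
  let t := 𝟙 A * (toUnit A ≫ a)
  have ht : pz ≫ t = pb := by
    rw [MonObj.comp_mul, Category.comp_id, ← Category.assoc, toUnit_unique (pz ≫ toUnit A) (𝟙 _),
      Category.id_comp, mul_inv_cancel_left]
  have htz : t.left z₀ = b := by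
    have h := congrArg (fun q : 𝟙_ (Over (Spec (CommRingCat.of K))) ⟶ A => q.left (IsLocalRing.closedPoint K)) ht
    exact (congrArg t.left (pointOfClosedPoint_apply A.hom z₀ hz₀' _)).symm.trans
      (h.trans (pointOfClosedPoint_apply A.hom b hb _))
  have hzV : z ∈ t.left ⁻¹ᵁ V := by
    have h0 : z₀ ∈ t.left ⁻¹ᵁ V := by show t.left z₀ ∈ V; rw [htz]; exact hbV
    exact (specializes_iff_mem_closure.mpr hz₀).mem_open (t.left ⁻¹ᵁ V).2 h0
  have hiso : Nonempty ((Scheme.Modules.pullback (A ◁ t).left).obj L ≅ L) := by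
    refine (PicLaw.iso_iff (PicLoc.isInvertible_pullback _ hL) hL).mpr ?_
    rw [PicLaw.cls_pullback _ hL, hc]
    exact op_translate l hl a
  obtain ⟨φ⟩ := hiso
  have hπ : (A ◁ t).left ≫ π = π ≫ t.left := by
    show ((A ◁ t) ≫ snd A A).left = (snd A A ≫ t).left
    rw [whiskerLeft_snd]
  have e : (A ◁ t).left ⁻¹ᵁ (π ⁻¹ᵁ V) = π ⁻¹ᵁ (t.left ⁻¹ᵁ V) := by
    rw [← Scheme.Hom.comp_preimage, ← Scheme.Hom.comp_preimage, hπ]
  exact ⟨t.left ⁻¹ᵁ V, hzV, _, (Cube.Seesaw.isGen_map φ (Props.GenPull.isGen_pb _ hg)).restrict e.ge⟩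

/-- Equivalence of translation invariance and primitivity. -/
theorem iff_primitive :
    (∀ a : 𝟙_ (Over (Spec (CommRingCat.of K))) ⟶ A, op (𝟙 A * (toUnit A ≫ a)) l = l) ↔
      op (fst A A * snd A A) l = op (fst A A) l * op (snd A A) l := by
  refine ⟨fun h => div_eq_one.mp (defect_eq_one l h), fun h a => ?_⟩
  have h1 := congrArg (op (lift (𝟙 A) (toUnit A ≫ a))) h
  simp only [map_mul, ← PicLaw.Mumford.op_comp, MonObj.comp_mul, lift_fst, lift_snd] at h1
  rw [h1, PicLaw.Mumford.op_comp (toUnit A) a, pic_unit (op a l), map_one, _root_.mul_one]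
  exact PicLaw.pl_id l

end Groth.Agent.AbVarLib.TransInv
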