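import Groth.Agent.Cube.Connected
import Groth.Agent.AbVarLib.TransInv
import Groth.Prelude.Def_Pic13

/-!
# Classes algebraically equivalent to zero are primitive
-/

set_option autoImplicit false
universe u

open CategoryTheory CategoryTheory.Limits MonoidalCategory CartesianMonoidalCategory MonObj AlgebraicGeometry

noncomputable section

namespace Groth.Agent.AbVarLib.AlgEquivPrim

open scoped Groth.Agent.PicLaw
open PicLaw (pl)
open PicLaw.Mumford (op)

variable {K : Type u} [Field K] [IsAlgClosed K]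
variable {A : Over (Spec (CommRingCat.of K))} [GrpObj A] [IsProper A.hom] [GeometricallyIntegral A.hom]

/-- A member of a connected family through the trivial class is primitive. -/
theorem primitive_of_family {T : Over (Spec (CommRingCat.of K))} [LocallyOfFiniteType T.hom] [ConnectedSpace ↥T.left]
    (m : PicLoc.PicSet (A ⊗ T).left) (t t₀ : 𝟙_ (Over (Spec (CommRingCat.of K))) ⟶ T)
    (h₀ : op (lift (𝟙 A) (toUnit A ≫ t₀)) m = 1) :
    op (fst A A * snd A A) (op (lift (𝟙 A) (toUnit A ≫ t)) m) =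
      op (fst A A) (op (lift (𝟙 A) (toUnit A ≫ t)) m) * op (snd A A) (op (lift (𝟙 A) (toUnit A ≫ t)) m) := by
  have := Rigidity.isIso_appTop A.hom
  -- normalise along the origin
  let m' : PicLoc.PicSet (A ⊗ T).left := m / op (snd A T) (op (lift (toUnit T ≫ η[A]) (𝟙 T)) m)
  have hslice : ∀ s : 𝟙_ (Over (Spec (CommRingCat.of K))) ⟶ T,
      op (lift (𝟙 A) (toUnit A ≫ s)) m' = op (lift (𝟙 A) (toUnit A ≫ s)) m := fun s => by
    simp only [m', map_div, ← PicLaw.Mumford.op_comp]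
    rw [show lift (𝟙 A) (toUnit A ≫ s) ≫ snd A T ≫ lift (toUnit T ≫ η[A]) (𝟙 T) =
      toUnit A ≫ s ≫ lift (toUnit T ≫ η[A]) (𝟙 T) by rw [lift_snd_assoc, Category.assoc],
      PicLaw.Mumford.op_comp (toUnit A), TransInv.pic_unit (op (s ≫ lift (toUnit T ≫ η[A]) (𝟙 T)) m), map_one, div_one]
  have hrig : op (lift (toUnit T ≫ η[A]) (𝟙 T)) m' = 1 := by
    simp only [m', map_div, ← PicLaw.Mumford.op_comp, lift_snd_assoc, Category.id_comp, div_self']
  have h1T : ∀ {W : Over (Spec (CommRingCat.of K))} (b : W ⟶ T), op (lift (1 : W ⟶ A) b) m' = 1 := fun {W} b => by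
    rw [show lift (1 : W ⟶ A) b = b ≫ lift (toUnit T ≫ η[A]) (𝟙 T) by
      rw [Hom.one_def, comp_lift, Category.comp_id, ← Category.assoc, toUnit_unique (b ≫ toUnit T) (toUnit W)],
      PicLaw.Mumford.op_comp, hrig, map_one]
  -- the defect of the family
  let f₁ : A ⊗ (A ⊗ T) ⟶ A := fst A (A ⊗ T)
  let f₂ : A ⊗ (A ⊗ T) ⟶ A := snd A (A ⊗ T) ≫ fst A T
  let f₃ : A ⊗ (A ⊗ T) ⟶ T := snd A (A ⊗ T) ≫ snd A T
  let d : PicLoc.PicSet (A ⊗ (A ⊗ T)).left :=
    op (lift (f₁ * f₂) f₃) m' / (op (lift f₁ f₃) m' * op (lift f₂ f₃) m')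
  have hd : ∀ {W : Over (Spec (CommRingCat.of K))} (a b : W ⟶ A) (c : W ⟶ T),
      op (lift a (lift b c)) d = op (lift (a * b) c) m' / (op (lift a c) m' * op (lift b c) m') := fun {W} a b c => by
    simp only [d, map_div, map_mul, ← PicLaw.Mumford.op_comp, comp_lift, MonObj.comp_mul, f₁, f₂, f₃, lift_fst,
      lift_snd, lift_snd_assoc]
  have hd1 : d = 1 := by
    refine Cube.Global.eq_one_connected η[A] η[A] t₀ d ?_ ?_ ?_
    · rw [show Cube.Local.slX A A η[A] T = lift (1 : A ⊗ T ⟶ A) (lift (fst A T) (snd A T)) by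
        rw [lift_fst_snd, Hom.one_def], hd, _root_.one_mul, h1T, _root_.one_mul, div_self']
    · rw [show Cube.Local.slY A A η[A] T = lift (fst A T) (lift (1 : A ⊗ T ⟶ A) (snd A T)) by
        apply CartesianMonoidalCategory.hom_ext
        · simp
        · apply CartesianMonoidalCategory.hom_ext
          · simp [Cube.Local.slY, Hom.one_def]
          · simp, hd, _root_.mul_one, h1T, _root_.mul_one, div_self']
    · have h0 : ∀ (x : A ⊗ A ⟶ A), op (lift x (toUnit (A ⊗ A) ≫ t₀)) m' = 1 := fun x => by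
        rw [show lift x (toUnit (A ⊗ A) ≫ t₀) = x ≫ lift (𝟙 A) (toUnit A ≫ t₀) by
          rw [comp_lift, Category.comp_id, ← Category.assoc, toUnit_unique (x ≫ toUnit A) (toUnit _)],
          PicLaw.Mumford.op_comp, hslice, h₀, map_one]
      rw [hd, h0, h0, h0, _root_.mul_one, div_one]
  have h1 := hd (fst A A) (snd A A) (toUnit (A ⊗ A) ≫ t)
  rw [hd1, map_one] at h1
  have h2 : ∀ x : A ⊗ A ⟶ A, op (lift x (toUnit (A ⊗ A) ≫ t)) m' = op x (op (lift (𝟙 A) (toUnit A ≫ t)) m) := fun x => by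
    rw [← hslice, ← PicLaw.Mumford.op_comp, comp_lift, Category.comp_id, ← Category.assoc,
      toUnit_unique (x ≫ toUnit A) (toUnit _)]
  rw [h2, h2, h2] at h1
  exact div_eq_one.mp h1.symm

/-- **Algebraically equivalent to zero implies primitive.** -/
theorem primitive {L : A.left.Modules} (hL : PicF.IsInvertible L)
    (h : @Pic13.IsAlgEquivZero K _ A.left ⟨A.hom⟩ L) :
    op (fst A A * snd A A) (PicGrp.cls L hL) = op (fst A A) (PicGrp.cls L hL) * op (snd A A) (PicGrp.cls L hL) := by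
  let : A.left.Over (Spec (CommRingCat.of K)) := ⟨A.hom⟩
  obtain ⟨T', q, hconn, hlft, -, M, hM, t, t₀, ht, ht₀, e₁, e₀⟩ := h
  let T : Over (Spec (CommRingCat.of K)) := Over.mk q
  have : ConnectedSpace ↥T.left := hconn
  have : LocallyOfFiniteType T.hom := hlft
  let tS : 𝟙_ (Over (Spec (CommRingCat.of K))) ⟶ T := Over.homMk t ht
  let tS₀ : 𝟙_ (Over (Spec (CommRingCat.of K))) ⟶ T := Over.homMk t₀ ht₀
  have key : ∀ (s : Spec (CommRingCat.of K) ⟶ T') (hs : s ≫ q = 𝟙 _),
      (lift (𝟙 A) (toUnit A ≫ (Over.homMk s hs : 𝟙_ (Over (Spec (CommRingCat.of K))) ⟶ T))).left =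
        Pic13.sliceAt K A.left q s hs := fun s hs => by
    refine pullback.hom_ext ?_ ?_
    · exact (congrArg CommaMorphism.left (lift_fst (𝟙 A) (toUnit A ≫ (Over.homMk s hs :
        𝟙_ (Over (Spec (CommRingCat.of K))) ⟶ T)))).trans (pullback.lift_fst _ _ _).symm
    · exact (congrArg CommaMorphism.left (lift_snd (𝟙 A) (toUnit A ≫ (Over.homMk s hs :
        𝟙_ (Over (Spec (CommRingCat.of K))) ⟶ T)))).trans (pullback.lift_snd _ _ _).symm
  have hpull : ∀ (s : Spec (CommRingCat.of K) ⟶ T') (hs : s ≫ q = 𝟙 _),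
      op (lift (𝟙 A) (toUnit A ≫ (Over.homMk s hs : 𝟙_ (Over (Spec (CommRingCat.of K))) ⟶ T)))
        (PicGrp.cls (Y := (A ⊗ T).left) M hM) =
      PicGrp.cls (Pic13.fibreMod K A.left q s hs M) (PicLoc.isInvertible_pullback _ hM) := fun s hs => by
    show pl (lift (𝟙 A) (toUnit A ≫ (Over.homMk s hs : 𝟙_ (Over (Spec (CommRingCat.of K))) ⟶ T))).left _ = _
    rw [key s hs]
    exact (PicLaw.cls_pullback _ hM).symm
  have h₁ := (hpull t ht).trans ((PicLaw.iso_iff (PicLoc.isInvertible_pullback _ hM) hL).mp e₁)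
  have h₀ := (hpull t₀ ht₀).trans ((PicGrp.cls_eq_one_iff _).mpr e₀)
  have := primitive_of_family (T := T) _ tS tS₀ h₀
  rwa [h₁] at this

end Groth.Agent.AbVarLib.AlgEquivPrim
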