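import Groth.Agent.GrpScheme.IdComponent
import Groth.Agent.GrpScheme.HomFlat
import Groth.Agent.FBase.BC

/-!
# Abelian varieties: smooth geometrically connected versus geometrically integral
-/

set_option autoImplicit false
universe u
open CategoryTheory MonoidalCategory CartesianMonoidalCategory MonObj AlgebraicGeometry

namespace Groth.Agent.AbVarLib.Basics

variable {K : Type u} [Field K]

/-- A smooth morphism to the spectrum of a field is geometrically reduced. -/
theorem geometricallyReduced_of_smooth {X : Scheme.{u}} (f : X ⟶ Spec (CommRingCat.of K)) [Smooth f] :
    GeometricallyReduced f := by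
  refine ⟨geometrically_iff_of_commRing_of_isClosedUnderIsomorphisms.mpr fun L _ _ => ?_⟩
  exact GrpScheme.HomFlat.isReduced_of_smooth (K := L) (Limits.pullback.snd f _)

/-- A connected group scheme over a field is irreducible. -/
theorem irreducibleSpace_of_connectedSpace (G : Over (Spec (CommRingCat.of K))) [GrpObj G]
    [ConnectedSpace G.left] : IrreducibleSpace G.left := by
  rw [irreducibleSpace_def]
  have h := GrpScheme.IdComponent.connectedComponent_eq G
  rw [PreconnectedSpace.connectedComponent_eq_univ] at h
  show IsIrreducible (Set.univ : Set G.left)
  rw [h]
  exact isIrreducible_irreducibleComponent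

theorem connectedSpace (G : Over (Spec (CommRingCat.of K))) [GeometricallyConnected G.hom] :
    ConnectedSpace G.left :=
  GeometricallyConnected.connectedSpace_of_subsingleton G.hom

/-- Smooth geometrically connected group schemes over fields are geometrically integral. -/
theorem geometricallyIntegral (G : Over (Spec (CommRingCat.of K))) [GrpObj G] [Smooth G.hom]
    [GeometricallyConnected G.hom] : GeometricallyIntegral G.hom := by
  have := connectedSpace G
  have := irreducibleSpace_of_connectedSpace G
  have := geometricallyReduced_of_smooth G.hom
  have := GrpScheme.Component.geometricallyIrreducible_of_irreducibleSpace G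
  exact GeometricallyIntegral.of_geometricallyReduced_of_geometricallyIrreducible _

theorem isIntegral_left (G : Over (Spec (CommRingCat.of K))) [GrpObj G] [Smooth G.hom]
    [GeometricallyConnected G.hom] : IsIntegral G.left :=
  have := geometricallyIntegral G
  GeometricallyIntegral.isIntegral_of_subsingleton G.hom

/-- Geometrically integral group schemes locally of finite type over fields are smooth. -/
theorem smooth (G : Over (Spec (CommRingCat.of K))) [GrpObj G] [LocallyOfFiniteType G.hom]
    [GeometricallyIntegral G.hom] : Smooth G.hom :=
  letI : GrpObj (Over.mk G.hom) := ‹GrpObj G›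
  smooth_of_grpObj G.hom

end Groth.Agent.AbVarLib.Basics
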