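import Mathlib

/-!
# Rigidity lemma for proper geometrically integral schemes over a field

* `isIso_appTop` : `Γ(X, O) = K` for `X` proper geometrically integral over `K`;
* `exists_eq_snd_comp` : the rigidity lemma (no rational point of `X` needed).
-/

set_option autoImplicit false
universe u
open CategoryTheory CategoryTheory.Limits AlgebraicGeometry
open scoped TensorProduct

namespace Groth.Agent.AbVarLib.Rigidity

theorem finrank_of_isPushout {R S T P : CommRingCat.{u}} {f : R ⟶ S} {g : R ⟶ T} {inl : S ⟶ P}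
    {inr : T ⟶ P} (h : IsPushout f g inl inr) (hR : IsField R) (hT : IsField T)
    (hinr : Function.Bijective inr.hom) : Function.Bijective f.hom := by
  let _ := hR.toField
  let _ := hT.toField
  algebraize [f.hom, g.hom, inl.hom, inr.hom, inl.hom.comp f.hom]
  have : IsScalarTower R T P := .of_algebraMap_eq' <| congr($(h.1.1).hom)
  have hp : Algebra.IsPushout R S T P := CommRingCat.isPushout_iff_isPushout.mp h
  have e1 : Module.finrank R S = Module.finrank T P := by
    have hb := hp.symm.out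
    rw [← hb.equiv.finrank_eq, Module.finrank_baseChange]
  have e2 : Module.finrank T P = 1 := by
    rw [← (LinearEquiv.ofBijective (Algebra.linearMap T P) hinr).finrank_eq, Module.finrank_self]
  have h1 : Module.finrank R S = 1 := e1.trans e2
  have : Nontrivial S := Module.nontrivial_of_finrank_eq_succ (n := 0) h1
  refine ⟨(algebraMap R S).injective, fun s => ?_⟩
  have := Subalgebra.bot_eq_top_of_finrank_eq_one h1
  exact Algebra.mem_bot.mp (this ▸ Algebra.mem_top (x := s))

variable {K : Type u} [Field K]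

theorem isField_gammaSpec : IsField Γ(Spec (CommRingCat.of K), ⊤) :=
  (Scheme.ΓSpecIso (.of K)).commRingCatIsoToRingEquiv.toMulEquiv.isField (Field.toIsField K)

theorem flat_over_field {X : Scheme.{u}} (p : X ⟶ Spec (CommRingCat.of K)) : Flat p := inferInstance

theorem isPushout_appTop {X Y : Scheme.{u}} (p : X ⟶ Spec (CommRingCat.of K)) [IsProper p]
    (q : Y ⟶ Spec (CommRingCat.of K)) [IsAffine Y] :
    IsPushout p.appTop q.appTop (pullback.fst p q).appTop (pullback.snd p q).appTop := by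
  have : CompactSpace X := QuasiCompact.compactSpace_of_compactSpace p
  have : QuasiSeparatedSpace X := quasiSeparatedSpace_of_quasiSeparated p
  have h := (isIso_pushoutSection_iff (IsPullback.of_hasPullback p q) (US := ⊤) (UT := ⊤) (UX := ⊤)
    (le_of_eq rfl) (le_of_eq rfl) (UY := ⊤) (by simp)).mp
    (isIso_pushoutSection_of_isQuasiSeparated_of_flat_right _ _ _ _ (isAffineOpen_top _)
      (isAffineOpen_top _) isCompact_univ isQuasiSeparated_univ)
  simpa [Scheme.Hom.appTop, Scheme.Hom.app_eq_appLE] using h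

theorem isIso_appTop {X : Scheme.{u}} (p : X ⟶ Spec (CommRingCat.of K)) [IsProper p]
    [GeometricallyIntegral p] : IsIso p.appTop := by
  let q : Spec (CommRingCat.of (AlgebraicClosure K)) ⟶ Spec (CommRingCat.of K) :=
    Spec.map (CommRingCat.ofHom (algebraMap K (AlgebraicClosure K)))
  let s := pullback.snd p q
  have : IsIntegral (pullback p q) := inferInstance
  have hfin := finite_appTop_of_universallyClosed (K := AlgebraicClosure K) s
  have hf := isField_of_universallyClosed (AlgebraicClosure K) s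
  let _ := (isField_gammaSpec (K := AlgebraicClosure K)).toField
  let _ := hf.toField
  have : IsAlgClosed Γ(Spec (CommRingCat.of (AlgebraicClosure K)), ⊤) :=
    IsAlgClosed.of_ringEquiv (AlgebraicClosure K) _
      (Scheme.ΓSpecIso (CommRingCat.of (AlgebraicClosure K))).commRingCatIsoToRingEquiv.symm
  have hs : Function.Bijective s.appTop.hom := by
    algebraize [s.appTop.hom]
    exact IsAlgClosed.algebraMap_bijective_of_isIntegral
  rw [ConcreteCategory.isIso_iff_bijective]
  exact finrank_of_isPushout (isPushout_appTop p q) isField_gammaSpec isField_gammaSpec hs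

theorem isIso_snd_appTop {X Y : Scheme.{u}} (p : X ⟶ Spec (CommRingCat.of K)) [IsProper p]
    [GeometricallyIntegral p] (q : Y ⟶ Spec (CommRingCat.of K)) [IsAffine Y] :
    IsIso (pullback.snd p q).appTop := by
  have := isIso_appTop p
  exact (isPushout_appTop p q).isIso_inr_of_isIso

theorem exists_eq_snd_comp_of_isAffine {X Y U : Scheme.{u}} (p : X ⟶ Spec (CommRingCat.of K))
    [IsProper p] [GeometricallyIntegral p] (q : Y ⟶ Spec (CommRingCat.of K)) [IsAffine Y] [IsAffine U]
    (h : pullback p q ⟶ U) : ∃ g : Y ⟶ U, h = pullback.snd p q ≫ g := by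
  have := isIso_snd_appTop p q
  refine ⟨Y.toSpecΓ ≫ Spec.map (h.appTop ≫ inv (pullback.snd p q).appTop) ≫ U.isoSpec.inv, ?_⟩
  rw [Scheme.toSpecΓ_naturality_assoc, ← Spec.map_comp_assoc, Category.assoc, IsIso.inv_hom_id,
    Category.comp_id, ← Scheme.toSpecΓ_naturality_assoc]
  simp [Scheme.isoSpec]

/-- **Rigidity lemma**: if a morphism `X ×ₖ Y ⟶ Z`, `X` proper geometrically integral, contracts the
fibre over one point of `Y` then it factors through the projection to `Y`. -/
theorem exists_eq_snd_comp {X Y Z : Scheme.{u}} (p : X ⟶ Spec (CommRingCat.of K)) [IsProper p]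
    [GeometricallyIntegral p] (q : Y ⟶ Spec (CommRingCat.of K)) [LocallyOfFiniteType q] [IsIntegral Y]
    (r : Z ⟶ Spec (CommRingCat.of K)) [IsSeparated r]
    (f : pullback p q ⟶ Z) (hf : f ≫ r = pullback.snd p q ≫ q)
    (y : Y) (z : Z) (hyz : ∀ w : ↥(pullback p q), pullback.snd p q w = y → f w = z) :
    ∃! g : Y ⟶ Z, g ≫ r = q ∧ f = pullback.snd p q ≫ g := by
  let π := pullback.snd p q
  have : Flat p := inferInstance
  have : UniversallyOpen p := inferInstance
  have : IsLocallyNoetherian Y := LocallyOfFiniteType.isLocallyNoetherian q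
  have : IsIntegral (pullback p q) := inferInstance
  have : IsLocallyNoetherian (pullback p q) := LocallyOfFiniteType.isLocallyNoetherian (π ≫ q)
  obtain ⟨U, hU, hzU, -⟩ : ∃ U : Z.Opens, IsAffineOpen U ∧ z ∈ U ∧ True := by
    obtain ⟨_, ⟨U, hU, rfl⟩, hz, -⟩ :=
      Z.isBasis_affineOpens.exists_subset_of_mem_open (Set.mem_univ z) isOpen_univ
    exact ⟨U, hU, hz, trivial⟩
  let O : Y.Opens := ⟨(π '' (f ⁻¹' (U : Set Z)ᶜ))ᶜ,
    (π.isClosedMap _ (U.isOpen.isClosed_compl.preimage f.continuous)).isOpen_compl⟩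
  have hyO : y ∈ O := fun ⟨w, hw, hwy⟩ => hw (hyz w hwy ▸ hzU)
  obtain ⟨V, hV, hyV, hVO⟩ : ∃ V : Y.Opens, IsAffineOpen V ∧ y ∈ V ∧ (V : Set Y) ⊆ O := by
    obtain ⟨_, ⟨V, hV, rfl⟩, hyV, hVO⟩ := Y.isBasis_affineOpens.exists_subset_of_mem_open hyO O.isOpen
    exact ⟨V, hV, hyV, hVO⟩
  have : IsAffine V := hV
  have : IsAffine U := hU
  let m : pullback p (V.ι ≫ q) ⟶ pullback p q :=
    pullback.map _ _ _ _ (𝟙 _) V.ι (𝟙 _) (by simp) (by simp)
  have : IsOpenImmersion m := inferInstance
  have hmsnd : m ≫ π = pullback.snd p (V.ι ≫ q) ≫ V.ι := pullback.lift_snd _ _ _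
  have hrange : Set.range (m ≫ f) ⊆ Set.range U.ι := by
    rintro _ ⟨w, rfl⟩
    rw [Scheme.Opens.range_ι, Scheme.Hom.comp_apply]
    by_contra hn
    refine hVO ?_ ⟨m w, hn, rfl⟩
    rw [← Scheme.Hom.comp_apply, hmsnd, Scheme.Hom.comp_apply]
    exact (pullback.snd p (V.ι ≫ q) w).2
  obtain ⟨gV, hgV⟩ := exists_eq_snd_comp_of_isAffine p (V.ι ≫ q) (IsOpenImmersion.lift U.ι (m ≫ f) hrange)
  have key : m ≫ f = pullback.snd p (V.ι ≫ q) ≫ gV ≫ U.ι := by
    rw [← Category.assoc, ← hgV, IsOpenImmersion.lift_fac]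
  -- the two compositions on the kernel pair agree
  have hpair : pullback.fst π π ≫ f = pullback.snd π π ≫ f := by
    let W : (pullback π π).Opens := (pullback.fst π π ≫ π) ⁻¹ᵁ V
    have : IsIntegral (pullback π π) := inferInstance
    have : Nonempty W := by
      obtain ⟨w, hw⟩ := (pullback.fst π π ≫ π).surjective y
      exact ⟨⟨w, show (pullback.fst π π ≫ π) w ∈ V from hw ▸ hyV⟩⟩
    have : IsDominant W.ι := ⟨by
      rw [DenseRange, Scheme.Opens.range_ι]
      exact W.isOpen.dense ⟨_, (Classical.arbitrary W).2⟩⟩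
    have hm : Set.range m = π ⁻¹' (V : Set Y) := by
      ext w
      constructor
      · rintro ⟨v, rfl⟩
        rw [Set.mem_preimage, ← Scheme.Hom.comp_apply, hmsnd, Scheme.Hom.comp_apply]
        exact (pullback.snd p (V.ι ≫ q) v).2
      · intro hw
        rw [show Set.range m = Set.range (pullback.map p (V.ι ≫ q) p q (𝟙 _) V.ι (𝟙 _) (by simp) (by simp)) from rfl,
          Scheme.Pullback.range_map]
        refine ⟨by simp, ?_⟩
        rw [Set.mem_preimage, Scheme.Opens.range_ι]
        exact hw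
    have hlift : ∀ (b : pullback π π ⟶ pullback p q), b ≫ π = pullback.fst π π ≫ π →
        ∃ a : (W : Scheme.{u}) ⟶ pullback p (V.ι ≫ q), a ≫ m = W.ι ≫ b := by
      intro b hb
      refine ⟨IsOpenImmersion.lift m (W.ι ≫ b) ?_, IsOpenImmersion.lift_fac _ _ _⟩
      rintro _ ⟨w, rfl⟩
      rw [hm, Set.mem_preimage, ← Scheme.Hom.comp_apply, Category.assoc, hb]
      exact w.2
    obtain ⟨a₁, ha₁⟩ := hlift (pullback.fst π π) rfl
    obtain ⟨a₂, ha₂⟩ := hlift (pullback.snd π π) pullback.condition.symm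
    have ha : a₁ ≫ pullback.snd p (V.ι ≫ q) = a₂ ≫ pullback.snd p (V.ι ≫ q) := by
      rw [← cancel_mono V.ι, Category.assoc, Category.assoc, ← hmsnd, reassoc_of% ha₁, reassoc_of% ha₂,
        pullback.condition]
    refine ext_of_isDominant_of_isSeparated r (by simp [hf, π, reassoc_of% pullback.condition (f := π) (g := π)]) W.ι ?_
    rw [← Category.assoc, ← ha₁, ← Category.assoc, ← ha₂, Category.assoc, Category.assoc, key,
      reassoc_of% ha]
  have hdesc : ∀ {W : Scheme.{u}} (g₁ g₂ : W ⟶ pullback p q), g₁ ≫ π = g₂ ≫ π → g₁ ≫ f = g₂ ≫ f :=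
    fun g₁ g₂ e => by
      rw [← pullback.lift_fst g₁ g₂ e, Category.assoc, hpair, pullback.lift_snd_assoc]
  have : Epi π := Flat.epi_of_flat_of_surjective π
  refine ⟨EffectiveEpi.desc π f hdesc, ⟨?_, (EffectiveEpi.fac π f hdesc).symm⟩, fun g ⟨_, hg⟩ => ?_⟩
  · rw [← cancel_epi π, EffectiveEpi.fac_assoc, hf]
  · rw [← cancel_epi π, EffectiveEpi.fac]; exact hg.symm

open MonoidalCategory CartesianMonoidalCategory

/-- Rigidity in `Over (Spec K)`. -/
theorem exists_eq_snd_comp_over {X Y Z : Over (Spec (CommRingCat.of K))} [IsProper X.hom]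
    [GeometricallyIntegral X.hom] [LocallyOfFiniteType Y.hom] [IsIntegral Y.left] [IsSeparated Z.hom]
    (f : X ⊗ Y ⟶ Z) {T : Over (Spec (CommRingCat.of K))} [Subsingleton T.left] [Nonempty T.left]
    (y₀ : T ⟶ Y) (z₀ : T ⟶ Z) (h : (X ◁ y₀) ≫ f = snd X T ≫ z₀) :
    ∃! g : Y ⟶ Z, f = snd X Y ≫ g := by
  let t : T.left := Classical.arbitrary _
  obtain ⟨g, ⟨hg1, hg2⟩, huniq⟩ := exists_eq_snd_comp X.hom Y.hom Z.hom f.left
    ((Over.w f).trans pullback.condition) (y₀.left t) (z₀.left t) (fun w hw => by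
      obtain ⟨v, rfl⟩ : w ∈ Set.range (X ◁ y₀).left := by
        rw [Over.whiskerLeft_left, Scheme.Pullback.range_map]
        exact ⟨by simp, t, hw.symm⟩
      rw [← Scheme.Hom.comp_apply, ← Over.comp_left, h, Over.comp_left, Scheme.Hom.comp_apply]
      exact congrArg z₀.left (Subsingleton.elim _ _))
  exact ⟨Over.homMk g hg1, Over.OverMorphism.ext hg2, fun g' hg' =>
    Over.OverMorphism.ext (huniq g'.left ⟨Over.w g', congrArg CommaMorphism.left hg'⟩)⟩

end Groth.Agent.AbVarLib.Rigidity
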