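import Groth.Agent.Cube.Main
import Groth.Agent.PicZero.Dual
import Groth.Agent.AbVarLib.Basics
import Groth.Agent.AbVarLib.Rigidity

/-!
# Bilinearity of classes rigidified on both axes, and the Poincaré class

By the theorem of the cube a class on a product of two abelian varieties which is trivial on both axes is additive
in each variable.  A Poincaré class of a given dual is trivial on both axes.
-/

set_option autoImplicit false
universe u

open CategoryTheory CategoryTheory.Limits MonoidalCategory CartesianMonoidalCategory MonObj AlgebraicGeometry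

noncomputable section

namespace Groth.Agent.AbVarLib.Bilin

open scoped Groth.Agent.PicLaw
open PicLaw (pl)
open PicLaw.Mumford (op)

variable {k : Type u} [Field k] {X Z : Over (Spec (CommRingCat.of k))} [GrpObj X] [GrpObj Z]
  [IsProper X.hom] [GeometricallyIntegral X.hom] [IsProper Z.hom] [GeometricallyIntegral Z.hom]
  (c : PicLoc.PicSet (X ⊗ Z).left)
  (hl : op (lift (1 : Z ⟶ X) (𝟙 Z)) c = 1) (hr : op (lift (𝟙 X) (1 : X ⟶ Z)) c = 1)

omit [IsProper X.hom] [GeometricallyIntegral X.hom] [IsProper Z.hom] [GeometricallyIntegral Z.hom] in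
include hl in
theorem op_one_left {T : Over (Spec (CommRingCat.of k))} (g : T ⟶ Z) : op (lift (1 : T ⟶ X) g) c = 1 := by
  rw [show lift (1 : T ⟶ X) g = g ≫ lift 1 (𝟙 Z) by
    rw [comp_lift, MonObj.comp_one, Category.comp_id], PicLaw.Mumford.op_comp, hl, map_one]

omit [IsProper X.hom] [GeometricallyIntegral X.hom] [IsProper Z.hom] [GeometricallyIntegral Z.hom] in
include hr in
theorem op_one_right {T : Over (Spec (CommRingCat.of k))} (f : T ⟶ X) : op (lift f (1 : T ⟶ Z)) c = 1 := by
  rw [show lift f (1 : T ⟶ Z) = f ≫ lift (𝟙 X) 1 by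
    rw [comp_lift, MonObj.comp_one, Category.comp_id], PicLaw.Mumford.op_comp, hr, map_one]

include hl hr in
/-- Additivity in the second variable. -/
theorem op_mul_right {T : Over (Spec (CommRingCat.of k))} (f : T ⟶ X) (g h : T ⟶ Z) :
    op (lift f (g * h)) c = op (lift f g) c * op (lift f h) c := by
  have := Rigidity.isIso_appTop X.hom
  have := Rigidity.isIso_appTop Z.hom
  have key : op (lift (fst X (Z ⊗ Z)) (snd X (Z ⊗ Z) ≫ fst Z Z * snd X (Z ⊗ Z) ≫ snd Z Z)) c /
      (op (lift (fst X (Z ⊗ Z)) (snd X (Z ⊗ Z) ≫ fst Z Z)) c *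
        op (lift (fst X (Z ⊗ Z)) (snd X (Z ⊗ Z) ≫ snd Z Z)) c) = 1 := by
    refine Cube.Global.eq_one (X := X) (Y := Z) (Z := Z) η[X] η[Z] η[Z] _ ?_ ?_ ?_
    all_goals
      simp only [map_div, map_mul, ← PicLaw.Mumford.op_comp, comp_lift, MonObj.comp_mul, Cube.Local.slX,
        Cube.Local.slY, lift_fst, lift_snd_assoc, whiskerLeft_fst, whiskerLeft_snd_assoc, lift_snd,
        Category.assoc, Category.id_comp, ← Hom.one_def, MonObj.comp_one, Category.comp_id]
    · simp only [op_one_left c hl, _root_.one_mul, div_one]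
    · simp only [_root_.one_mul, op_one_right c hr, div_self']
    · simp only [_root_.mul_one, op_one_right c hr, div_self']
  have h' := congrArg (op (lift f (lift g h))) (div_eq_one.mp key)
  simp only [map_mul, ← PicLaw.Mumford.op_comp, comp_lift, MonObj.comp_mul, lift_fst, lift_snd_assoc,
    lift_snd] at h'
  exact h'

include hl hr in
/-- Additivity in the first variable. -/
theorem op_mul_left {T : Over (Spec (CommRingCat.of k))} (f g : T ⟶ X) (h : T ⟶ Z) :
    op (lift (f * g) h) c = op (lift f h) c * op (lift g h) c := by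
  have := Rigidity.isIso_appTop X.hom
  have := Rigidity.isIso_appTop Z.hom
  have key : op (lift (fst X (X ⊗ Z) * snd X (X ⊗ Z) ≫ fst X Z) (snd X (X ⊗ Z) ≫ snd X Z)) c /
      (op (lift (fst X (X ⊗ Z)) (snd X (X ⊗ Z) ≫ snd X Z)) c *
        op (lift (snd X (X ⊗ Z) ≫ fst X Z) (snd X (X ⊗ Z) ≫ snd X Z)) c) = 1 := by
    refine Cube.Global.eq_one (X := X) (Y := X) (Z := Z) η[X] η[X] η[Z] _ ?_ ?_ ?_
    all_goals
      simp only [map_div, map_mul, ← PicLaw.Mumford.op_comp, comp_lift, MonObj.comp_mul, Cube.Local.slX,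
        Cube.Local.slY, lift_fst, lift_snd_assoc, whiskerLeft_fst, whiskerLeft_snd_assoc, lift_snd,
        Category.assoc, Category.id_comp, ← Hom.one_def, MonObj.comp_one, Category.comp_id]
    · simp only [_root_.one_mul, op_one_left c hl, div_self']
    · simp only [_root_.mul_one, op_one_left c hl, div_self']
    · simp only [op_one_right c hr, _root_.one_mul, div_one]
  have h' := congrArg (op (lift f (lift g h))) (div_eq_one.mp key)
  simp only [map_mul, ← PicLaw.Mumford.op_comp, comp_lift, MonObj.comp_mul, lift_fst, lift_snd_assoc,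
    lift_snd] at h'
  exact h'

include hl hr in
theorem op_pow_right {T : Over (Spec (CommRingCat.of k))} (f : T ⟶ X) (g : T ⟶ Z) (n : ℕ) :
    op (lift f (g ^ n)) c = op (lift f g) c ^ n := by
  induction n with
  | zero => rw [pow_zero, pow_zero, op_one_right c hr]
  | succ n ih => rw [pow_succ, pow_succ, op_mul_right c hl hr, ih]

include hl hr in
theorem op_pow_left {T : Over (Spec (CommRingCat.of k))} (f : T ⟶ X) (g : T ⟶ Z) (n : ℕ) :
    op (lift (f ^ n) g) c = op (lift f g) c ^ n := by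
  induction n with
  | zero => rw [pow_zero, pow_zero, op_one_left c hl]
  | succ n ih => rw [pow_succ, pow_succ, op_mul_left c hl hr, ih]

include hl hr in
theorem op_inv_right {T : Over (Spec (CommRingCat.of k))} (f : T ⟶ X) (g : T ⟶ Z) :
    op (lift f g⁻¹) c * op (lift f g) c = 1 := by
  rw [← op_mul_right c hl hr, inv_mul_cancel, op_one_right c hr]

include hl hr in
theorem op_inv_left {T : Over (Spec (CommRingCat.of k))} (f : T ⟶ X) (g : T ⟶ Z) :
    op (lift f⁻¹ g) c * op (lift f g) c = 1 := by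
  rw [← op_mul_left c hl hr, inv_mul_cancel, op_one_left c hl]

theorem zero_op {S : Scheme.{u}} {X : Over S} {T T' : Over S} (g : T' ⟶ T) (c : PicLoc.PicSet (X ⊗ T).left)
    (hc : PicZero.Zero T c) : PicZero.Zero T' (op (X ◁ g) c) := by
  obtain ⟨L, hL, rfl⟩ := PicGrp.exists_eq_cls c
  refine PicZero.zero_of_family _ fun Ω _ _ σ => ?_
  let σ' : Spec (CommRingCat.of Ω) ⟶ T.left := σ ≫ g.left
  have : Subsingleton ↥(Spec (CommRingCat.of Ω)) := inferInstanceAs (Subsingleton (PrimeSpectrum Ω))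
  obtain ⟨w⟩ : Nonempty ↥(Spec (CommRingCat.of Ω)) := inferInstanceAs (Nonempty (PrimeSpectrum Ω))
  have hr : Set.range σ'.base = {σ' w} := Set.eq_singleton_iff_unique_mem.mpr
    ⟨⟨w, rfl⟩, by rintro _ ⟨w', rfl⟩; rw [Subsingleton.elim w' w]⟩
  obtain ⟨F, q, h1, h2, h3, M, hM, t, t₀, ht, ht₀, ⟨e₁⟩, ⟨e₀⟩⟩ := (PicZero.zero_iff hL).mp hc (σ' w) Ω σ' hr
  let pY := pullback.snd (snd X T').left σ
  let qY := pullback.snd (PicF.XTproj X.hom T) σ'
  let ψ : pullback (snd X T').left σ ⟶ pullback (PicF.XTproj X.hom T) σ' :=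
    pullback.lift (pullback.fst _ _ ≫ (X ◁ g).left) pY (by
      have h : (X ◁ g).left ≫ (snd X T).left = (snd X T').left ≫ g.left := by
        rw [← Over.comp_left, whiskerLeft_snd]; rfl
      show (_ ≫ (X ◁ g).left) ≫ (snd X T).left = pY ≫ σ ≫ g.left
      rw [Category.assoc, h, ← Category.assoc, pullback.condition, Category.assoc])
  have hψ : ψ ≫ qY = pY := pullback.lift_snd _ _ _
  let Ψ : pullback pY q ⟶ pullback qY q := pullback.map _ _ _ _ ψ (𝟙 _) (𝟙 _) (by rw [hψ, Category.comp_id]) (by simp)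
  have hsl : ∀ (s : Spec (CommRingCat.of Ω) ⟶ F) (hs : s ≫ q = 𝟙 _),
      pullback.lift (𝟙 _) (pY ≫ s) (by simp [hs]) ≫ Ψ =
        ψ ≫ pullback.lift (𝟙 _) (qY ≫ s) (by simp [hs]) := by
    intro s hs
    apply pullback.hom_ext
    · refine ((Category.assoc _ _ _).trans ?_).trans (Category.assoc _ _ _).symm
      refine Eq.trans (congrArg (_ ≫ ·) (pullback.lift_fst _ _ _)) ?_
      refine Eq.trans ?_ (congrArg (ψ ≫ ·) (pullback.lift_fst _ _ _)).symm
      refine (pullback.lift_fst_assoc _ _ _ _).trans ?_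
      exact (Category.id_comp ψ).trans (Category.comp_id ψ).symm
    · refine ((Category.assoc _ _ _).trans ?_).trans (Category.assoc _ _ _).symm
      refine Eq.trans (congrArg (_ ≫ ·) (pullback.lift_snd _ _ _)) ?_
      refine Eq.trans ?_ (congrArg (ψ ≫ ·) (pullback.lift_snd _ _ _)).symm
      refine (pullback.lift_snd_assoc _ _ _ _).trans ?_
      exact (Category.comp_id _).trans ((congrArg (· ≫ s) hψ).symm.trans (Category.assoc _ _ _))
  refine ⟨F, q, h1, h2, h3, pl Ψ (PicGrp.cls M hM), t, t₀, ht, ht₀, ?_, ?_⟩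
  · rw [← PicLaw.pl_comp, hsl t ht, PicLaw.pl_comp]
    have h := (PicLaw.iso_iff (PicLoc.isInvertible_pullback _ hM) (PicLoc.isInvertible_pullback _ hL)).mp ⟨e₁⟩
    rw [PicLaw.cls_pullback _ hL] at h
    refine (congrArg (pl ψ) ((PicLaw.cls_pullback _ hM).symm.trans h)).trans ?_
    rw [← PicLaw.pl_comp, PicLaw.Mumford.op, ← PicLaw.pl_comp]
    exact PicLaw.pl_congr (pullback.lift_fst _ _ _) _
  · rw [← PicLaw.pl_comp, hsl t₀ ht₀, PicLaw.pl_comp]
    have h := (PicGrp.cls_eq_one_iff (PicLoc.isInvertible_pullback _ hM)).mpr ⟨e₀⟩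
    exact (congrArg (pl ψ) ((PicLaw.cls_pullback _ hM).symm.trans h)).trans (map_one _)

section poincare

variable {A At : Over (Spec (CommRingCat.of k))} [GrpObj A] [GrpObj At]

theorem cls_val {W : Scheme.{u}} {L : W.Modules} (hL : PicF.IsInvertible L) : (PicGrp.cls L hL).1 = PicF.cl L := rfl

theorem poincare_left {φ : ∀ T : Over (Spec (CommRingCat.of k)), PicF.Cl (PicF.XT A.hom T) → (T ⟶ At)}
    {P : (PicF.XT A.hom At).Modules} (hP : PicF.IsInvertible P)
    (hξ : AbDual.IsPoincareCl A At φ (PicF.cl P)) :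
    op (lift (1 : At ⟶ A) (𝟙 At)) (PicGrp.cls P hP : PicLoc.PicSet (A ⊗ At).left) = 1 := by
  have e : (lift (1 : At ⟶ A) (𝟙 At)).left = PicF.secT A.hom η[A].left (Over.w η[A]) At := by
    apply pullback.hom_ext
    · refine Eq.trans (congrArg CommaMorphism.left (lift_fst (1 : At ⟶ A) (𝟙 At))) ?_
      rw [Hom.one_def, PicF.secT, pullback.lift_fst]
      rfl
    · refine Eq.trans (congrArg CommaMorphism.left (lift_snd (1 : At ⟶ A) (𝟙 At))) ?_
      rw [PicF.secT, pullback.lift_snd]
      rfl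
  apply Subtype.ext
  rw [PicZero.pl_val, e, ← PicLaw.cls_one, cls_val]
  exact hξ.2.2

theorem poincare_right [IsProper A.hom] [GeometricallyIntegral A.hom]
    {φ : ∀ T : Over (Spec (CommRingCat.of k)), PicF.Cl (PicF.XT A.hom T) → (T ⟶ At)}
    (hφ : AbDual.IsDualAV Scheme.fppfPrecoverage A At φ)
    {P : (PicF.XT A.hom At).Modules} (hP : PicF.IsInvertible P)
    (hξ : AbDual.IsPoincareCl A At φ (PicF.cl P)) :
    op (lift (𝟙 A) (1 : A ⟶ At)) (PicGrp.cls P hP : PicLoc.PicSet (A ⊗ At).left) = 1 := by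
  set c : PicLoc.PicSet (A ⊗ At).left := PicGrp.cls P hP
  have hc : PicZero.Zero At c := hξ.1
  let d : PicLoc.PicSet A.left := op (lift (𝟙 A) (1 : A ⟶ At)) c
  show d = 1
  let U := 𝟙_ (Over (Spec (CommRingCat.of k)))
  let e : PicLoc.PicSet (A ⊗ U).left := op (A ◁ η[At]) c
  have hed : op (fst A U) d = e := by
    rw [← PicLaw.Mumford.op_comp]
    congr 2
    apply CartesianMonoidalCategory.hom_ext
    · simp [U]
    · rw [Category.assoc, lift_snd, MonObj.comp_one, whiskerLeft_snd, Hom.one_def]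
      congr 1
      exact toUnit_unique _ _
  have he0 : PicZero.Zero U e := zero_op η[At] c hc
  have hφe : φ U e.1 = φ U (1 : PicLoc.PicSet (A ⊗ U).left).1 := by
    rw [PicZero.pt_one hφ, PicZero.pt_natural hφ _ _ hc, show φ At c.1 = 𝟙 At from hξ.2.1, Category.comp_id,
      Hom.one_def, toUnit_unique (toUnit U) (𝟙 _), Category.id_comp]
  obtain ⟨R, hR, hu⟩ := PicZero.pt_locallyInjective hφ e 1 he0 (PicZero.zero_one U) hφe
  obtain ⟨p₀⟩ : Nonempty U.left := inferInstanceAs (Nonempty (PrimeSpectrum k))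
  obtain ⟨W, u, hu', p, -⟩ := Scheme.JointlySurjective.exists_eq (K := Scheme.precoverage (@Flat ⊓ @LocallyOfFinitePresentation)) R hR p₀
  let F := W.residueField p
  let g : Spec (CommRingCat.of F) ⟶ U.left := W.fromSpecResidueField p ≫ u
  obtain ⟨ψ, hψ⟩ : ∃ ψ : CommRingCat.of k ⟶ CommRingCat.of F, Spec.map ψ = g :=
    ⟨Spec.preimage g, Spec.map_preimage g⟩
  let gs : Over.mk g ⟶ U := Over.homMk g (Category.comp_id g)
  let gr : Over.mk g ⟶ AbDual.ovr U u := Over.homMk (W.fromSpecResidueField p) (by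
    show W.fromSpecResidueField p ≫ u ≫ U.hom = g
    exact congrArg (W.fromSpecResidueField p ≫ ·) (Category.comp_id u))
  have h1 : op (fst A (Over.mk g)) d = 1 := by
    have hg : gs = gr ≫ AbDual.ovrHom U u := Over.OverMorphism.ext rfl
    rw [show fst A (Over.mk g) = (A ◁ gs) ≫ fst A U by simp, PicLaw.Mumford.op_comp, hed, hg,
      MonoidalCategory.whiskerLeft_comp, PicLaw.Mumford.op_comp, hu u hu', map_one, map_one]
  obtain ⟨L, hL, hd⟩ := PicGrp.exists_eq_cls d
  rw [hd] at h1 ⊢
  refine (PicGrp.cls_eq_one_iff _).mpr ?_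
  have := Rigidity.isIso_appTop A.hom
  have : Nonempty A.left := ⟨η[A].left p₀⟩
  exact Cube.Descent.trivial_of_extension (q := A.hom) ψ.hom
    (Cube.Local.surjective_str A)
    (by rw [CommRingCat.ofHom_hom, hψ]; exact IsPullback.of_hasPullback A.hom g) hL
    ((Cube.Local.cls_op_eq_one _ hL).mp h1)

end poincare

end Groth.Agent.AbVarLib.Bilin

namespace Groth.Agent.AbVarLib.Bilin

open scoped Groth.Agent.PicLaw

theorem exists_cls_tensorPow {W : Scheme.{u}} {L : W.Modules} (hL : PicF.IsInvertible L) (n : ℕ) :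
    ∃ h : PicF.IsInvertible (CohB1.tensorPow L n), PicGrp.cls _ h = PicGrp.cls L hL ^ n := by
  induction n with
  | zero => exact ⟨PicLoc.isInvertible_structureModule W, by rw [pow_zero]; exact PicLaw.cls_one⟩
  | succ n ih =>
    obtain ⟨h, e⟩ := ih
    exact ⟨PicLaw.isInvertible_tensor h hL, by rw [pow_succ, ← e]; exact PicLaw.cls_tensor h hL⟩

theorem bcMap_eq {S : Scheme.{u}} {A B : Over S} (f : A ⟶ B) (T : Over S) :
    AbDual.bcMap f T = (f ▷ T).left := by
  apply pullback.hom_ext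
  · exact (pullback.lift_fst _ _ _).trans (congrArg CommaMorphism.left (whiskerRight_fst f T)).symm
  · refine (pullback.lift_snd _ _ _).trans (Eq.trans ?_ (congrArg CommaMorphism.left (whiskerRight_snd f T)).symm)
    exact Category.comp_id _

end Groth.Agent.AbVarLib.Bilin
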