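import Groth.Prelude.Def_Coh
import Mathlib.LinearAlgebra.FiniteDimensional.Basic

/-!
# A scheme over a field with one dimensional `H⁰` has only constant global functions
-/

set_option autoImplicit false
universe u
open CategoryTheory AlgebraicGeometry Opposite TopologicalSpace

namespace Groth.Agent.AbVarLib.H0Field

variable {X : Scheme.{u}}

/-- `H⁰(X, O_X) = Γ(X, O_X)` as additive groups. -/
noncomputable def h0Equiv (X : Scheme.{u}) :
    Coh.HH X (Coh.structureModule X) 0 ≃+ Coh.Γtop X :=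
  Sheaf.H.equiv₀ (Coh.toAb (Coh.structureModule X)) CategoryTheory.Limits.isTerminalTop

theorem h0Equiv_smul {A : Type u} [CommRing A] [X.Over (Spec (CommRingCat.of A))] (a : A)
    (x : Coh.HH X (Coh.structureModule X) 0) :
    h0Equiv X (a • x) = Coh.toGlobal (X ↘ Spec (CommRingCat.of A)) a * h0Equiv X x := by
  show Sheaf.H.equiv₀ (Coh.toAb (Coh.structureModule X)) CategoryTheory.Limits.isTerminalTop
    (Sheaf.H.map (Coh.smulAb (Coh.structureModule X) (Coh.toGlobal (X ↘ Spec (CommRingCat.of A)) a)) 0 x) = _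
  rw [← Sheaf.H.equiv₀_naturality, Coh.smulAb_app]
  congr 1
  exact congrArg (fun q : X.ringCatSheaf.obj.obj (op ⊤) ⟶ _ => q.hom _)
    (X.ringCatSheaf.obj.map_id (op ⊤))

theorem bijective_toGlobal {k : Type u} [Field k] [X.Over (Spec (CommRingCat.of k))]
    (h : Module.finrank k (Coh.HH X (Coh.structureModule X) 0) = 1) :
    Function.Bijective (Coh.toGlobal (X ↘ Spec (CommRingCat.of k))) := by
  obtain ⟨v, hv, hspan⟩ := finrank_eq_one_iff'.mp h
  have hnt : Nontrivial (Coh.Γtop X) :=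
    ⟨⟨h0Equiv X v, 0, fun h' => hv ((h0Equiv X).injective (h'.trans (map_zero _).symm))⟩⟩
  refine ⟨RingHom.injective _, fun w => ?_⟩
  obtain ⟨c₁, hc₁⟩ := hspan ((h0Equiv X).symm 1)
  obtain ⟨c₂, hc₂⟩ := hspan ((h0Equiv X).symm w)
  have e₁ : Coh.toGlobal (X ↘ Spec (CommRingCat.of k)) c₁ * h0Equiv X v = 1 := by
    rw [← h0Equiv_smul, hc₁, AddEquiv.apply_symm_apply]
  have e₂ : Coh.toGlobal (X ↘ Spec (CommRingCat.of k)) c₂ * h0Equiv X v = w := by
    rw [← h0Equiv_smul, hc₂, AddEquiv.apply_symm_apply]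
  have hc : c₁ ≠ 0 := by
    rintro rfl
    rw [map_zero] at e₁
    exact zero_ne_one ((zero_mul _).symm.trans e₁)
  refine ⟨c₂ / c₁, ?_⟩
  calc Coh.toGlobal (X ↘ Spec (CommRingCat.of k)) (c₂ / c₁)
      = Coh.toGlobal (X ↘ Spec (CommRingCat.of k)) (c₂ / c₁) *
          (Coh.toGlobal (X ↘ Spec (CommRingCat.of k)) c₁ * h0Equiv X v) := by rw [e₁]; exact (_root_.mul_one _).symm
    _ = w := by rw [← _root_.mul_assoc, ← map_mul, div_mul_cancel₀ _ hc, e₂]

theorem bijective_appTop {k : Type u} [Field k] [X.Over (Spec (CommRingCat.of k))]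
    (h : Module.finrank k (Coh.HH X (Coh.structureModule X) 0) = 1) :
    Function.Bijective (X ↘ Spec (CommRingCat.of k)).appTop.hom := by
  have h1 := bijective_toGlobal h
  have h2 : Function.Bijective (Scheme.ΓSpecIso (CommRingCat.of k)).inv.hom :=
    ConcreteCategory.bijective_of_isIso (Scheme.ΓSpecIso (CommRingCat.of k)).inv
  exact (Function.Bijective.of_comp_iff _ h2).mp h1

end Groth.Agent.AbVarLib.H0Field
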