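import Groth.Agent.AbVarLib.HomFactor
import Groth.Prelude.Def_EndTate

/-!
# The group of homomorphisms of abelian varieties over an algebraically closed field
-/

set_option autoImplicit false
universe u

open CategoryTheory CategoryTheory.Limits MonoidalCategory CartesianMonoidalCategory MonObj AlgebraicGeometry

noncomputable section

namespace Groth.Agent.AbVarLib.HomLattice

variable {K : Type u} [Field K] [IsAlgClosed K] {A B : Over (Spec (CommRingCat.of K))}
  [GrpObj A] [IsCommMonObj A] [IsProper A.hom] [GeometricallyIntegral A.hom]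
  [GrpObj B] [IsCommMonObj B] [IsProper B.hom] [GeometricallyIntegral B.hom]

local notation "pt" => 𝟙_ (Over (Spec (CommRingCat.of K)))

/-- The underlying morphisms, additively. -/
def toAdd : EndAV.Hom A B →+ Additive (A ⟶ B) where
  toFun φ := Additive.ofMul φ.toHom
  map_zero' := rfl
  map_add' _ _ := rfl

omit [IsAlgClosed K] [IsProper A.hom] [GeometricallyIntegral A.hom] [IsProper B.hom] [GeometricallyIntegral B.hom] in
theorem toAdd_injective : Function.Injective (toAdd : EndAV.Hom A B → _) := fun _ _ h =>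
  EndAV.Hom.ext (congrArg Additive.toMul h)

/-- Integral functionals separate homomorphisms. -/
theorem exists_dual (φ : EndAV.Hom A B) (hφ : φ ≠ 0) : ∃ Λ : EndAV.Hom A B →+ ℤ, Λ φ ≠ 0 := by
  obtain ⟨Λ, hΛ⟩ := CurveFunctional.exists_functional φ.toHom fun h => hφ (EndAV.Hom.ext h)
  exact ⟨(MonoidHom.toAdditiveLeft Λ).comp toAdd, fun h => hΛ h⟩

/-- The functionals of independent homomorphisms span the rational dual. -/
theorem span_eq_top {κ : Type*} [Fintype κ] (e : κ → EndAV.Hom A B) (he : LinearIndependent ℤ e) :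
    Submodule.span ℚ (Set.range fun Λ : EndAV.Hom A B →+ ℤ => fun i => ((Λ (e i) : ℤ) : ℚ)) = ⊤ := by
  classical
  by_contra hne
  obtain ⟨f, hf, hf'⟩ := Submodule.exists_dual_map_eq_bot_of_lt_top (lt_top_iff_ne_top.mpr hne) inferInstance
  obtain ⟨b, hb⟩ := IsLocalization.exist_integer_multiples_of_finite (nonZeroDivisors ℤ)
    (fun i : κ => f (Pi.single i 1))
  choose z hz using hb
  have hb0 : ((b : ℤ) : ℚ) ≠ 0 := Int.cast_ne_zero.mpr (nonZeroDivisors.coe_ne_zero b)
  have hz' : ∀ i, (z i : ℚ) = (b : ℤ) * f (Pi.single i 1) := fun i => by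
    have := hz i
    simpa [zsmul_eq_mul] using this
  have hfv : ∀ v : κ → ℚ, f v = ∑ i, v i * f (Pi.single i 1) := fun v => by
    conv_lhs => rw [show v = ∑ i, v i • Pi.single i (1 : ℚ) from funext fun j => by
      simp [Finset.sum_apply, Pi.single_apply]]
    rw [map_sum]
    exact Finset.sum_congr rfl fun i _ => by rw [map_smul, smul_eq_mul]
  have hzero : ∑ i, z i • e i = 0 := by
    by_contra h
    obtain ⟨Λ, hΛ⟩ := exists_dual _ h
    refine hΛ ?_
    have hmem := hf'.le (Submodule.mem_map_of_mem (f := f) (Submodule.subset_span ⟨Λ, rfl⟩))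
    rw [Submodule.mem_bot, hfv] at hmem
    have h2 : ((Λ (∑ i, z i • e i) : ℤ) : ℚ) = 0 := by
      rw [map_sum, Int.cast_sum]
      calc ∑ i, ((Λ (z i • e i) : ℤ) : ℚ) = ∑ i, ((b : ℤ) : ℚ) * (((Λ (e i) : ℤ) : ℚ) * f (Pi.single i 1)) :=
            Finset.sum_congr rfl fun i _ => by rw [map_zsmul, smul_eq_mul, Int.cast_mul, hz' i]; ring
        _ = 0 := by rw [← Finset.mul_sum, hmem, mul_zero]
    exact_mod_cast h2
  refine hf (LinearMap.ext fun v => ?_)
  rw [hfv, LinearMap.zero_apply]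
  refine Finset.sum_eq_zero fun i _ => ?_
  have h0 : z i = 0 := Fintype.linearIndependent_iff.mp he z hzero i
  have := hz' i
  rw [h0, Int.cast_zero, eq_comm, mul_eq_zero, or_iff_right hb0] at this
  rw [this, mul_zero]

variable (l : ℕ) [hl : Fact l.Prime]

omit [GeometricallyIntegral B.hom] in
/-- A torsion point is the component of a compatible sequence. -/
theorem exists_component (n : ℕ) (a : pt ⟶ A) (ha : a ^ (l ^ n) = 1) :
    ∃ x : AbDual.TateMod A l pt, AbDual.TateMod.component A l pt n x = Additive.ofMul a := by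
  choose g hg using TatePoints.exists_smul_eq A l hl.out.one_le
  have hit : ∀ i, l ^ i • g^[i] (Additive.ofMul a) = Additive.ofMul a := fun i => by
    induction i with
    | zero => rw [pow_zero, one_smul]; rfl
    | succ i ih => rw [pow_succ, mul_smul, Function.iterate_succ_apply', hg, ih]
  have ha' : l ^ n • Additive.ofMul a = 0 := congrArg Additive.ofMul ha
  refine ⟨⟨fun i => (l ^ n) • g^[i] (Additive.ofMul a), fun i => ?_, fun i => ?_⟩, hit n⟩
  · rw [smul_comm, hit, ha']
  · rw [smul_comm, Function.iterate_succ_apply', hg]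

/-- **`ℤ_l ⊗ Hom(A, B) → Hom(T_l A, T_l B)` is injective.** -/
theorem linearIndependent_tateMap (hlK : (l : K) ≠ 0) {κ : Type*} [Fintype κ] (e : κ → EndAV.Hom A B)
    (he : LinearIndependent ℤ e) :
    LinearIndependent ℤ_[l] (fun i => EndAV.Hom.tateMap l pt (e i)) := by
  classical
  rw [Fintype.linearIndependent_iff]
  intro a ha i₀
  have hrel : ∀ Λ : EndAV.Hom A B →+ ℤ, ∑ i, a i * ((Λ (e i) : ℤ) : ℤ_[l]) = 0 := by
    intro Λ
    refine PadicInt.ext_of_toZModPow.1 fun N => ?_
    let φ : EndAV.Hom A B := ∑ i, ((a i).appr N : ℤ) • e i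
    have hkill : ∀ p : pt ⟶ A, p ^ (l ^ N) = 1 → p ≫ φ.toHom = 1 := by
      intro p hp
      obtain ⟨x, hx⟩ := exists_component l N p hp
      have h0 := congrArg (fun u : AbDual.TateMod A l pt →ₗ[ℤ_[l]] AbDual.TateMod B l pt =>
        AbDual.TateMod.component B l pt N (u x)) ha
      simp only [LinearMap.sum_apply, LinearMap.smul_apply, map_sum, LinearMap.zero_apply, map_zero] at h0
      have hsum : EndAV.Hom.ptsMap pt φ (Additive.ofMul p) = 0 := by
        rw [map_sum, AddMonoidHom.finsetSum_apply, ← h0]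
        refine Finset.sum_congr rfl fun i _ => ?_
        rw [map_zsmul, AddMonoidHom.smul_apply, natCast_zsmul, ← hx]
        exact (AbDual.smul_component (a i) (EndAV.Hom.tateMap l pt (e i) x) N).symm
      exact congrArg Additive.toMul hsum
    obtain ⟨ψ, hψ, hfac⟩ := HomFactor.exists_factor φ.toHom (l ^ N)
      (by rw [Nat.cast_pow]; exact pow_ne_zero _ hlK) hkill
    have hdiv : φ = (l ^ N) • EndAV.Hom.of ψ := EndAV.Hom.ext (by
      rw [hfac, HomFactor.pow_id_comp, EndAV.Hom.toHom_nsmul]; rfl)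
    have h := congrArg (fun f => ((Λ f : ℤ) : ZMod (l ^ N))) hdiv
    simp only [φ, map_sum, map_zsmul, map_nsmul, smul_eq_mul, Int.cast_sum, Int.cast_mul, Int.cast_natCast,
      nsmul_eq_mul, ZMod.natCast_self, zero_mul, Int.cast_zero] at h
    rw [map_sum, map_zero]
    refine (Finset.sum_congr rfl fun i _ => ?_).trans h
    rw [map_mul, map_intCast, AbDual.toZModPow_eq_appr]
  let W : Submodule ℚ (κ → ℚ) :=
    { carrier := {v | ∑ i, (a i : ℚ_[l]) * ((v i : ℚ) : ℚ_[l]) = 0}
      zero_mem' := by simp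
      add_mem' := fun {v w} hv hw => by
        simp only [Set.mem_setOf_eq, Pi.add_apply, Rat.cast_add, mul_add, Finset.sum_add_distrib] at hv hw ⊢
        rw [hv, hw, add_zero]
      smul_mem' := fun c v hv => by
        simp only [Set.mem_setOf_eq, Pi.smul_apply, smul_eq_mul, Rat.cast_mul, mul_left_comm _ (c : ℚ_[l]),
          ← Finset.mul_sum] at hv ⊢
        rw [hv, mul_zero] }
  have hW : Submodule.span ℚ (Set.range fun Λ : EndAV.Hom A B →+ ℤ => fun i => ((Λ (e i) : ℤ) : ℚ)) ≤ W := by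
    rw [Submodule.span_le]
    rintro _ ⟨Λ, rfl⟩
    show ∑ i, (a i : ℚ_[l]) * (((Λ (e i) : ℤ) : ℚ) : ℚ_[l]) = 0
    have := congrArg (fun z : ℤ_[l] => (z : ℚ_[l])) (hrel Λ)
    simpa using this
  rw [span_eq_top e he] at hW
  have h := hW (Submodule.mem_top (x := Pi.single i₀ (1 : ℚ)))
  change ∑ i, (a i : ℚ_[l]) * (((Pi.single i₀ (1 : ℚ) : κ → ℚ) i : ℚ) : ℚ_[l]) = 0 at h
  rw [Finset.sum_eq_single i₀ (fun i _ hi => by rw [Pi.single_eq_of_ne hi, Rat.cast_zero, mul_zero])
    (fun h => absurd (Finset.mem_univ _) h), Pi.single_eq_same, Rat.cast_one, _root_.mul_one] at h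
  exact PadicInt.coe_eq_zero.mp h

/-- `rank Hom(A, B) ≤ 4gh`. -/
theorem card_le {g h : ℕ} (hg : topologicalKrullDim A.left = (g : WithBot ℕ∞))
    (hh : topologicalKrullDim B.left = (h : WithBot ℕ∞)) {κ : Type*} [Fintype κ] (e : κ → EndAV.Hom A B)
    (he : LinearIndependent ℤ e) : Fintype.card κ ≤ 4 * g * h := by
  obtain ⟨l, hlp, hlK⟩ : ∃ l : ℕ, l.Prime ∧ (l : K) ≠ 0 := by
    by_cases h2 : ((2 : ℕ) : K) = 0
    · refine ⟨3, Nat.prime_three, fun h3 => one_ne_zero (α := K) ?_⟩
      push_cast at h2 h3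
      linear_combination h3 - h2
    · exact ⟨2, Nat.prime_two, h2⟩
  have := Fact.mk hlp
  obtain ⟨bA⟩ := TatePoints.exists_basis A l hlK g hg
  obtain ⟨bB⟩ := TatePoints.exists_basis B l hlK h hh
  have := Module.Free.of_basis bA
  have := Module.Finite.of_basis bA
  have := Module.Free.of_basis bB
  have := Module.Finite.of_basis bB
  refine (linearIndependent_tateMap l hlK e he).fintype_card_le_finrank.trans ?_
  rw [Module.finrank_linearMap, Module.finrank_eq_card_basis bA, Module.finrank_eq_card_basis bB,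
    Fintype.card_fin, Fintype.card_fin]
  exact le_of_eq (by ring)

/-- **`Hom(A, B)` embeds in a lattice.** -/
theorem exists_injective {g h : ℕ} (hg : topologicalKrullDim A.left = (g : WithBot ℕ∞))
    (hh : topologicalKrullDim B.left = (h : WithBot ℕ∞)) :
    ∃ (n : ℕ) (F : EndAV.Hom A B →ₗ[ℤ] (Fin n → ℤ)), n ≤ 4 * g * h ∧ Function.Injective F := by
  classical
  have : NoZeroSMulDivisors ℤ (EndAV.Hom A B) := ⟨fun {z φ} hz => by
    rcases eq_or_ne z 0 with h0 | h0
    · exact Or.inl h0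
    refine Or.inr (EndAV.Hom.ext (HomFactor.eq_one_of_pow φ.toHom (N := z.natAbs) (Int.natAbs_pos.mpr h0) ?_))
    rcases Int.natAbs_eq z with e | e
    · rw [← EndAV.Hom.toHom_nsmul, ← natCast_zsmul, ← e, hz]; rfl
    · rw [← EndAV.Hom.toHom_nsmul, ← natCast_zsmul, show (z.natAbs : ℤ) = -z by omega, neg_zsmul, hz, neg_zero]; rfl⟩
  have hbound : ∀ (m : ℕ) (e : Fin m → EndAV.Hom A B), LinearIndependent ℤ e → m ≤ 4 * g * h := fun m e he => by
    simpa using card_le hg hh e he
  let P : ℕ → Prop := fun m => ∃ e : Fin m → EndAV.Hom A B, LinearIndependent ℤ e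
  obtain ⟨m, hm, ⟨e, he⟩, hmax⟩ : ∃ m ≤ 4 * g * h, P m ∧ ¬ P (m + 1) := by
    refine ⟨Nat.findGreatest P (4 * g * h), Nat.findGreatest_le _, Nat.findGreatest_spec (P := P)
      (zero_le (a := 4 * g * h)) ⟨Fin.elim0, linearIndependent_empty_type⟩, fun h1 => ?_⟩
    obtain ⟨e', he'⟩ := h1
    have := Nat.le_findGreatest (P := P) (hbound _ _ he') ⟨e', he'⟩
    omega
  let s := Set.range fun Λ : EndAV.Hom A B →+ ℤ => fun i => ((Λ (e i) : ℤ) : ℚ)
  obtain ⟨b, hbs, hspan, hli⟩ := exists_linearIndependent ℚ s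
  let B' := Module.Basis.mk hli (by rw [Subtype.range_coe, hspan, span_eq_top e he])
  have : Fintype b := FiniteDimensional.fintypeBasisIndex B'
  have hcard : Fintype.card b = m := by
    rw [← Module.finrank_eq_card_basis B']; simp
  choose Λ hΛ using fun v : b => hbs v.2
  let ε := Fintype.equivFinOfCardEq hcard
  refine ⟨m, LinearMap.pi fun j => (Λ (ε.symm j)).toIntLinearMap, hm, ?_⟩
  rw [injective_iff_map_eq_zero]
  intro φ hφ
  by_contra hφ0
  have hdep : ¬ LinearIndependent ℤ (Fin.cons φ e : Fin (m + 1) → EndAV.Hom A B) := fun hh' => hmax ⟨_, hh'⟩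
  rw [Fintype.not_linearIndependent_iff] at hdep
  obtain ⟨c, hc, i₁, hi₁⟩ := hdep
  simp only [Fin.sum_univ_succ, Fin.cons_zero, Fin.cons_succ] at hc
  have hv : ∀ v : b, ∑ i, ((c (Fin.succ i) : ℤ) : ℚ) * (v : Fin m → ℚ) i = 0 := fun v => by
    have h1 := congrArg (Λ v) hc
    have h2 : Λ v φ = 0 := by
      have := congrFun hφ (ε v)
      simpa using this
    rw [map_add, map_zsmul, h2, smul_zero, zero_add, map_zero, map_sum] at h1
    simp only [map_zsmul, smul_eq_mul] at h1
    rw [← hΛ v]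
    simp only
    exact_mod_cast h1
  let f : (Fin m → ℚ) →ₗ[ℚ] ℚ := ∑ i, ((c (Fin.succ i) : ℤ) : ℚ) • LinearMap.proj i
  have hf : f = 0 := B'.ext fun v => by
    simpa [f, B', Module.Basis.mk_apply] using hv v
  have hcs : ∀ i : Fin m, c i.succ = 0 := fun i => by
    have := LinearMap.congr_fun hf (Pi.single i 1)
    simpa [f, Pi.single_apply] using this
  have hc0 : c 0 • φ = 0 := by simpa [hcs] using hc
  refine hi₁ ?_
  induction i₁ using Fin.cases with
  | zero => exact (smul_eq_zero.mp hc0).resolve_right hφ0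
  | succ i => exact hcs i

end Groth.Agent.AbVarLib.HomLattice
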