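import Groth.Agent.GrpScheme.Dimension
import Groth.Agent.GrpScheme.HomFlat
import Groth.Agent.AbVarLib.Basics
import Mathlib.AlgebraicGeometry.ZariskisMainTheorem
import Mathlib.RingTheory.Ideal.KrullsHeightTheorem

/-!
# Morphisms between group schemes of the same dimension: flat versus finite
-/

set_option autoImplicit false
universe u
open CategoryTheory MonoidalCategory CartesianMonoidalCategory MonObj AlgebraicGeometry Order

namespace Groth.Agent.AbVarLib.Isogeny

theorem coheight_lt_top {X : Scheme.{u}} [IsLocallyNoetherian X] (x : X) : coheight x < ⊤ := by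
  have h := ringKrullDim_lt_top (R := X.presheaf.stalk x)
  rw [ringKrullDim_stalk_eq_coheight, show (⊤ : WithBot ℕ∞) = ((⊤ : ℕ∞) : WithBot ℕ∞) from rfl] at h
  exact WithBot.coe_lt_coe.mp h

/-- Codimension does not go down along flat morphisms. -/
theorem coheight_apply_le {X Y : Scheme.{u}} (f : X ⟶ Y) [Flat f] (x : X) :
    coheight (f x) ≤ coheight x := by
  have key : ∀ (n : ℕ) (x : X), (n : ℕ∞) ≤ coheight (f x) → (n : ℕ∞) ≤ coheight x := by
    intro n
    induction n with
    | zero => intro x _; simp
    | succ n ih =>
      intro x hn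
      obtain ⟨p, hp, hlen⟩ := exists_series_of_le_coheight (f x) hn
      let one : Fin (p.length + 1) := ⟨1, by omega⟩
      have h01 : p 0 < p one := p.strictMono (by simp [one, Fin.lt_def])
      have hp0 : p 0 = f x := hp
      obtain ⟨a, hax, hfa⟩ := Flat.generalizingMap f
        (show p one ⤳ f x from hp0 ▸ h01.le)
      have hne : x < a := lt_iff_le_not_ge.mpr ⟨hax, fun h => h01.not_ge (by
        show p 0 ⤳ p one
        rw [hp0, ← hfa]
        exact (show x ⤳ a from h).map f.continuous)⟩
      have : (n : ℕ∞) ≤ coheight (f a) := by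
        rw [hfa]
        refine le_trans ?_ (length_le_coheight (p := p.drop one) (le_of_eq ?_))
        · simp [hlen, one]
        · simp [RelSeries.head, RelSeries.drop, one]
      calc ((n + 1 : ℕ) : ℕ∞) = (n : ℕ∞) + 1 := by simp
        _ ≤ coheight a + 1 := by gcongr; exact ih a this
        _ ≤ coheight x := coheight_add_one_le hne
  rcases eq_or_ne (coheight x) ⊤ with h | h
  · rw [h]; exact le_top
  · obtain ⟨m, hm⟩ := ENat.ne_top_iff_exists.mp h
    by_contra hlt
    rw [← hm, not_le] at hlt
    have := key (m + 1) x (by exact_mod_cast Order.add_one_le_of_lt hlt)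
    rw [← hm] at this
    norm_cast at this
    omega

variable {K : Type u} [Field K] {G H : Over (Spec (CommRingCat.of K))}
  [GrpObj G] [GrpObj H] [LocallyOfFiniteType G.hom] [LocallyOfFiniteType H.hom]

/-- A proper flat morphism between group schemes of the same dimension is finite. -/
theorem isFinite_of_flat [CompactSpace G.left] (f : G ⟶ H) [IsProper f.left] [Flat f.left]
    (hdim : topologicalKrullDim G.left = topologicalKrullDim H.left) : IsFinite f.left := by
  have := LocallyOfFiniteType.jacobsonSpace G.hom
  have := LocallyOfFiniteType.jacobsonSpace H.hom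
  have := LocallyOfFiniteType.isLocallyNoetherian G.hom
  have : IsNoetherian G.left := ⟨⟩
  -- no specializations inside fibres over closed points
  have hclosed : ∀ (w : G.left), IsClosed {f.left w} → IsClosed {w} := by
    intro w hy
    obtain ⟨x₀, hx₀, hx₀c⟩ := nonempty_inter_closedPoints (Z := closure {w}) ⟨w, subset_closure rfl⟩
      isClosed_closure.isLocallyClosed
    have hs : w ⤳ x₀ := specializes_iff_mem_closure.mpr hx₀
    have hfx : f.left x₀ = f.left w := by
      have := (hs.map f.left.continuous).mem_closed hy rfl
      exact this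
    by_contra hw
    have hlt : x₀ < w := lt_iff_le_not_ge.mpr ⟨hs, fun h => hw (by
      rw [← (hs.antisymm (show x₀ ⤳ w from h)).eq] at hx₀c
      exact hx₀c)⟩
    have e : coheight x₀ = coheight (f.left w) := by
      have h1 := GrpScheme.Dimension.coheight_eq_topologicalKrullDim G x₀ hx₀c
      have h2 := GrpScheme.Dimension.coheight_eq_topologicalKrullDim H (f.left w) hy
      rw [hdim, ← h2] at h1
      exact WithBot.coe_inj.mp h1
    have h3 : coheight w + 1 ≤ coheight x₀ := coheight_add_one_le hlt
    have h4 := (add_le_add_left (coheight_apply_le f.left w) 1).trans h3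
    rw [← e] at h4
    exact ((ENat.lt_add_one_iff (coheight_lt_top x₀).ne).mpr le_rfl).not_ge h4
  -- quasi-finite at all closed points
  have hqf : ∀ x : G.left, IsClosed {x} → f.left.QuasiFiniteAt x := by
    intro x hx
    rw [Scheme.Hom.quasiFiniteAt_iff_isOpen_singleton_asFiber]
    have hy : IsClosed {f.left x} := by
      have := f.left.isClosedMap _ hx
      rwa [Set.image_singleton] at this
    let T := f.left ⁻¹' {f.left x}
    have hTc : IsClosed T := hy.preimage f.left.continuous
    have hcl : ∀ t ∈ T, IsClosed {t} := fun t ht =>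
      hclosed t (by rw [show f.left t = f.left x from ht]; exact hy)
    have hfin : T.Finite := by
      obtain ⟨S, hSf, hSc, hSi, hS⟩ :=
        TopologicalSpace.NoetherianSpace.exists_finite_set_isClosed_irreducible hTc
      rw [hS]
      refine hSf.sUnion fun Z hZ => ?_
      obtain ⟨g, hg⟩ := QuasiSober.sober (hSi Z hZ) (hSc Z hZ)
      rw [← hg.def, (hcl g (hS ▸ Set.mem_sUnion_of_mem hg.mem hZ)).closure_eq]
      exact Set.finite_singleton g
    have : Finite ↥(f.left ⁻¹' {f.left x}) := hfin
    have : T1Space ↥(f.left ⁻¹' {f.left x}) := ⟨fun t => by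
      have := (hcl t.1 t.2).preimage
        (continuous_subtype_val (p := (· ∈ (f.left ⁻¹' {f.left x} : Set G.left))))
      rwa [show Subtype.val ⁻¹' {t.1} = {t} from Set.ext fun s => Subtype.ext_iff.symm] at this⟩
    rw [← (f.left.fiberHomeo (f.left x)).isOpen_image]
    exact isOpen_discrete _
  have hall : ∀ x : G.left, f.left.QuasiFiniteAt x := by
    intro x
    by_contra hx
    obtain ⟨x₀, hx₀, hx₀c⟩ := nonempty_inter_closedPoints (Z := {x | f.left.QuasiFiniteAt x}ᶜ)
      ⟨x, hx⟩ f.left.isOpen_quasiFiniteAt.isClosed_compl.isLocallyClosed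
    exact hx₀ (hqf x₀ hx₀c)
  have : LocallyQuasiFinite f.left := locallyQuasiFinite_iff_isDiscrete_preimage_singleton.mpr fun y =>
    ⟨discreteTopology_iff_isOpen_singleton.mpr fun ⟨x, hx⟩ => by
      obtain rfl : f.left x = y := hx
      have h := Scheme.Hom.quasiFiniteAt_iff_isOpen_singleton_asFiber.mp (hall x)
      rw [← (f.left.fiberHomeo (f.left x)).isOpen_image] at h
      simpa [Scheme.Hom.asFiber] using h⟩
  exact IsFinite.of_isProper_of_locallyQuasiFinite f.left

/-- A flat closed morphism from a nonempty scheme to an irreducible one is surjective. -/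
theorem surjective_of_flat {X Y : Scheme.{u}} (f : X ⟶ Y) [UniversallyClosed f] [Flat f]
    [Nonempty X] [IrreducibleSpace Y] : Surjective f := by
  obtain ⟨x⟩ := ‹Nonempty X›
  obtain ⟨a, -, ha⟩ := Flat.generalizingMap f (genericPoint_specializes (f x))
  refine ⟨fun y => ?_⟩
  have h1 : y ∈ closure {genericPoint Y} := specializes_iff_mem_closure.mp (genericPoint_specializes y)
  have h2 : ({genericPoint Y} : Set Y) ⊆ Set.range f := Set.singleton_subset_iff.mpr ⟨a, ha⟩
  exact f.isClosedMap.isClosed_range.closure_subset (closure_mono h2 h1)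

/-- A finite morphism between irreducible group schemes of the same dimension is surjective. -/
theorem surjective_of_isFinite [IrreducibleSpace H.left] (f : G ⟶ H) [IsFinite f.left]
    (hdim : topologicalKrullDim G.left = topologicalKrullDim H.left) : Surjective f.left := by
  have := LocallyOfFiniteType.jacobsonSpace G.hom
  have := LocallyOfFiniteType.isLocallyNoetherian G.hom
  let ξ := genericPoint H.left
  by_contra hs
  have hξ : ∀ a, f.left a ≠ ξ := fun a ha => hs ⟨fun y => by
    have h2 : ({ξ} : Set H.left) ⊆ Set.range f.left := Set.singleton_subset_iff.mpr ⟨a, ha⟩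
    exact f.left.isClosedMap.isClosed_range.closure_subset
      (closure_mono h2 (specializes_iff_mem_closure.mp (genericPoint_specializes y)))⟩
  obtain ⟨x, -, hx⟩ := nonempty_inter_closedPoints (Z := (Set.univ : Set G.left))
    ⟨η[G].left (IsLocalRing.closedPoint K), trivial⟩ isClosed_univ.isLocallyClosed
  have hy : IsClosed {f.left x} := by
    have := f.left.isClosedMap _ hx
    rwa [Set.image_singleton] at this
  have e : coheight x = coheight (f.left x) := by
    have h1 := GrpScheme.Dimension.coheight_eq_topologicalKrullDim G x hx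
    have h2 := GrpScheme.Dimension.coheight_eq_topologicalKrullDim H (f.left x) hy
    rw [hdim, ← h2] at h1
    exact WithBot.coe_inj.mp h1
  obtain ⟨n, hn⟩ := ENat.ne_top_iff_exists.mp (coheight_lt_top x).ne
  obtain ⟨p, hp, hlen⟩ := exists_series_of_le_coheight x hn.le
  have hf : StrictMono f.left := fun a b hab => by
    have hs : f.left b ⤳ f.left a := (show b ⤳ a from hab.le).map f.left.continuous
    refine lt_iff_le_not_ge.mpr ⟨hs, fun hba => ?_⟩
    have he : f.left b = f.left a := (hs.antisymm (show f.left a ⤳ f.left b from hba)).eq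
    exact hab.not_ge
      (GrpScheme.Dimension.eq_of_specializes_of_apply_eq f.left (show b ⤳ a from hab.le) he).le
  have hlast : (p.map f.left hf).last < ξ := by
    refine lt_iff_le_not_ge.mpr ⟨genericPoint_specializes _, fun h => ?_⟩
    exact hξ p.last ((show f.left p.last ⤳ ξ from h).antisymm (genericPoint_specializes _)).eq
  have := length_le_coheight (p := (p.map f.left hf).snoc ξ hlast) (x := f.left x)
    (by rw [RelSeries.head_snoc]; exact le_of_eq (hp ▸ rfl))
  rw [← e, ← hn] at this
  simp [hlen] at this
  norm_cast at this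
  omega

end Groth.Agent.AbVarLib.Isogeny
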