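import Groth.Agent.AbVarLib.Rigidity
import Mathlib.AlgebraicGeometry.Group.Abelian

/-!
# Pointed morphisms out of abelian varieties are homomorphisms
-/

set_option autoImplicit false
universe u
open CategoryTheory MonoidalCategory CartesianMonoidalCategory MonObj AlgebraicGeometry

namespace Groth.Agent.AbVarLib.Pointed

variable {K : Type u} [Field K]

theorem subsingleton_unit : Subsingleton (𝟙_ (Over (Spec (CommRingCat.of K)))).left :=
  inferInstanceAs (Subsingleton ↥(Spec (CommRingCat.of K)))

theorem nonempty_unit : Nonempty (𝟙_ (Over (Spec (CommRingCat.of K)))).left :=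
  inferInstanceAs (Nonempty ↥(Spec (CommRingCat.of K)))

theorem toUnit_η {Z A : Over (Spec (CommRingCat.of K))} [MonObj A] :
    toUnit Z ≫ η[A] = (1 : Z ⟶ A) := rfl

theorem toUnit_self {Z : Over (Spec (CommRingCat.of K))}
    (x : 𝟙_ (Over (Spec (CommRingCat.of K))) ⟶ Z) {W : Over (Spec (CommRingCat.of K))}
    (a : 𝟙_ (Over (Spec (CommRingCat.of K))) ⟶ W) : x ≫ toUnit Z ≫ a = a := by
  rw [← Category.assoc, toUnit_unique (x ≫ toUnit Z) (𝟙 _), Category.id_comp]

/-- A morphism from an abelian variety to a separated group scheme preserving the unit is a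
homomorphism. -/
theorem isMonHom {A B : Over (Spec (CommRingCat.of K))} [GrpObj A] [IsProper A.hom]
    [GeometricallyIntegral A.hom] [GrpObj B] [IsSeparated B.hom] (f : A ⟶ B)
    (hf : η[A] ≫ f = η[B]) : IsMonHom f := by
  refine ⟨hf, ?_⟩
  have := subsingleton_unit (K := K)
  have := nonempty_unit (K := K)
  have : IsIntegral A.left := GeometricallyIntegral.isIntegral_of_subsingleton A.hom
  have hμ : μ[A] = fst A A * snd A A := by rw [Hom.mul_def]; simp
  let d : A ⊗ A ⟶ B := (μ[A] ≫ f) * (snd A A ≫ f)⁻¹ * (fst A A ≫ f)⁻¹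
  have hw : A ◁ η[A] = fst A _ ≫ lift (𝟙 A) (toUnit A ≫ η[A]) := by
    apply CartesianMonoidalCategory.hom_ext
    · rw [whiskerLeft_fst, Category.assoc, lift_fst, Category.comp_id]
    · rw [whiskerLeft_snd, Category.assoc, lift_snd, ← Category.assoc]
      congr 1
      exact toUnit_unique _ _
  have h1 : lift (𝟙 A) (toUnit A ≫ η[A]) ≫ d = 1 := by
    simp only [d, hμ, MonObj.comp_mul, GrpObj.comp_inv, ← Category.assoc, lift_fst, lift_snd]
    simp only [Category.assoc, hf]
    simp [Category.id_comp, hf, toUnit_η, mul_inv_cancel]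
  obtain ⟨g, hg, -⟩ := Rigidity.exists_eq_snd_comp_over d η[A] η[B] (by
    rw [hw, Category.assoc, h1, MonObj.comp_one, ← toUnit_η]
    congr 1
    exact toUnit_unique _ _)
  have h2 : lift (toUnit A ≫ η[A]) (𝟙 A) ≫ d = 1 := by
    simp only [d, hμ, MonObj.comp_mul, GrpObj.comp_inv, ← Category.assoc, lift_fst, lift_snd]
    simp only [Category.assoc, hf]
    simp [Category.id_comp, hf, toUnit_η, mul_inv_cancel]
  rw [hg, lift_snd_assoc, Category.id_comp] at h2
  rw [h2, MonObj.comp_one] at hg
  have := (mul_inv_eq_one.mp hg)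
  rw [mul_inv_eq_iff_eq_mul] at this
  rw [this, Hom.mul_def]
  congr 1

/-- A morphism out of an abelian variety is a homomorphism followed by a translation. -/
theorem isMonHom_mul_inv {A B : Over (Spec (CommRingCat.of K))} [GrpObj A] [IsProper A.hom]
    [GeometricallyIntegral A.hom] [GrpObj B] [IsSeparated B.hom] (g : A ⟶ B) :
    IsMonHom (g * (toUnit A ≫ η[A] ≫ g)⁻¹) := by
  refine isMonHom _ ?_
  rw [MonObj.comp_mul, GrpObj.comp_inv, toUnit_self, mul_inv_cancel]
  simp [one_eq_one]

end Groth.Agent.AbVarLib.Pointed
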