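import Mathlib

/-!
# Finite abelian groups recognised by the size of their torsion
-/

set_option autoImplicit false

namespace Groth.Agent.AbVarLib.GroupStruct

variable {G : Type*} [AddCommGroup G]

/-- The coprime decomposition of torsion. -/
noncomputable def torsProdEquiv {a b : ℕ} (h : a.Coprime b) :
    (nsmulAddMonoidHom (α := G) (a * b)).ker ≃+
      (nsmulAddMonoidHom (α := G) a).ker × (nsmulAddMonoidHom (α := G) b).ker where
  toFun x := (⟨(Nat.gcdB a b * b) • (x : G), by
      show a • ((Nat.gcdB a b * b) • (x : G)) = 0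
      have hx : (a * b) • (x : G) = 0 := x.2
      rw [← natCast_zsmul, smul_smul, show (a : ℤ) * (Nat.gcdB a b * b) = Nat.gcdB a b * ((a * b : ℕ) : ℤ) by
        push_cast; ring, mul_smul, natCast_zsmul, hx, smul_zero]⟩,
    ⟨(Nat.gcdA a b * a) • (x : G), by
      show b • ((Nat.gcdA a b * a) • (x : G)) = 0
      have hx : (a * b) • (x : G) = 0 := x.2
      rw [← natCast_zsmul, smul_smul, show (b : ℤ) * (Nat.gcdA a b * a) = Nat.gcdA a b * ((a * b : ℕ) : ℤ) by
        push_cast; ring, mul_smul, natCast_zsmul, hx, smul_zero]⟩)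
  invFun y := ⟨(y.1 : G) + (y.2 : G), by
    show (a * b) • ((y.1 : G) + (y.2 : G)) = 0
    have h1 : a • (y.1 : G) = 0 := y.1.2
    have h2 : b • (y.2 : G) = 0 := y.2.2
    rw [smul_add, mul_comm a b, mul_smul, h1, smul_zero, mul_comm b a, mul_smul, h2, smul_zero, add_zero]⟩
  left_inv x := by
    refine Subtype.ext ?_
    show (Nat.gcdB a b * b) • (x : G) + (Nat.gcdA a b * a) • (x : G) = x
    have e : Nat.gcdB a b * b + Nat.gcdA a b * a = 1 := by
      have := Nat.gcd_eq_gcd_ab a b
      rw [h.gcd_eq_one, Nat.cast_one] at this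
      rw [this]; ring
    rw [← add_smul, e, one_smul]
  right_inv y := by
    have e : (Nat.gcdB a b * b : ℤ) + Nat.gcdA a b * a = 1 := by
      have := Nat.gcd_eq_gcd_ab a b
      rw [h.gcd_eq_one, Nat.cast_one] at this
      rw [this]; ring
    have h1 : (a : ℤ) • (y.1 : G) = 0 := (natCast_zsmul _ _).trans y.1.2
    have h2 : (b : ℤ) • (y.2 : G) = 0 := (natCast_zsmul _ _).trans y.2.2
    have k1 : (Nat.gcdA a b * a) • (y.1 : G) = 0 := by rw [mul_smul, h1, smul_zero]
    have k2 : (Nat.gcdB a b * b) • (y.2 : G) = 0 := by rw [mul_smul, h2, smul_zero]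
    refine Prod.ext (Subtype.ext ?_) (Subtype.ext ?_)
    · show (Nat.gcdB a b * b) • ((y.1 : G) + (y.2 : G)) = y.1
      have k := congrArg (· • (y.1 : G)) e
      simp only [add_smul, one_smul, k1, add_zero] at k
      rw [smul_add, k2, k, add_zero]
    · show (Nat.gcdA a b * a) • ((y.1 : G) + (y.2 : G)) = y.2
      have k := congrArg (· • (y.2 : G)) e
      simp only [add_smul, one_smul, k2, zero_add] at k
      rw [smul_add, k1, k, zero_add]
  map_add' x y := by
    refine Prod.ext (Subtype.ext ?_) (Subtype.ext ?_)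
    · exact smul_add _ _ _
    · exact smul_add _ _ _

theorem card_tors_mul {a b : ℕ} (h : a.Coprime b) :
    Nat.card (nsmulAddMonoidHom (α := G) (a * b)).ker =
      Nat.card (nsmulAddMonoidHom (α := G) a).ker * Nat.card (nsmulAddMonoidHom (α := G) b).ker := by
  rw [Nat.card_congr (torsProdEquiv h).toEquiv, Nat.card_prod]

/-- A vector space with `p^i` elements over `ℤ/p` is generated by `i` of its elements. -/
theorem exists_generators (p i : ℕ) [Fact p.Prime] (Q : Type*) [AddCommGroup Q] [Module (ZMod p) Q] [Finite Q]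
    (hQ : Nat.card Q = p ^ i) : ∃ b : Fin i → Q, ∀ q : Q, ∃ c : Fin i → ℕ, q = ∑ j, c j • b j := by
  have : Module.Finite (ZMod p) Q := Module.Finite.of_finite
  have hdim : Module.finrank (ZMod p) Q = i := by
    have h : Nat.card Q = Nat.card (ZMod p) ^ Module.finrank (ZMod p) Q := Module.natCard_eq_pow_finrank
    rw [hQ, Nat.card_zmod] at h
    exact (Nat.pow_right_injective (Fact.out : p.Prime).two_le h).symm
  let b := Module.finBasisOfFinrankEq (ZMod p) Q hdim
  refine ⟨b, fun q => ⟨fun j => (b.repr q j).val, ?_⟩⟩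
  conv_lhs => rw [← b.sum_repr q]
  refine Finset.sum_congr rfl fun j _ => ?_
  rw [← Nat.cast_smul_eq_nsmul (ZMod p), ZMod.natCast_zmod_val]

/-- A group killed by `p^m` with `p^i` points killed by `p` and `p^(i m)` elements is `(ℤ/p^m)^i`. -/
theorem nonempty_equiv_prime_pow [Finite G] {p m i : ℕ} (hp : p.Prime) (hkill : ∀ x : G, p ^ m • x = 0)
    (h1 : Nat.card (nsmulAddMonoidHom (α := G) p).ker = p ^ i) (hcard : Nat.card G = (p ^ i) ^ m) :
    Nonempty (G ≃+ (Fin i → ZMod (p ^ m))) := by
  classical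
  have : Fact p.Prime := ⟨hp⟩
  -- the quotient modulo `p`
  let P := (nsmulAddMonoidHom (α := G) p).range
  have hQcard : Nat.card (G ⧸ P) = p ^ i := by
    have e1 : Nat.card G = Nat.card P * Nat.card (nsmulAddMonoidHom (α := G) p).ker := by
      rw [← Nat.card_congr (QuotientAddGroup.quotientKerEquivRange (nsmulAddMonoidHom (α := G) p)).toEquiv]
      exact AddSubgroup.card_eq_card_quotient_mul_card_addSubgroup _
    have e2 := AddSubgroup.card_eq_card_quotient_mul_card_addSubgroup P
    rw [h1] at e1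
    have hPpos : 0 < Nat.card P := Nat.card_pos
    refine Nat.eq_of_mul_eq_mul_right hPpos ?_
    rw [← e2, e1, mul_comm]
  have hQkill : ∀ x : G ⧸ P, p • x = 0 := fun x => by
    induction x using QuotientAddGroup.induction_on with
    | _ g => exact (QuotientAddGroup.eq_zero_iff _).mpr ⟨g, rfl⟩
  obtain ⟨b, hb⟩ := @exists_generators p i _ (G ⧸ P) _ (AddCommGroup.zmodModule hQkill) _ hQcard
  choose x hx using fun j : Fin i => QuotientAddGroup.mk_surjective (b j)
  -- the map
  let φ : (Fin i → ZMod (p ^ m)) →+ G := ∑ j : Fin i,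
    (ZMod.lift (p ^ m) ⟨zmultiplesHom G (x j), by
      show ((p ^ m : ℕ) : ℤ) • x j = 0
      rw [natCast_zsmul]; exact hkill _⟩).comp (Pi.evalAddMonoidHom (fun _ : Fin i => ZMod (p ^ m)) j)
  have hmem : ∀ j, x j ∈ φ.range := fun j => by
    refine ⟨Pi.single j 1, ?_⟩
    simp only [φ, AddMonoidHom.finsetSum_apply, AddMonoidHom.comp_apply, Pi.evalAddMonoidHom_apply]
    rw [Finset.sum_eq_single j]
    · rw [Pi.single_eq_same, show (1 : ZMod (p ^ m)) = ((1 : ℤ) : ZMod (p ^ m)) by simp, ZMod.lift_coe]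
      simp
    · intro l _ hl
      rw [Pi.single_eq_of_ne hl, map_zero]
    · simp
  have hgen : ∀ g : G, ∃ r ∈ φ.range, ∃ h : G, g = r + p • h := fun g => by
    obtain ⟨c, hc⟩ := hb (g : G ⧸ P)
    refine ⟨∑ j, c j • x j, sum_mem fun j _ => nsmul_mem (hmem j) _, ?_⟩
    have e : ((g - ∑ j, c j • x j : G) : G ⧸ P) = 0 := by
      rw [QuotientAddGroup.mk_sub, sub_eq_zero, show ((∑ j, c j • x j : G) : G ⧸ P) = ∑ j, c j • b j by
          rw [show ((∑ j, c j • x j : G) : G ⧸ P) = QuotientAddGroup.mk' P (∑ j, c j • x j) from rfl, map_sum]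
          exact Finset.sum_congr rfl fun j _ => by rw [map_nsmul, QuotientAddGroup.mk'_apply, hx]]
      exact hc
    obtain ⟨h, hh⟩ := (QuotientAddGroup.eq_zero_iff _).mp e
    exact ⟨h, by rw [show p • h = _ from hh]; abel⟩
  have hsurj : Function.Surjective φ := by
    have hpow : ∀ (e : ℕ) (g : G), ∃ r ∈ φ.range, ∃ h : G, g = r + p ^ e • h := by
      intro e
      induction e with
      | zero => exact fun g => ⟨0, zero_mem _, g, by simp⟩
      | succ e ih =>
        intro g
        obtain ⟨r, hr, h, hg⟩ := ih g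
        obtain ⟨r', hr', h', hh⟩ := hgen h
        exact ⟨r + p ^ e • r', add_mem hr (nsmul_mem hr' _), h', by
          rw [hg, hh, smul_add, pow_succ, mul_smul, add_assoc]⟩
    intro g
    obtain ⟨r, hr, h, hg⟩ := hpow m g
    rw [hkill, add_zero] at hg
    rw [hg]; exact hr
  have : NeZero (p ^ m) := ⟨pow_ne_zero _ hp.ne_zero⟩
  have hbij : Function.Bijective φ := (Nat.bijective_iff_surjective_and_card φ).mpr
    ⟨hsurj, by rw [Nat.card_fun, Nat.card_zmod, Nat.card_fin, hcard, ← pow_mul, ← pow_mul, mul_comm]⟩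
  exact ⟨(AddEquiv.ofBijective φ hbij).symm⟩

/-- A torsion subgroup as big as `(ℤ/n)^r` at every divisor is `(ℤ/n)^r`. -/
theorem nonempty_equiv {r n : ℕ} (hn : 0 < n)
    (hcard : ∀ d, d ∣ n → Nat.card (nsmulAddMonoidHom (α := G) d).ker = d ^ r) :
    Nonempty ((nsmulAddMonoidHom (α := G) n).ker ≃+ (Fin r → ZMod n)) := by
  induction n using Nat.recOnPosPrimePosCoprime with
  | zero => exact absurd hn (lt_irrefl _)
  | one =>
    have : Subsingleton (nsmulAddMonoidHom (α := G) 1).ker := ⟨fun a b => Subtype.ext (by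
      have ha : (1 : ℕ) • (a : G) = 0 := a.2
      have hb : (1 : ℕ) • (b : G) = 0 := b.2
      rw [one_smul] at ha hb
      rw [ha, hb])⟩
    exact ⟨{ toFun := fun _ => 0, invFun := fun _ => 0, left_inv := fun _ => Subsingleton.elim _ _, right_inv := fun _ => Subsingleton.elim _ _, map_add' := fun _ _ => Subsingleton.elim _ _ }⟩
  | prime_pow p m hp hm =>
    have hd : p ∣ p ^ m := dvd_pow_self p hm.ne'
    have hc := hcard _ dvd_rfl
    have : Finite (nsmulAddMonoidHom (α := G) (p ^ m)).ker :=
      Nat.finite_of_card_ne_zero (by rw [hc]; exact pow_ne_zero _ (pow_ne_zero _ hp.ne_zero))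
    refine nonempty_equiv_prime_pow hp (fun x => Subtype.ext x.2) ?_ (by rw [hc, ← pow_mul, ← pow_mul, mul_comm])
    rw [← hcard p hd]
    exact Nat.card_congr
      { toFun := fun x => ⟨((x.1 : (nsmulAddMonoidHom (α := G) (p ^ m)).ker) : G), congrArg Subtype.val x.2⟩
        invFun := fun y => ⟨⟨y.1, by
            show p ^ m • y.1 = 0
            obtain ⟨c, hc⟩ := hd
            rw [hc, mul_comm, mul_smul, show p • y.1 = 0 from y.2, smul_zero]⟩, Subtype.ext y.2⟩
        left_inv := fun _ => rfl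
        right_inv := fun _ => rfl }
  | coprime a b ha hb hab iha ihb =>
    obtain ⟨ea⟩ := iha (by omega) fun d hd => hcard d (hd.trans (dvd_mul_right a b))
    obtain ⟨eb⟩ := ihb (by omega) fun d hd => hcard d (hd.trans (dvd_mul_left b a))
    exact ⟨(torsProdEquiv hab).trans ((ea.prodCongr eb).trans
      ({ toFun := fun f j => (ZMod.chineseRemainder hab).symm (f.1 j, f.2 j)
         invFun := fun f => (fun j => (ZMod.chineseRemainder hab (f j)).1, fun j => (ZMod.chineseRemainder hab (f j)).2)
         left_inv := fun f => by simp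
         right_inv := fun f => by simp
         map_add' := fun f g => funext fun j => by
           simp only [Prod.fst_add, Prod.snd_add, Pi.add_apply, ← map_add, Prod.mk_add_mk] } :
        ((Fin r → ZMod a) × (Fin r → ZMod b)) ≃+ (Fin r → ZMod (a * b))))⟩

end Groth.Agent.AbVarLib.GroupStruct
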