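import Groth.Agent.AbVarLib.TorsCount
import Groth.Agent.AbVarLib.GroupStruct
import Groth.Agent.S1843

/-!
# The structure of the torsion of an abelian variety over an algebraically closed field
-/

set_option autoImplicit false
universe u

open CategoryTheory CategoryTheory.Limits MonoidalCategory CartesianMonoidalCategory MonObj AlgebraicGeometry

noncomputable section

namespace Groth.Agent.AbVarLib.TorsPoints

variable {K : Type u} [Field K] [IsAlgClosed K]
  (A : Over (Spec (CommRingCat.of K))) [GrpObj A] [IsCommMonObj A] [IsProper A.hom] [GeometricallyIntegral A.hom]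

local notation "pt" => 𝟙_ (Over (Spec (CommRingCat.of K)))

/-- Points are divisible. -/
theorem exists_root (n : ℕ) (hn : 1 ≤ n) (a : pt ⟶ A) : ∃ b : pt ⟶ A, b ^ n = a := by
  have : IsLocallyNoetherian A.left := LocallyOfFiniteType.isLocallyNoetherian A.hom
  have : JacobsonSpace A.left := LocallyOfFiniteType.jacobsonSpace A.hom
  obtain ⟨-, hsurj⟩ := GrpScheme.AVPow.isFinite_surjective_pow A (n := n) hn
  let f : A ⟶ A := 𝟙 A ^ n
  obtain ⟨y₀, hy₀⟩ := hsurj.surj (a.left (IsLocalRing.closedPoint K))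
  obtain ⟨y, hy, hyc⟩ := nonempty_inter_closedPoints (Z := f.left ⁻¹' {a.left (IsLocalRing.closedPoint K)})
    ⟨y₀, hy₀⟩ ((Slices.isClosed_point a).preimage f.left.continuous).isLocallyClosed
  refine ⟨TransInv.ptAt A y hyc, ?_⟩
  rw [show TransInv.ptAt A y hyc ^ n = TransInv.ptAt A y hyc ≫ f by simp only [f, MonObj.comp_pow, Category.comp_id],
    Slices.eq_ptAt a, Slices.eq_ptAt (TransInv.ptAt A y hyc ≫ f)]
  congr 1
  show f.left (pointOfClosedPoint A.hom y hyc (IsLocalRing.closedPoint K)) = _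
  rw [pointOfClosedPoint_apply]
  exact hy

/-- Torsion points, additively. -/
def torsEquiv (n : ℕ) :
    AbDual.torsPts A n pt ≃* Multiplicative (nsmulAddMonoidHom (α := Additive (pt ⟶ A)) n).ker where
  toFun a := Multiplicative.ofAdd ⟨Additive.ofMul a.1, congrArg Additive.ofMul ((AbDual.mem_torsPts A a.1).mp a.2)⟩
  invFun x := ⟨(x.toAdd.1).toMul, (AbDual.mem_torsPts A _).mpr (congrArg Additive.toMul x.toAdd.2)⟩
  left_inv _ := rfl
  right_inv _ := rfl
  map_mul' _ _ := rfl

theorem card_ker (n : ℕ) :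
    Nat.card (nsmulAddMonoidHom (α := Additive (pt ⟶ A)) n).ker = Nat.card (AbDual.torsPts A n pt) :=
  Nat.card_congr ((torsEquiv A n).toEquiv.trans Multiplicative.toAdd).symm

theorem card_tors_mul {a b : ℕ} (h : a.Coprime b) :
    Nat.card (AbDual.torsPts A (a * b) pt) = Nat.card (AbDual.torsPts A a pt) * Nat.card (AbDual.torsPts A b pt) := by
  rw [← card_ker, ← card_ker, ← card_ker]
  exact GroupStruct.card_tors_mul h

/-- `A[n](k) ≃ (ℤ/n)^(2g)` for `n` invertible in the field. -/
theorem nonempty_mulEquiv (g : ℕ) (hg : topologicalKrullDim A.left = (g : WithBot ℕ∞)) (n : ℕ) (hn : (n : K) ≠ 0) :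
    Nonempty (AbDual.torsPts A n pt ≃* Multiplicative (Fin (2 * g) → ZMod n)) := by
  have hn0 : 0 < n := Nat.pos_of_ne_zero fun h => hn (by rw [h, Nat.cast_zero])
  obtain ⟨e⟩ := GroupStruct.nonempty_equiv (G := Additive (pt ⟶ A)) (r := 2 * g) hn0 fun d hd => by
    rw [card_ker, TorsCount.card_torsPts A g hg d]
    obtain ⟨c, rfl⟩ := hd
    exact fun h => hn (by rw [Nat.cast_mul, h, zero_mul])
  exact ⟨(torsEquiv A n).trans (AddEquiv.toMultiplicative e)⟩

/-- At a prime the kernels of the powers grow geometrically. -/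
theorem card_pow (p : ℕ) (hp : 1 ≤ p) (m : ℕ) :
    Nat.card (AbDual.torsPts A (p ^ m) pt) = Nat.card (AbDual.torsPts A p pt) ^ m := by
  induction m with
  | zero =>
    rw [pow_zero, pow_zero, Nat.card_eq_one_iff_unique]
    exact ⟨⟨fun a b => Subtype.ext (by
      have ha := (AbDual.mem_torsPts A a.1).mp a.2
      have hb := (AbDual.mem_torsPts A b.1).mp b.2
      rw [pow_one] at ha hb
      rw [ha, hb])⟩, ⟨1⟩⟩
  | succ m ih =>
    let φ : AbDual.torsPts A (p ^ (m + 1)) pt →* AbDual.torsPts A (p ^ m) pt :=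
      { toFun := fun a => ⟨a.1 ^ p, (AbDual.mem_torsPts A _).mpr (by
          rw [← pow_mul, ← pow_succ']; exact (AbDual.mem_torsPts A a.1).mp a.2)⟩
        map_one' := Subtype.ext (one_pow _)
        map_mul' := fun a b => Subtype.ext (mul_pow _ _ _) }
    have hsurj : Function.Surjective φ := fun b => by
      obtain ⟨a, ha⟩ := exists_root A p hp b.1
      refine ⟨⟨a, (AbDual.mem_torsPts A _).mpr ?_⟩, Subtype.ext ha⟩
      rw [pow_succ', pow_mul, ha]
      exact (AbDual.mem_torsPts A b.1).mp b.2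
    have hker : Nat.card φ.ker = Nat.card (AbDual.torsPts A p pt) := Nat.card_congr
      { toFun := fun a => ⟨a.1.1, (AbDual.mem_torsPts A _).mpr (congrArg Subtype.val a.2)⟩
        invFun := fun a => ⟨⟨a.1, (AbDual.mem_torsPts A _).mpr (by
          rw [pow_succ', pow_mul, (AbDual.mem_torsPts A a.1).mp a.2, one_pow])⟩,
          Subtype.ext ((AbDual.mem_torsPts A a.1).mp a.2)⟩
        left_inv := fun _ => rfl
        right_inv := fun _ => rfl }
    rw [Subgroup.card_eq_card_quotient_mul_card_subgroup φ.ker, hker,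
      Nat.card_congr (QuotientGroup.quotientKerEquivOfSurjective φ hsurj).toEquiv, ih, pow_succ]

/-- The order of the `p`-torsion in characteristic `p`. -/
theorem exists_pRank (p : ℕ) [Fact p.Prime] [CharP K p] (g : ℕ) (hg : topologicalKrullDim A.left = (g : WithBot ℕ∞)) :
    ∃ i ≤ g, Nat.card (AbDual.torsPts A p pt) = p ^ i := by
  have h1843 := S1843.result K p A g hg
  have hinj : Function.Injective fun a : AbDual.torsPts A p pt => a.1.left (IsLocalRing.closedPoint K) :=
    fun a b h => Subtype.ext (by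
      rw [Slices.eq_ptAt a.1, Slices.eq_ptAt b.1]
      congr 1)
  have hsub : Set.range (fun a : AbDual.torsPts A p pt => a.1.left (IsLocalRing.closedPoint K)) ⊆
      {a : A.left | (𝟙 A ^ p).left a = η[A].left (IsLocalRing.closedPoint K)} := by
    rintro _ ⟨a, rfl⟩
    have h := (AbDual.mem_torsPts A a.1).mp a.2
    have e : a.1 ≫ (𝟙 A ^ p) = η[A] := by
      rw [MonObj.comp_pow, Category.comp_id, h, Hom.one_def, toUnit_unique (toUnit pt) (𝟙 _), Category.id_comp]
    exact congrArg (fun m : pt ⟶ A => m.left (IsLocalRing.closedPoint K)) e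
  have hle := (Set.encard_le_encard hsub).trans h1843
  have hfin := Set.finite_of_encard_le_coe hle
  have := hfin.to_subtype
  have : Finite (AbDual.torsPts A p pt) := Finite.of_injective_finite_range hinj
  have hP : IsPGroup p (AbDual.torsPts A p pt) := fun a => ⟨1, by
    rw [pow_one]; exact Subtype.ext ((AbDual.mem_torsPts A a.1).mp a.2)⟩
  obtain ⟨i, hi⟩ := IsPGroup.iff_card.mp hP
  refine ⟨i, ?_, hi⟩
  have hc : (Nat.card (AbDual.torsPts A p pt) : ℕ∞) ≤ (p ^ g : ℕ) := by
    rw [← Nat.card_range_of_injective hinj, Nat.card_coe_set_eq, hfin.cast_ncard_eq]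
    exact hle
  rw [hi] at hc
  exact (Nat.pow_le_pow_iff_right (Fact.out : p.Prime).one_lt).mp (by exact_mod_cast hc)

/-- `A[p^m](k) ≃ (ℤ/p^m)^i` for the `p`-rank `i`. -/
theorem nonempty_mulEquiv_pow (p : ℕ) [Fact p.Prime] (i : ℕ) (hi : Nat.card (AbDual.torsPts A p pt) = p ^ i) (m : ℕ) :
    Nonempty (AbDual.torsPts A (p ^ m) pt ≃* Multiplicative (Fin i → ZMod (p ^ m))) := by
  have hp := (Fact.out : p.Prime)
  obtain ⟨e⟩ := GroupStruct.nonempty_equiv (G := Additive (pt ⟶ A)) (r := i) (pow_pos hp.pos m) fun d hd => by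
    obtain ⟨j, -, rfl⟩ := (Nat.dvd_prime_pow hp).mp hd
    rw [card_ker, card_pow A p hp.one_le, hi, ← pow_mul, ← pow_mul, mul_comm]
  exact ⟨(torsEquiv A (p ^ m)).trans (AddEquiv.toMultiplicative e)⟩

end Groth.Agent.AbVarLib.TorsPoints
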