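import Groth.Prelude.Def_AbDual
import Mathlib

/-!
# A basis of the Tate module of a divisible group
-/

set_option autoImplicit false
universe u

open CategoryTheory CategoryTheory.Limits MonoidalCategory CartesianMonoidalCategory MonObj AlgebraicGeometry

noncomputable section

namespace Groth.Agent.AbVarLib.TateBasis

variable {S : Scheme.{u}} {A : Over S} [GrpObj A] [IsCommMonObj A] {l : ℕ} {T : Over S}

/-- Multiplication by `l ^ j` moves a compatible sequence down `j` steps. -/
theorem pow_smul_component (x : AbDual.TateMod A l T) (j n : ℕ) :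
    (l ^ j) • (x : ℕ → Additive (T ⟶ A)) (n + j) = (x : ℕ → Additive (T ⟶ A)) n := by
  induction j with
  | zero => rw [pow_zero, one_smul, Nat.add_zero]
  | succ j ih => rw [pow_succ, mul_smul, ← Nat.add_assoc, AbDual.TateMod.compat, ih]

theorem component_zero (x : AbDual.TateMod A l T) : (x : ℕ → Additive (T ⟶ A)) 0 = 0 := by
  simpa using x.torsion 0

/-- Every `l`-torsion point starts a compatible sequence. -/
theorem exists_seq (hdiv : ∀ a : Additive (T ⟶ A), ∃ b, l • b = a) (a : Additive (T ⟶ A)) (ha : l • a = 0) :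
    ∃ x : AbDual.TateMod A l T, (x : ℕ → Additive (T ⟶ A)) 1 = a := by
  choose g hg using hdiv
  refine ⟨⟨fun n => match n with | 0 => 0 | m + 1 => g^[m] a, fun n => ?_, fun n => ?_⟩, rfl⟩
  · rcases n with _ | m
    · exact smul_zero _
    · show l ^ (m + 1) • g^[m] a = 0
      induction m with
      | zero => rw [pow_one]; exact ha
      | succ m ih => rw [pow_succ, mul_smul, Function.iterate_succ_apply', hg, ih]
  · rcases n with _ | m
    · exact ha
    · show l • g^[m + 1] a = g^[m] a
      rw [Function.iterate_succ_apply', hg]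

section

variable [hl : Fact l.Prime] {d : ℕ} {v : Fin d → AbDual.TateMod A l T}
  (hv₁ : ∀ c : Fin d → ℤ, ∑ j, c j • (v j : ℕ → Additive (T ⟶ A)) 1 = 0 → ∀ j, (l : ℤ) ∣ c j)
  (hv₂ : ∀ y : Additive (T ⟶ A), l • y = 0 → ∃ c : Fin d → ℤ, ∑ j, c j • (v j : ℕ → Additive (T ⟶ A)) 1 = y)

include hv₁ in
theorem dvd_of_sum_eq_zero (n : ℕ) :
    ∀ c : Fin d → ℤ, ∑ j, c j • (v j : ℕ → Additive (T ⟶ A)) n = 0 → ∀ j, (l : ℤ) ^ n ∣ c j := by
  induction n with
  | zero => exact fun c _ j => by rw [pow_zero]; exact one_dvd _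
  | succ n ih =>
    intro c hc
    have h1 : ∀ j, (l : ℤ) ∣ c j := hv₁ c <| by
      have := congrArg ((l ^ n) • ·) hc
      simpa only [Finset.smul_sum, smul_comm (l ^ n) (_ : ℤ), Nat.add_comm n 1, pow_smul_component, smul_zero] using this
    choose c' hc' using h1
    intro j
    rw [hc' j, pow_succ']
    refine mul_dvd_mul_left _ (ih c' ?_ j)
    rw [← hc]
    refine Finset.sum_congr rfl fun j _ => ?_
    rw [hc' j, mul_comm, mul_smul, natCast_zsmul, AbDual.TateMod.compat]

include hv₂ in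
theorem exists_sum_eq (n : ℕ) :
    ∀ y : Additive (T ⟶ A), l ^ n • y = 0 → ∃ c : Fin d → ℤ, ∑ j, c j • (v j : ℕ → Additive (T ⟶ A)) n = y := by
  induction n with
  | zero =>
    intro y hy
    refine ⟨0, ?_⟩
    rw [pow_zero, one_smul] at hy
    simp [hy]
  | succ n ih =>
    intro y hy
    obtain ⟨c, hc⟩ := ih (l • y) (by rw [← mul_smul, ← pow_succ]; exact hy)
    obtain ⟨b, hb⟩ := hv₂ (y - ∑ j, c j • (v j : ℕ → Additive (T ⟶ A)) (n + 1)) (by
      rw [smul_sub, ← hc, Finset.smul_sum, sub_eq_zero]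
      exact Finset.sum_congr rfl fun j _ => by rw [smul_comm, AbDual.TateMod.compat])
    refine ⟨fun j => c j + b j * (l ^ n : ℕ), ?_⟩
    have key : ∀ j, (c j + b j * (l ^ n : ℕ)) • (v j : ℕ → Additive (T ⟶ A)) (n + 1) =
        c j • (v j : ℕ → Additive (T ⟶ A)) (n + 1) + b j • (v j : ℕ → Additive (T ⟶ A)) 1 := fun j => by
      rw [add_smul, mul_smul, natCast_zsmul, Nat.add_comm n 1, pow_smul_component]
    simp only [key, Finset.sum_add_distrib, hb]
    exact add_sub_cancel _ _

theorem component_linearCombination (a : Fin d → ℤ_[l]) (n : ℕ) :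
    ((Fintype.linearCombination ℤ_[l] v a : AbDual.TateMod A l T) : ℕ → Additive (T ⟶ A)) n =
      ∑ j, ((a j).appr n : ℤ) • (v j : ℕ → Additive (T ⟶ A)) n := by
  rw [Fintype.linearCombination_apply]
  show AbDual.TateMod.component A l T n _ = _
  rw [map_sum]
  refine Finset.sum_congr rfl fun j _ => ?_
  rw [natCast_zsmul]
  exact AbDual.smul_component (a j) (v j) n

include hv₁ in
theorem linearCombination_injective : Function.Injective (Fintype.linearCombination ℤ_[l] v) := by
  rw [injective_iff_map_eq_zero]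
  intro a ha
  refine funext fun j => PadicInt.ext_of_toZModPow.1 fun n => ?_
  have h := dvd_of_sum_eq_zero hv₁ n (fun j => ((a j).appr n : ℤ)) (by
    rw [← component_linearCombination, ha]; rfl) j
  rw [Pi.zero_apply, map_zero, AbDual.toZModPow_eq_appr]
  have := (ZMod.intCast_zmod_eq_zero_iff_dvd ((a j).appr n : ℤ) (l ^ n)).2 (by exact_mod_cast h)
  simpa using this

include hv₁ hv₂ in
theorem linearCombination_surjective : Function.Surjective (Fintype.linearCombination ℤ_[l] v) := by
  intro y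
  choose c hc using fun n => exists_sum_eq hv₂ n ((y : ℕ → Additive (T ⟶ A)) n) (y.torsion n)
  have hcompat : ∀ j n, (l : ℤ) ^ n ∣ c (n + 1) j - c n j := fun j n => by
    refine dvd_of_sum_eq_zero hv₁ n (fun j => c (n + 1) j - c n j) ?_ j
    simp only [sub_smul, Finset.sum_sub_distrib, hc n]
    rw [sub_eq_zero, ← AbDual.TateMod.compat y n, ← hc (n + 1), Finset.smul_sum]
    exact Finset.sum_congr rfl fun i _ => by rw [smul_comm l, AbDual.TateMod.compat]
  let a : Fin d → ℤ_[l] := fun j =>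
    PadicInt.ofIntSeq _ (PadicInt.isCauSeq_padicNorm_of_pow_dvd_sub (fun n => c n j) l (hcompat j))
  refine ⟨a, AbDual.TateMod.ext fun n => ?_⟩
  rw [component_linearCombination, ← hc n]
  refine Finset.sum_congr rfl fun j _ => ?_
  have h : (((a j).appr n : ℤ) : ZMod (l ^ n)) = ((c n j : ℤ) : ZMod (l ^ n)) := by
    rw [← PadicInt.toZModPow_ofIntSeq_of_pow_dvd_sub (fun n => c n j) l (hcompat j) n, Int.cast_natCast,
      ← AbDual.toZModPow_eq_appr]
  obtain ⟨t, ht⟩ := (ZMod.intCast_eq_intCast_iff_dvd_sub _ _ _).1 h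
  rw [sub_eq_iff_eq_add] at ht
  rw [ht, add_smul, mul_comm, mul_smul, natCast_zsmul (_) (l ^ n), AbDual.TateMod.torsion, smul_zero, zero_add]

end

/-- The Tate module of an `l`-divisible group of points with `l`-torsion `(ℤ/l)^d` is free of rank `d`. -/
theorem exists_basis [hl : Fact l.Prime] (hdiv : ∀ a : Additive (T ⟶ A), ∃ b, l • b = a) {d : ℕ}
    (e : (nsmulAddMonoidHom (α := Additive (T ⟶ A)) l).ker ≃+ (Fin d → ZMod l)) :
    Nonempty (Module.Basis (Fin d) ℤ_[l] (AbDual.TateMod A l T)) := by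
  classical
  choose v hv using fun j : Fin d =>
    exists_seq hdiv (e.symm (Pi.single j (1 : ZMod l))).1 (e.symm (Pi.single j (1 : ZMod l))).2
  have hsum : ∀ c : Fin d → ℤ, ∑ j, c j • (v j : ℕ → Additive (T ⟶ A)) 1 =
      (e.symm (fun j => (c j : ZMod l))).1 := fun c => by
    have h1 : (fun j => (c j : ZMod l)) = ∑ j, c j • Pi.single j (1 : ZMod l) := by
      refine funext fun i => ?_
      simp [Finset.sum_apply, Pi.single_apply, zsmul_eq_mul]
    rw [h1, map_sum, AddSubmonoidClass.coe_finset_sum]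
    refine Finset.sum_congr rfl fun j _ => ?_
    rw [map_zsmul, hv j]
    rfl
  have hv₁ : ∀ c : Fin d → ℤ, ∑ j, c j • (v j : ℕ → Additive (T ⟶ A)) 1 = 0 → ∀ j, (l : ℤ) ∣ c j := by
    intro c hc j
    rw [hsum] at hc
    have h := congrArg e (show e.symm (fun j => (c j : ZMod l)) = 0 from Subtype.ext hc)
    rw [e.apply_symm_apply, map_zero] at h
    exact (ZMod.intCast_zmod_eq_zero_iff_dvd _ _).1 (congrFun h j)
  have hv₂ : ∀ y : Additive (T ⟶ A), l • y = 0 →
      ∃ c : Fin d → ℤ, ∑ j, c j • (v j : ℕ → Additive (T ⟶ A)) 1 = y := fun y hy => by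
    choose c hc using fun j => ZMod.intCast_surjective (e ⟨y, hy⟩ j)
    exact ⟨c, by rw [hsum, funext hc, e.symm_apply_apply]⟩
  exact ⟨Module.Basis.ofEquivFun (LinearEquiv.ofBijective (Fintype.linearCombination ℤ_[l] v)
    ⟨linearCombination_injective hv₁, linearCombination_surjective hv₁ hv₂⟩).symm⟩

end Groth.Agent.AbVarLib.TateBasis
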