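import Groth.Agent.AbVarLib.TorsPoints
import Groth.Agent.AbVarLib.TateBasis

/-!
# The Tate module of the points of an abelian variety
-/

set_option autoImplicit false
universe u

open CategoryTheory CategoryTheory.Limits MonoidalCategory CartesianMonoidalCategory MonObj AlgebraicGeometry

noncomputable section

namespace Groth.Agent.AbVarLib.TatePoints

variable {K : Type u} [Field K] [IsAlgClosed K]
  (A : Over (Spec (CommRingCat.of K))) [GrpObj A] [IsCommMonObj A] [IsProper A.hom] [GeometricallyIntegral A.hom]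

local notation "pt" => 𝟙_ (Over (Spec (CommRingCat.of K)))

theorem exists_smul_eq (n : ℕ) (hn : 1 ≤ n) (a : Additive (pt ⟶ A)) : ∃ b, n • b = a := by
  obtain ⟨b, hb⟩ := TorsPoints.exists_root A n hn a.toMul
  exact ⟨Additive.ofMul b, congrArg Additive.ofMul hb⟩

/-- `T_l A` has a basis of `2g` elements. -/
theorem exists_basis (l : ℕ) [hl : Fact l.Prime] (hlK : (l : K) ≠ 0) (g : ℕ)
    (hg : topologicalKrullDim A.left = (g : WithBot ℕ∞)) :
    Nonempty (Module.Basis (Fin (2 * g)) ℤ_[l] (AbDual.TateMod A l pt)) := by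
  obtain ⟨e⟩ := TorsPoints.nonempty_mulEquiv A g hg l hlK
  exact TateBasis.exists_basis (exists_smul_eq A l hl.out.one_le)
    (MulEquiv.toAdditive ((TorsPoints.torsEquiv A l).symm.trans e) :
      (nsmulAddMonoidHom (α := Additive (pt ⟶ A)) l).ker ≃+ (Fin (2 * g) → ZMod l))

end Groth.Agent.AbVarLib.TatePoints
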