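import Groth.Agent.AbVarLib.TransInv
import Groth.Agent.Cube.SeesawAlg
import Mathlib.AlgebraicGeometry.AlgClosed.Basic

/-!
# Fibres and slices over an algebraically closed field
-/

set_option autoImplicit false
universe u

open CategoryTheory CategoryTheory.Limits MonoidalCategory CartesianMonoidalCategory MonObj AlgebraicGeometry

noncomputable section

namespace Groth.Agent.AbVarLib.Slices

open scoped Groth.Agent.PicLaw
open PicLaw (pl)
open PicLaw.Mumford (op)
open TransInv (ptAt)

variable {K : Type u} [Field K] [IsAlgClosed K]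
variable {X Y : Over (Spec (CommRingCat.of K))} [LocallyOfFiniteType Y.hom]

/-- A class is trivial on the fibre over a closed point iff it is trivial on the slice. -/
theorem fibre_iff_slice (c : PicLoc.PicSet (X ⊗ Y).left) (z : Y.left) (hz : IsClosed {z}) :
    pl ((snd X Y).left.fiberι z) c = 1 ↔ op (lift (𝟙 X) (toUnit X ≫ ptAt Y z hz)) c = 1 := by
  let π := (snd X Y).left
  let s := lift (𝟙 X) (toUnit X ≫ ptAt Y z hz)
  constructor
  · intro h
    let θ : X.left ⟶ π.fiber z := pullback.lift s.left
      (X.hom ≫ Spec.map (residueFieldIsoBase Y.hom z hz).hom) (by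
        refine Eq.trans ?_ (Category.assoc _ _ _).symm
        exact congrArg CommaMorphism.left (lift_snd (𝟙 X) (toUnit X ≫ ptAt Y z hz)))
    have e : θ ≫ π.fiberι z = s.left := pullback.lift_fst _ _ _
    show pl s.left c = 1
    rw [← e, PicLaw.pl_comp, h, map_one]
  · intro h
    let F : Over (Spec (CommRingCat.of K)) := Over.mk (π.fiberι z ≫ (X ⊗ Y).hom)
    let i : F ⟶ X ⊗ Y := Over.homMk (π.fiberι z) rfl
    have hi : i = (i ≫ fst X Y) ≫ s := by
      have hsnd : π.fiberι z ≫ π = (π.fiberToSpecResidueField z ≫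
          Spec.map (residueFieldIsoBase Y.hom z hz).inv) ≫ pointOfClosedPoint Y.hom z hz := by
        rw [show π.fiberι z ≫ π = π.fiberToSpecResidueField z ≫ Y.left.fromSpecResidueField z from pullback.condition,
          pointOfClosedPoint, Category.assoc, ← Spec.map_comp_assoc, Iso.hom_inv_id, Spec.map_id, Category.id_comp]
      apply CartesianMonoidalCategory.hom_ext
      · simp [s]
      · rw [Category.assoc, lift_snd, ← Category.assoc, toUnit_unique ((i ≫ fst X Y) ≫ toUnit X) (toUnit F)]
        apply Over.OverMorphism.ext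
        show π.fiberι z ≫ π = (π.fiberι z ≫ (X ⊗ Y).hom) ≫ pointOfClosedPoint Y.hom z hz
        rw [← Over.w (snd X Y)]
        show π.fiberι z ≫ π = (π.fiberι z ≫ π ≫ Y.hom) ≫ _
        rw [← Category.assoc (π.fiberι z) π Y.hom, hsnd]
        simp only [Category.assoc, pointOfClosedPoint_comp_assoc]
    show op i c = 1
    rw [hi, PicLaw.Mumford.op_comp, h, map_one]

/-- A rational point is the point at its image. -/
theorem isClosed_point (a : 𝟙_ (Over (Spec (CommRingCat.of K))) ⟶ Y) :
    IsClosed ({a.left (IsLocalRing.closedPoint K)} : Set Y.left) :=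
  ((pointEquivClosedPoint Y.hom) ⟨a.left, Over.w a⟩).2

theorem eq_ptAt (a : 𝟙_ (Over (Spec (CommRingCat.of K))) ⟶ Y) :
    a = ptAt Y (a.left (IsLocalRing.closedPoint K)) (isClosed_point a) :=
  Over.OverMorphism.ext (ext_of_apply_closedPoint_eq Y.hom (Over.w a) (pointOfClosedPoint_comp _ _ _)
    (pointOfClosedPoint_apply _ _ _ _).symm)

variable [IsProper X.hom] [GeometricallyIntegral X.hom]

/-- The points over which a class is trivial form a closed set. -/
theorem exists_closed (c : PicLoc.PicSet (X ⊗ Y).left) :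
    ∃ Z : Set Y.left, IsClosed Z ∧
      ∀ a : 𝟙_ (Over (Spec (CommRingCat.of K))) ⟶ Y,
        a.left (IsLocalRing.closedPoint K) ∈ Z ↔ op (lift (𝟙 X) (toUnit X ≫ a)) c = 1 := by
  have : IsProper (snd X Y).left := Cube.Local.isProper_snd X Y
  have : Flat (snd X Y).left := Cube.Local.flat_snd X Y
  have : GeometricallyIntegral (snd X Y).left :=
    show GeometricallyIntegral (pullback.snd X.hom Y.hom) from inferInstance
  have : IsLocallyNoetherian Y.left := LocallyOfFiniteType.isLocallyNoetherian Y.hom
  obtain ⟨L, hL, rfl⟩ := PicGrp.exists_eq_cls c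
  refine ⟨_, Cube.Seesaw.isClosed_trivial (snd X Y).left hL fun z => inferInstance, fun a => ?_⟩
  conv_rhs => rw [eq_ptAt a]
  rw [← fibre_iff_slice, Set.mem_ofPred_eq, ← PicLaw.cls_pullback _ hL, PicGrp.cls_eq_one_iff]

end Groth.Agent.AbVarLib.Slices
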