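import Groth.Agent.S15608
import Groth.Agent.GrpScheme.IdSubgroup
import Groth.Agent.Cube.Connected
import Groth.Agent.AbVarLib.Slices

/-!
# An infinite group of rational points contains the points of an abelian subvariety
-/

set_option autoImplicit false
universe u

open CategoryTheory MonoidalCategory CartesianMonoidalCategory MonObj GrpObj AlgebraicGeometry TopologicalSpace
open Groth.Agent.GrpScheme
open Groth.Agent.GrpScheme.IdComponent (e₀)

noncomputable section

namespace Groth.Agent.AbVarLib.AbSub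

variable {K : Type u} [Field K] [IsAlgClosed K]

local notation "pt" => 𝟙_ (Over (Spec (CommRingCat.of K)))

theorem apply_inj {X : Over (Spec (CommRingCat.of K))} [LocallyOfFiniteType X.hom] {a b : pt ⟶ X}
    (h : a.left (IsLocalRing.closedPoint K) = b.left (IsLocalRing.closedPoint K)) : a = b :=
  Over.OverMorphism.ext (ext_of_apply_closedPoint_eq X.hom (Over.w a) (Over.w b) h)

/-- **The abelian subvariety inside the closure of an infinite group of points.** -/
theorem exists_abelian {A : Over (Spec (CommRingCat.of K))} [GrpObj A] [IsProper A.hom]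
    (S : Subgroup (pt ⟶ A)) (hS : (S : Set (pt ⟶ A)).Infinite) :
    ∃ (Y : Over (Spec (CommRingCat.of K))) (_ : GrpObj Y) (i : Y ⟶ A),
      IsMonHom i ∧ IsClosedImmersion i.left ∧ IsProper Y.hom ∧ GeometricallyIntegral Y.hom ∧
      Infinite (pt ⟶ Y) ∧ ∀ y : pt ⟶ Y, (y ≫ i).left (IsLocalRing.closedPoint K) ∈ closure (S15608.pts S) := by
  classical
  obtain ⟨Z, _, i₁, hi₁, hci₁, hred₁, -, hr₁⟩ := S15608.exists_subgroup S
  have : IsProper Z.hom := by rw [← Over.w i₁]; infer_instance
  have : JacobsonSpace Z.left := LocallyOfFiniteType.jacobsonSpace Z.hom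
  have : IsLocallyNoetherian Z.left := LocallyOfFiniteType.isLocallyNoetherian Z.hom
  have : CompactSpace Z.left := QuasiCompact.compactSpace_of_compactSpace Z.hom
  have : IsNoetherian Z.left := ⟨⟩
  let j : IdSubgroup.G₀ Z ⟶ A := IdSubgroup.incl Z ≫ i₁
  have : IsClosedImmersion j.left := inferInstanceAs (IsClosedImmersion ((IdSubgroup.incl Z).left ≫ i₁.left))
  let S₁ : Subgroup (pt ⟶ A) := (IsMonHom.monoidHom j pt).range
  have hS₁ : ∀ a : pt ⟶ A, a ∈ S₁ ↔ ∃ b : pt ⟶ IdSubgroup.G₀ Z, b ≫ j = a := fun a => MonoidHom.mem_range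
  -- points of the identity component
  have hpts : ∀ z : Z.left, IsClosed ({z} : Set Z.left) → z ∈ connectedComponent (e₀ Z) →
      i₁.left z ∈ S15608.pts S₁ := by
    intro z hz hzc
    obtain ⟨b, hb⟩ := IdSubgroup.exists_factor Z (TransInv.ptAt Z z hz) (by
      rintro _ ⟨t, rfl⟩
      rw [Subsingleton.elim (α := Spec (CommRingCat.of K)) t (IsLocalRing.closedPoint K)]
      show pointOfClosedPoint Z.hom z hz (IsLocalRing.closedPoint K) ∈ _
      rw [pointOfClosedPoint_apply]; exact hzc)
    refine ⟨b ≫ j, (hS₁ _).mpr ⟨b, rfl⟩, ?_⟩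
    show (b ≫ IdSubgroup.incl Z ≫ i₁).left (IsLocalRing.closedPoint K) = _
    rw [← Category.assoc, hb]
    show i₁.left (pointOfClosedPoint Z.hom z hz (IsLocalRing.closedPoint K)) = _
    rw [pointOfClosedPoint_apply]
  have hsub₁ : S15608.pts S₁ ⊆ i₁.left '' connectedComponent (e₀ Z) := by
    rintro _ ⟨a, ha, rfl⟩
    obtain ⟨b, rfl⟩ := (hS₁ a).mp ha
    exact ⟨(IdSubgroup.incl Z).left (b.left (IsLocalRing.closedPoint K)),
      (IdSubgroup.range_incl Z).subset ⟨_, rfl⟩, rfl⟩
  have hclosedim : IsClosed (i₁.left '' connectedComponent (e₀ Z)) :=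
    i₁.left.isClosedEmbedding.isClosedMap _ isClosed_connectedComponent
  have hcl : closure (S15608.pts S₁) = i₁.left '' connectedComponent (e₀ Z) := by
    refine (closure_minimal hsub₁ hclosedim).antisymm ?_
    rintro _ ⟨z, hz, rfl⟩
    by_contra h
    obtain ⟨w, ⟨hwc, hw⟩, hwcl⟩ := nonempty_inter_closedPoints
      (Z := connectedComponent (e₀ Z) ∩ (i₁.left ⁻¹' closure (S15608.pts S₁))ᶜ) ⟨z, hz, h⟩
      (isClosed_connectedComponent.isLocallyClosed.inter
        ((isClosed_closure.preimage i₁.left.continuous).isOpen_compl.isLocallyClosed))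
    exact hw (subset_closure (hpts w hwcl hwc))
  obtain ⟨Y, gY, i, hi, hci, hred, -, hr⟩ := S15608.exists_subgroup S₁
  have hirr : IsIrreducible (Set.range i.left) := by
    rw [hr, hcl, IdComponent.connectedComponent_eq]
    exact isIrreducible_irreducibleComponent.image _ i₁.left.continuous.continuousOn
  have : IrreducibleSpace Y.left := by
    rw [irreducibleSpace_def]
    refine ⟨?_, fun u v hu hv hu' hv' => ?_⟩
    · obtain ⟨_, y, -⟩ := hirr.1
      exact ⟨y, trivial⟩
    obtain ⟨u', hu'o, rfl⟩ := i.left.isClosedEmbedding.isInducing.isOpen_iff.mp hu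
    obtain ⟨v', hv'o, rfl⟩ := i.left.isClosedEmbedding.isInducing.isOpen_iff.mp hv
    obtain ⟨y, -, hy⟩ := hu'
    obtain ⟨y', -, hy'⟩ := hv'
    obtain ⟨_, ⟨w, rfl⟩, hw⟩ := hirr.2 u' v' hu'o hv'o ⟨_, ⟨y, rfl⟩, hy⟩ ⟨_, ⟨y', rfl⟩, hy'⟩
    exact ⟨w, trivial, hw⟩
  have : IsIntegral Y.left := isIntegral_of_irreducibleSpace_of_isReduced _
  have : IsProper Y.hom := by rw [← Over.w i]; infer_instance
  refine ⟨Y, gY, i, hi, hci, inferInstance, Cube.geometricallyIntegral_of_isAlgClosed Y.hom, ?_, fun y => ?_⟩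
  · -- infinitely many points
    have hSpts : (S15608.pts S).Infinite := hS.image fun a _ b _ h => apply_inj h
    have hcompfin : (irreducibleComponents Z.left).Finite := NoetherianSpace.finite_irreducibleComponents
    have hinfC : {z : Z.left | IsClosed ({z} : Set Z.left)}.Infinite := by
      refine fun hfin => hSpts ((hfin.image i₁.left).subset fun x hx => ?_)
      obtain ⟨z, rfl⟩ : x ∈ Set.range i₁.left := hr₁ ▸ subset_closure hx
      refine ⟨z, ?_, rfl⟩
      obtain ⟨a, -, ha⟩ := hx
      have : IsClosed ({i₁.left z} : Set A.left) := ha ▸ Slices.isClosed_point a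
      show IsClosed ({z} : Set Z.left)
      rw [← i₁.left.isClosedEmbedding.injective.preimage_image {z}, Set.image_singleton]
      exact this.preimage i₁.left.continuous
    obtain ⟨C, hC, hCinf⟩ : ∃ C ∈ irreducibleComponents Z.left, ({z : Z.left | IsClosed ({z} : Set Z.left)} ∩ C).Infinite := by
      by_contra h
      simp only [not_exists, not_and, Set.not_infinite] at h
      refine hinfC ((hcompfin.biUnion fun C hC => h C hC).subset fun z hz => ?_)
      exact Set.mem_biUnion (irreducibleComponent_mem_irreducibleComponents z) ⟨hz, mem_irreducibleComponent⟩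
    obtain ⟨z₀, hz₀, hz₀C⟩ := hCinf.nonempty
    let a := TransInv.ptAt Z z₀ hz₀
    let t : Z ⟶ Z := 𝟙 Z * (toUnit Z ≫ a⁻¹)
    have : IsIso t := ⟨𝟙 Z * (toUnit Z ≫ a), by
        rw [MonObj.comp_mul, Category.comp_id, ← Category.assoc, toUnit_unique (t ≫ toUnit Z) (toUnit Z),
          _root_.mul_assoc, ← MonObj.comp_mul, inv_mul_cancel, MonObj.comp_one, _root_.mul_one], by
        rw [MonObj.comp_mul, Category.comp_id, ← Category.assoc,
          toUnit_unique ((𝟙 Z * (toUnit Z ≫ a)) ≫ toUnit Z) (toUnit Z),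
          _root_.mul_assoc, ← MonObj.comp_mul, mul_inv_cancel, MonObj.comp_one, _root_.mul_one]⟩
    have : IsIso t.left := inferInstanceAs (IsIso ((Over.forget _).map t))
    have ht0 : t.left z₀ = e₀ Z := by
      have e : a ≫ t = 1 := by
        rw [MonObj.comp_mul, Category.comp_id, ← Category.assoc, toUnit_unique (a ≫ toUnit Z) (𝟙 _), Category.id_comp,
          mul_inv_cancel]
      have h := congrArg (fun m : pt ⟶ Z => m.left (IsLocalRing.closedPoint K)) e
      have h2 : a.left (IsLocalRing.closedPoint K) = z₀ := pointOfClosedPoint_apply _ _ _ _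
      refine ((congrArg t.left h2).symm.trans h).trans ?_
      rw [Hom.one_def, toUnit_unique (toUnit pt) (𝟙 _), Category.id_comp]
    have hCsub : C ⊆ connectedComponent z₀ :=
      (hC.1.isConnected).subset_connectedComponent hz₀C
    have hinj : Set.InjOn (fun z => i₁.left (t.left z)) ({z : Z.left | IsClosed ({z} : Set Z.left)} ∩ C) :=
      fun z _ w _ h => t.left.homeomorph.injective (i₁.left.isClosedEmbedding.injective h)
    have hptsinf : (S15608.pts S₁).Infinite := by
      refine (hCinf.image hinj).mono ?_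
      rintro _ ⟨z, ⟨hz, hzC⟩, rfl⟩
      refine hpts _ ?_ ?_
      · rw [← Set.image_singleton]; exact t.left.homeomorph.isClosedMap _ hz
      · rw [← ht0]
        exact t.left.continuous.image_connectedComponent_subset z₀ ⟨z, hCsub hzC, rfl⟩
    by_contra hfin
    have := not_infinite_iff_finite.mp hfin
    refine hptsinf ((Set.finite_range fun y : pt ⟶ Y => (y ≫ i).left (IsLocalRing.closedPoint K)).subset ?_)
    intro x hx
    obtain ⟨w, rfl⟩ : x ∈ Set.range i.left := hr ▸ subset_closure hx
    obtain ⟨c, -, hc⟩ := hx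
    have hw : IsClosed ({w} : Set Y.left) := by
      rw [← i.left.isClosedEmbedding.injective.preimage_image {w}, Set.image_singleton]
      exact (hc ▸ Slices.isClosed_point c : IsClosed ({i.left w} : Set A.left)).preimage i.left.continuous
    exact ⟨TransInv.ptAt Y w hw, congrArg i.left (pointOfClosedPoint_apply Y.hom w hw _)⟩
  · have h : (y ≫ i).left (IsLocalRing.closedPoint K) ∈ i₁.left '' connectedComponent (e₀ Z) :=
      hcl ▸ hr ▸ ⟨y.left (IsLocalRing.closedPoint K), rfl⟩
    obtain ⟨z, -, hz⟩ := h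
    rw [← hz, ← hr₁]
    exact ⟨z, rfl⟩

end Groth.Agent.AbVarLib.AbSub
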