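import Groth.Agent.AbVarLib.Isogeny
import Groth.Agent.AbVarLib.AbSub

/-!
# A homomorphism of proper group schemes with finitely many rational points in the kernel is finite
-/

set_option autoImplicit false
universe u

open CategoryTheory MonoidalCategory CartesianMonoidalCategory MonObj GrpObj AlgebraicGeometry

noncomputable section

namespace Groth.Agent.AbVarLib.FiniteKernel

variable {K : Type u} [Field K] [IsAlgClosed K] {G H : Over (Spec (CommRingCat.of K))}
  [GrpObj G] [GrpObj H] [IsProper G.hom] [IsProper H.hom]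

local notation "pt" => 𝟙_ (Over (Spec (CommRingCat.of K)))

theorem isFinite (f : G ⟶ H) [IsMonHom f] (hfin : {a : pt ⟶ G | a ≫ f = 1}.Finite) :
    IsFinite f.left := by
  have : IsProper (f.left ≫ H.hom) := by rw [Over.w f]; infer_instance
  have : IsProper f.left := IsProper.of_comp f.left H.hom
  have := LocallyOfFiniteType.jacobsonSpace G.hom
  have hqf : ∀ x : G.left, IsClosed {x} → f.left.QuasiFiniteAt x := by
    intro x hx
    rw [Scheme.Hom.quasiFiniteAt_iff_isOpen_singleton_asFiber]
    have hy : IsClosed {f.left x} := by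
      have := f.left.isClosedMap _ hx
      rwa [Set.image_singleton] at this
    let T := f.left ⁻¹' {f.left x}
    have hTc : IsClosed T := hy.preimage f.left.continuous
    let a₀ := TransInv.ptAt G x hx
    have hclfin : (T ∩ closedPoints G.left).Finite := by
      refine (hfin.image fun a => (a * a₀).left (IsLocalRing.closedPoint K)).subset ?_
      rintro z ⟨hzT, hz⟩
      refine ⟨TransInv.ptAt G z hz * a₀⁻¹, ?_, ?_⟩
      · show (TransInv.ptAt G z hz * a₀⁻¹) ≫ f = 1
        have e : TransInv.ptAt G z hz ≫ f = a₀ ≫ f := AbSub.apply_inj (by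
          show f.left (pointOfClosedPoint G.hom z hz _) = f.left (pointOfClosedPoint G.hom x hx _)
          rw [pointOfClosedPoint_apply, pointOfClosedPoint_apply]
          exact hzT)
        rw [MonObj.mul_comp, e, ← MonObj.mul_comp, mul_inv_cancel, MonObj.one_comp]
      · show ((TransInv.ptAt G z hz * a₀⁻¹) * a₀).left (IsLocalRing.closedPoint K) = z
        rw [inv_mul_cancel_right]
        exact pointOfClosedPoint_apply _ _ _ _
    have hTeq : T ⊆ T ∩ closedPoints G.left := by
      intro t ht
      by_contra h
      have hc : IsClosed (T ∩ closedPoints G.left) := by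
        rw [← Set.biUnion_of_singleton (T ∩ closedPoints G.left)]
        exact hclfin.isClosed_biUnion fun z hz => hz.2
      obtain ⟨z, hz, hzc⟩ := nonempty_inter_closedPoints (Z := T ∩ (T ∩ closedPoints G.left)ᶜ) ⟨t, ht, h⟩
        (hTc.isLocallyClosed.inter hc.isOpen_compl.isLocallyClosed)
      exact hz.2 ⟨hz.1, hzc⟩
    have : Finite ↥(f.left ⁻¹' {f.left x}) := (hclfin.subset hTeq).to_subtype
    have : T1Space ↥(f.left ⁻¹' {f.left x}) := ⟨fun t => by
      have := ((hTeq t.2).2 : IsClosed ({t.1} : Set G.left)).preimage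
        (continuous_subtype_val (p := (· ∈ (f.left ⁻¹' {f.left x} : Set G.left))))
      rwa [show Subtype.val ⁻¹' {t.1} = {t} from Set.ext fun s => Subtype.ext_iff.symm] at this⟩
    rw [← (f.left.fiberHomeo (f.left x)).isOpen_image]
    exact isOpen_discrete _
  have hall : ∀ x : G.left, f.left.QuasiFiniteAt x := by
    intro x
    by_contra hx
    obtain ⟨x₀, hx₀, hx₀c⟩ := nonempty_inter_closedPoints (Z := {x | f.left.QuasiFiniteAt x}ᶜ)
      ⟨x, hx⟩ f.left.isOpen_quasiFiniteAt.isClosed_compl.isLocallyClosed
    exact hx₀ (hqf x₀ hx₀c)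
  have : LocallyQuasiFinite f.left := locallyQuasiFinite_iff_isDiscrete_preimage_singleton.mpr fun y =>
    ⟨discreteTopology_iff_isOpen_singleton.mpr fun ⟨x, hx⟩ => by
      obtain rfl : f.left x = y := hx
      have h := Scheme.Hom.quasiFiniteAt_iff_isOpen_singleton_asFiber.mp (hall x)
      rw [← (f.left.fiberHomeo (f.left x)).isOpen_image] at h
      simpa [Scheme.Hom.asFiber] using h⟩
  exact IsFinite.of_isProper_of_locallyQuasiFinite f.left

omit [IsProper H.hom] in
theorem finite_ker (f : G ⟶ H) [IsMonHom f] [IsFinite f.left] : {a : pt ⟶ G | a ≫ f = 1}.Finite := by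
  refine ((IsFinite.finite_preimage_singleton f.left ((1 : pt ⟶ H).left (IsLocalRing.closedPoint K))).preimage
    (f := fun a : pt ⟶ G => a.left (IsLocalRing.closedPoint K)) fun a _ b _ e => AbSub.apply_inj e).subset
    fun a ha => ?_
  show f.left (a.left _) = _
  rw [← (show a ≫ f = 1 from ha)]
  rfl

/-- A group of positive size has positive dimension. -/
theorem exists_pos_dim [IsIntegral G.left] [Nontrivial (pt ⟶ G)] :
    ∃ g : ℕ, 0 < g ∧ topologicalKrullDim G.left = (g : WithBot ℕ∞) := by
  have := LocallyOfFiniteType.jacobsonSpace G.hom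
  obtain ⟨a, b, hab⟩ := exists_pair_ne (pt ⟶ G)
  have hx := Slices.isClosed_point a
  set x := a.left (IsLocalRing.closedPoint K)
  have hd := fun y hy => GrpScheme.Dimension.coheight_eq_topologicalKrullDim G y hy
  have : IsLocallyNoetherian G.left := LocallyOfFiniteType.isLocallyNoetherian G.hom
  obtain ⟨n, hn⟩ := ENat.ne_top_iff_exists.mp (Isogeny.coheight_lt_top x).ne
  refine ⟨n, Nat.pos_of_ne_zero fun h0 => hab (AbSub.apply_inj ?_), ?_⟩
  · have key : ∀ y : G.left, IsClosed ({y} : Set G.left) → y = genericPoint G.left := by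
      intro y hy
      have e : Order.coheight y = 0 := by
        have h1 := (hd y hy).trans (hd x hx).symm
        rw [WithBot.coe_inj.mp h1, ← hn, h0, Nat.cast_zero]
      have hle : genericPoint G.left ≤ y := Order.coheight_eq_zero.mp e
        (show y ≤ genericPoint G.left from genericPoint_specializes y)
      exact ((genericPoint_specializes y).antisymm (show y ⤳ genericPoint G.left from hle)).eq.symm
    rw [key _ (Slices.isClosed_point a), key _ (Slices.isClosed_point b)]
  · rw [← hd x hx, ← hn]; rfl

end Groth.Agent.AbVarLib.FiniteKernel
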