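import Mathlib.AlgebraicGeometry.ValuativeCriterion
import Mathlib.AlgebraicGeometry.SpreadingOut
import Mathlib.AlgebraicGeometry.FunctionField
import Mathlib.AlgebraicGeometry.Morphisms.Separated
import Mathlib.AlgebraicGeometry.Morphisms.Proper
import Mathlib.RingTheory.Valuation.ValuationRing

/-!
# Extending morphisms to proper schemes from the generic point of a one dimensional regular scheme
-/

set_option autoImplicit false
universe u
open CategoryTheory CategoryTheory.Limits AlgebraicGeometry

namespace Groth.Agent.AbVarLib.ExtendCurve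

/-- A local ring of a principal ideal domain is a valuation ring. -/
theorem valuationRing_stalk (R : CommRingCat.{u}) [IsDomain R] [IsPrincipalIdealRing R]
    (x : Spec R) : ValuationRing ((Spec R).presheaf.stalk x) := by
  letI : Algebra R ((Spec R).presheaf.stalk x) :=
    RingHom.toAlgebra <| by apply CommRingCat.Hom.hom; apply StructureSheaf.toStalk
  haveI hx : x.asIdeal.IsPrime := x.2
  have : IsLocalization.AtPrime ((Spec R).presheaf.stalk x) x.asIdeal :=
    StructureSheaf.IsLocalization.to_stalk R x
  have : IsPrincipalIdealRing ((Spec R).presheaf.stalk x) := ⟨fun J => by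
    obtain ⟨g, hg⟩ := (IsPrincipalIdealRing.principal (J.comap (algebraMap R ((Spec R).presheaf.stalk x)))).principal
    refine ⟨algebraMap R ((Spec R).presheaf.stalk x) g, ?_⟩
    rw [← IsLocalization.map_under x.asIdeal.primeCompl ((Spec R).presheaf.stalk x) J]
    show Ideal.map _ _ = Ideal.span _
    rw [show Ideal.under R J = Ideal.span {g} from hg, Ideal.map_span, Set.image_singleton]⟩
  infer_instance

/-- The existence part of the valuative criterion, with bundled rings. -/
theorem exists_lift_valuation {A S : Scheme.{u}} (q : A ⟶ S) [IsProper q] (R K : CommRingCat.{u})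
    [IsDomain R] [ValuationRing R] (hK : IsField K) (φ : R ⟶ K)
    (hφ : letI := φ.hom.toAlgebra; IsFractionRing R K) (i₁ : Spec K ⟶ A) (i₂ : Spec R ⟶ S)
    (h : i₁ ≫ q = Spec.map φ ≫ i₂) : ∃ l : Spec R ⟶ A, Spec.map φ ≫ l = i₁ ∧ l ≫ q = i₂ := by
  let := φ.hom.toAlgebra
  have hval : ValuativeCriterion.Existence q :=
    ((IsProper.eq_valuativeCriterion ▸ ‹IsProper q› :
      (ValuativeCriterion ⊓ @QuasiCompact ⊓ @QuasiSeparated ⊓ @LocallyOfFiniteType) q)).1.1.1.existence
  let := hK.toField
  let sq : ValuativeCommSq q :=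
    { R := R, K := K, isFractionRing := hφ, i₁ := i₁, i₂ := i₂, commSq := ⟨h⟩ }
  obtain ⟨⟨l⟩⟩ := hval sq
  exact ⟨l.l, l.fac_left, l.fac_right⟩

/-- If all local rings of an integral scheme are valuation rings, a morphism from its generic point
to a proper scheme extends. -/
theorem exists_extension {X A S : Scheme.{u}} [IsIntegral X]
    (hX : ∀ x : X, ValuationRing (X.presheaf.stalk x)) (p : X ⟶ S) (q : A ⟶ S) [IsProper q]
    (z : Spec X.functionField ⟶ A) (hz : z ≫ q = X.fromSpecStalk (genericPoint X) ≫ p) :
    ∃ f : X ⟶ A, f ≫ q = p ∧ X.fromSpecStalk (genericPoint X) ≫ f = z := by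
  have hdom : ∀ x : X, IsDomain (X.presheaf.stalk x) := fun x =>
    Function.Injective.isDomain _ (IsFractionRing.injective (X.presheaf.stalk x) X.functionField)
  have key : ∀ x : X, ∃ (U : X.Opens) (_ : x ∈ U) (g : (U : Scheme.{u}) ⟶ A),
      g ≫ q = U.ι ≫ p ∧ ∀ hη : genericPoint X ∈ U, U.fromSpecStalkOfMem (genericPoint X) hη ≫ g = z := by
    intro x
    have := hX x
    have := hdom x
    obtain ⟨l, hl₁, hl₂⟩ := exists_lift_valuation q (X.presheaf.stalk x) X.functionField
      (Field.toIsField X.functionField) (X.presheaf.stalkSpecializes (genericPoint_specializes x))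
      (inferInstanceAs (IsFractionRing (X.presheaf.stalk x) X.functionField)) z (X.fromSpecStalk x ≫ p)
      (by rw [hz, ← Scheme.SpecMap_stalkSpecializes_fromSpecStalk (genericPoint_specializes x), Category.assoc])
    obtain ⟨U, hxU, g, hg, hgq⟩ := spread_out_of_isGermInjective' p q (x := x) l hl₂
    refine ⟨U, hxU, g, hgq, fun hη => ?_⟩
    have e : U.fromSpecStalkOfMem (genericPoint X) hη =
        Spec.map (X.presheaf.stalkSpecializes (genericPoint_specializes x)) ≫ U.fromSpecStalkOfMem x hxU := by
      rw [← cancel_mono U.ι, Category.assoc]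
      simp [Scheme.SpecMap_stalkSpecializes_fromSpecStalk]
    rw [e, Category.assoc, ← hg]
    exact hl₁
  choose U hxU g hgq hgη using key
  have hη : ∀ x, genericPoint X ∈ U x := fun x =>
    (genericPoint_specializes x).mem_open (U x).2 (hxU x)
  have hsup : ⨆ x, U x = ⊤ := top_le_iff.mp fun x _ => TopologicalSpace.Opens.mem_iSup.mpr ⟨x, hxU x⟩
  let 𝒰 : X.OpenCover := X.openCoverOfIsOpenCover U hsup
  have hagree : ∀ x y : X, pullback.fst (U x).ι (U y).ι ≫ g x = pullback.snd (U x).ι (U y).ι ≫ g y := by
    intro x y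
    let P := pullback (U x).ι (U y).ι
    let pP : P ⟶ X := pullback.fst (U x).ι (U y).ι ≫ (U x).ι
    let γ : Spec X.functionField ⟶ P := pullback.lift ((U x).fromSpecStalkOfMem _ (hη x))
      ((U y).fromSpecStalkOfMem _ (hη y)) (by simp)
    let c : Spec X.functionField := IsLocalRing.closedPoint X.functionField
    have hγc : pP (γ c) = genericPoint X := by
      rw [← Scheme.Hom.comp_apply, pullback.lift_fst_assoc, Scheme.Opens.fromSpecStalkOfMem_ι]
      exact Scheme.fromSpecStalk_closedPoint
    have : Nonempty P := ⟨γ c⟩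
    have : IsIntegral P := isIntegral_of_isOpenImmersion pP
    have : IsDominant γ := ⟨fun w => by
      have h1 : pP (γ c) ⤳ pP w := hγc ▸ genericPoint_specializes _
      exact closure_mono (show ({γ c} : Set P) ⊆ Set.range γ from Set.singleton_subset_iff.mpr ⟨c, rfl⟩)
        (specializes_iff_mem_closure.mp (pP.isOpenEmbedding.isInducing.specializes_iff.mp h1))⟩
    refine ext_of_isDominant_of_isSeparated q ?_ γ ?_
    · rw [Category.assoc, Category.assoc, hgq, hgq, ← Category.assoc, pullback.condition, Category.assoc]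
    · rw [pullback.lift_fst_assoc, pullback.lift_snd_assoc, hgη, hgη]
  let f := 𝒰.glueMorphisms g hagree
  have hf : ∀ x, (U x).ι ≫ f = g x := 𝒰.ι_glueMorphisms g hagree
  refine ⟨f, 𝒰.hom_ext _ _ fun x => ?_, ?_⟩
  · show (U x).ι ≫ f ≫ q = (U x).ι ≫ p
    exact (Category.assoc _ _ _).symm.trans ((congrArg (· ≫ q) (hf x)).trans (hgq x))
  · have x := genericPoint X
    rw [← Scheme.Opens.fromSpecStalkOfMem_ι (U := U x) (genericPoint X) (hη x), Category.assoc, hf x, hgη]

end Groth.Agent.AbVarLib.ExtendCurve
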