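import Groth.Agent.Cube.Main
import Groth.Agent.AbVarLib.CubeCons
import Groth.Agent.GrpScheme.AVComm

/-!
# The pairing attached to an invertible class

`pair l x y = (x * y)^* l / (x^* l · y^* l)` is bimultiplicative by the theorem of the cube.
-/

set_option autoImplicit false
universe u

open CategoryTheory CategoryTheory.Limits MonoidalCategory CartesianMonoidalCategory MonObj AlgebraicGeometry

noncomputable section

namespace Groth.Agent.AbVarLib.Defect

open scoped Groth.Agent.PicLaw
open PicLaw.Mumford (op)

variable {k : Type u} [Field k] {A : Over (Spec (CommRingCat.of k))} [GrpObj A] [IsProper A.hom]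
  [GeometricallyIntegral A.hom] (l : PicLoc.PicSet A.left)

/-- The pairing of two points. -/
def pair {V : Over (Spec (CommRingCat.of k))} (x y : V ⟶ A) : PicLoc.PicSet V.left :=
  op (x * y) l / (op x l * op y l)

omit [IsProper A.hom] [GeometricallyIntegral A.hom] in
theorem op_pair {V W : Over (Spec (CommRingCat.of k))} (p : W ⟶ V) (x y : V ⟶ A) :
    op p (pair l x y) = pair l (p ≫ x) (p ≫ y) := by
  simp only [pair, map_div, map_mul, ← PicLaw.Mumford.op_comp, MonObj.comp_mul]

omit [IsProper A.hom] [GeometricallyIntegral A.hom] in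
theorem pair_one_right {V : Over (Spec (CommRingCat.of k))} (x : V ⟶ A) : pair l x 1 = 1 := by
  rw [pair, _root_.mul_one, CubeCons.op_one, _root_.mul_one, div_self']

theorem pair_mul_right {V : Over (Spec (CommRingCat.of k))} (x y z : V ⟶ A) :
    pair l x (y * z) = pair l x y * pair l x z := by
  have h := CubeCons.cube_rel (Cube.cubeHyp A) l x y z
  rw [pair, pair, pair, ← _root_.mul_assoc x, div_mul_div_comm, div_eq_div_iff_mul_eq_mul]
  calc op (x * y * z) l * (op x l * op y l * (op x l * op z l))
      = (op (x * y * z) l * op x l * op y l * op z l) * op x l := by ac_rfl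
    _ = (op (x * y) l * op (x * z) l * op (y * z) l) * op x l := by rw [h]
    _ = op (x * y) l * op (x * z) l * (op x l * op (y * z) l) := by ac_rfl

theorem pair_comm {V : Over (Spec (CommRingCat.of k))} (x y : V ⟶ A) : pair l x y = pair l y x := by
  have := GrpScheme.AVComm.isCommMonObj A
  rw [pair, pair, _root_.mul_comm x y, _root_.mul_comm (op x l)]

theorem pair_pow_right {V : Over (Spec (CommRingCat.of k))} (x y : V ⟶ A) :
    ∀ n : ℕ, pair l x (y ^ n) = pair l x y ^ n
  | 0 => by rw [pow_zero, pow_zero, pair_one_right]
  | n + 1 => by rw [pow_succ, pow_succ, pair_mul_right, pair_pow_right x y n]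

theorem pair_pow_left {V : Over (Spec (CommRingCat.of k))} (x y : V ⟶ A) (n : ℕ) :
    pair l (x ^ n) y = pair l x y ^ n := by
  rw [pair_comm, pair_pow_right, pair_comm]

end Groth.Agent.AbVarLib.Defect
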