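import Groth.Agent.AbVarLib.Slices
import Groth.Agent.AbVarLib.Defect
import Groth.Agent.Cube.SeesawThm
import Groth.Agent.S2336
import Groth.Agent.S4384
import Groth.Agent.S4381
import Groth.Agent.S16188
import Mathlib.AlgebraicGeometry.ZariskisMainTheorem

/-!
# An ample class has a finite kernel
-/

set_option autoImplicit false
universe u

open CategoryTheory CategoryTheory.Limits MonoidalCategory CartesianMonoidalCategory MonObj AlgebraicGeometry
open TopologicalSpace

noncomputable section

namespace Groth.Agent.AbVarLib.KerAmple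

open scoped Groth.Agent.PicLaw
open PicLaw (pl)
open PicLaw.Mumford (op)
open Defect (pair)

/-- A proper scheme over a field with ample structure sheaf is finite. -/
theorem isFinite_of_isAmple {K : Type u} [Field K] {X : Scheme.{u}} (f : X ⟶ Spec (CommRingCat.of K))
    [IsProper f] (h : CohB1.IsAmple (Coh.structureModule X)) : IsFinite f := by
  have : CompactSpace X := h.2.1
  have : X.IsSeparated := AmpleLib.isSeparated_of_isAmple h
  have : X.IsQuasiAffine := (S2336.result X).mpr h
  let e : X ⟶ Spec Γ(X, ⊤) := X.toSpecΓ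
  let g : Spec Γ(X, ⊤) ⟶ Spec (CommRingCat.of K) := Spec.map ((Scheme.ΓSpecIso _).inv ≫ f.appTop)
  have hfac : e ≫ g = f := by
    simp only [e, g, Spec.map_comp, ← Category.assoc, ← Scheme.toSpecΓ_naturality]
    rw [Category.assoc, ← SpecMap_ΓSpecIso_hom, ← Spec.map_comp, Iso.inv_hom_id, Spec.map_id,
      Category.comp_id]
  have : IsProper (e ≫ g) := by rw [hfac]; infer_instance
  have : IsProper e := IsProper.of_comp e g
  have : IsClosedImmersion e := (IsClosedImmersion.iff_isProper_and_mono (f := e)).mpr ⟨inferInstance, inferInstance⟩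
  have : IsAffineHom (e ≫ g) := inferInstance
  have : IsAffineHom f := hfac ▸ this
  exact IsFinite.iff_isProper_and_isAffineHom.mpr ⟨inferInstance, inferInstance⟩

variable {K : Type u} [Field K] [IsAlgClosed K]
  {A : Over (Spec (CommRingCat.of K))} [GrpObj A] [IsProper A.hom] [GeometricallyIntegral A.hom]

/-- The constant point. -/
abbrev cst (V : Over (Spec (CommRingCat.of K))) (a : 𝟙_ (Over (Spec (CommRingCat.of K))) ⟶ A) : V ⟶ A :=
  toUnit V ≫ a

/-- The kernel of `a ↦ t_a^* l / l`. -/
def ker (l : PicLoc.PicSet A.left) : Set (𝟙_ (Over (Spec (CommRingCat.of K))) ⟶ A) :=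
  {a | pair l (𝟙 A) (cst A a) = 1}

omit [IsAlgClosed K] in
theorem mul_mem {l : PicLoc.PicSet A.left} {a b : 𝟙_ (Over (Spec (CommRingCat.of K))) ⟶ A}
    (ha : a ∈ ker l) (hb : b ∈ ker l) : a * b ∈ ker l := by
  show pair l (𝟙 A) (toUnit A ≫ (a * b)) = 1
  rw [MonObj.comp_mul, Defect.pair_mul_right]
  rw [show pair l (𝟙 A) (toUnit A ≫ a) = 1 from ha, show pair l (𝟙 A) (toUnit A ≫ b) = 1 from hb, _root_.one_mul]

omit [IsAlgClosed K] in
theorem inv_mem {l : PicLoc.PicSet A.left} {a : 𝟙_ (Over (Spec (CommRingCat.of K))) ⟶ A}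
    (ha : a ∈ ker l) : a⁻¹ ∈ ker l := by
  have h := Defect.pair_mul_right l (𝟙 A) (cst A a) (cst A a⁻¹)
  rw [← MonObj.comp_mul, mul_inv_cancel, MonObj.comp_one, Defect.pair_one_right,
    show pair l (𝟙 A) (cst A a) = 1 from ha, _root_.one_mul] at h
  exact h.symm

set_option maxHeartbeats 1000000 in
/-- An ample class has a finite kernel. -/
theorem finite_ker {L : A.left.Modules} (hL : CohB1.IsAmple L) :
    (ker (PicGrp.cls L hL.1)).Finite := by
  set l := PicGrp.cls L hL.1 with hl
  obtain ⟨Z, hZ, hmem⟩ := Slices.exists_closed (X := A) (Y := A) (pair l (fst A A) (snd A A))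
  have hker : ∀ a, a.left (IsLocalRing.closedPoint K) ∈ Z ↔ a ∈ ker l := fun a => by
    rw [hmem a, Defect.op_pair, lift_fst, lift_snd]
    rfl
  have : IsLocallyNoetherian A.left := LocallyOfFiniteType.isLocallyNoetherian A.hom
  have : CompactSpace A.left := QuasiCompact.compactSpace_of_compactSpace A.hom
  have : IsNoetherian A.left := ⟨⟩
  suffices hfin : (Z ∩ closedPoints A.left).Finite by
    refine (hfin.preimage (f := fun a : 𝟙_ (Over (Spec (CommRingCat.of K))) ⟶ A =>
      a.left (IsLocalRing.closedPoint K)) fun a _ b _ e => ?_).subset fun a ha =>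
      ⟨(hker a).mpr ha, Slices.isClosed_point a⟩
    simp only at e
    rw [Slices.eq_ptAt a, Slices.eq_ptAt b]
    congr 1
  obtain ⟨Cs, hCf, hCc, hCi, hC⟩ := NoetherianSpace.exists_finite_set_isClosed_irreducible hZ
  rw [hC, Set.sUnion_eq_biUnion, Set.iUnion₂_inter]
  refine hCf.biUnion fun C hCmem => ?_
  rcases (C ∩ closedPoints A.left).eq_empty_or_nonempty with h | ⟨z₁, hz₁C, hz₁⟩
  · rw [h]; exact Set.finite_empty
  have hCZ : C ⊆ Z := hC ▸ Set.subset_sUnion_of_mem hCmem
  let a₁ := TransInv.ptAt A z₁ hz₁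
  have ha₁ : a₁ ∈ ker l := (hker a₁).mp (by
    show pointOfClosedPoint A.hom z₁ hz₁ (IsLocalRing.closedPoint K) ∈ Z
    rw [pointOfClosedPoint_apply]; exact hCZ hz₁C)
  let I := Scheme.IdealSheafData.vanishingIdeal (X := A.left) ⟨C, hCc C hCmem⟩
  let B : Over (Spec (CommRingCat.of K)) := Over.mk (I.subschemeι ≫ A.hom)
  let j₀ : B ⟶ A := Over.homMk I.subschemeι rfl
  have hr : Set.range I.subschemeι = C := by
    rw [Scheme.IdealSheafData.range_subschemeι, Scheme.IdealSheafData.coe_support_vanishingIdeal]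
    rfl
  have : IsIntegral I.subscheme := S16188.isIntegral_subscheme _ (hCi C hCmem)
  have : IsIntegral B.left := ‹IsIntegral I.subscheme›
  have : IsProper B.hom := inferInstanceAs (IsProper (I.subschemeι ≫ A.hom))
  let t : A ⟶ A := 𝟙 A * cst A a₁⁻¹
  have : IsIso t := ⟨𝟙 A * cst A a₁, by
    rw [MonObj.comp_mul, Category.comp_id, _root_.mul_assoc, cst, ← Category.assoc,
      toUnit_unique (t ≫ toUnit A) (toUnit A), ← MonObj.comp_mul, inv_mul_cancel, MonObj.comp_one, _root_.mul_one], by
    rw [MonObj.comp_mul, Category.comp_id, _root_.mul_assoc, cst, ← Category.assoc,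
      toUnit_unique ((𝟙 A * cst A a₁) ≫ toUnit A) (toUnit A), ← MonObj.comp_mul, mul_inv_cancel, MonObj.comp_one,
      _root_.mul_one]⟩
  have : IsIso t.left := inferInstanceAs (IsIso ((Over.forget _).map t))
  let j := j₀ ≫ t
  have hj : Topology.IsInducing j.left :=
    t.left.homeomorph.isInducing.comp I.subschemeι.isClosedEmbedding.isInducing
  -- the pairing restricted to the second factor `B` is trivial
  let E := pair l (fst A B) (snd A B ≫ j)
  have hslice : ∀ (w : B.left) (hw : IsClosed {w}), op (lift (𝟙 A) (toUnit A ≫ TransInv.ptAt B w hw)) E = 1 := by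
    intro w hw
    rw [Defect.op_pair, lift_fst, lift_snd_assoc, Category.assoc]
    refine show TransInv.ptAt B w hw ≫ j ∈ ker l from ?_
    have hb : TransInv.ptAt B w hw ≫ j₀ ∈ ker l := (hker _).mp (by
      show I.subschemeι (pointOfClosedPoint B.hom w hw (IsLocalRing.closedPoint K)) ∈ Z
      exact hCZ (hr.le ⟨_, rfl⟩))
    have e : TransInv.ptAt B w hw ≫ j = (TransInv.ptAt B w hw ≫ j₀) * a₁⁻¹ := by
      rw [← Category.assoc, MonObj.comp_mul, Category.comp_id, cst, ← Category.assoc,
        toUnit_unique ((TransInv.ptAt B w hw ≫ j₀) ≫ toUnit A) (𝟙 _), Category.id_comp]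
    rw [e]
    exact mul_mem hb (inv_mem ha₁)
  let π := (snd A B).left
  have : IsProper π := Cube.Local.isProper_snd A B
  have : Flat π := Cube.Local.flat_snd A B
  have : GeometricallyIntegral π := show GeometricallyIntegral (pullback.snd A.hom B.hom) from inferInstance
  have : GeometricallyConnected π := FBase.BC.geometricallyConnected_of_geometricallyIrreducible π
  have : IsLocallyNoetherian B.left := LocallyOfFiniteType.isLocallyNoetherian B.hom
  have : JacobsonSpace B.left := LocallyOfFiniteType.jacobsonSpace B.hom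
  obtain ⟨N, hN, hNE⟩ := PicGrp.exists_eq_cls E
  have hcl := Cube.Seesaw.isClosed_trivial π hN fun w => inferInstance
  have hall : ∀ w : B.left, Nonempty (CohIII.fiberMod π N w ≅ Coh.structureModule (π.fiber w)) := by
    intro w
    have hsub : closedPoints B.left ⊆ {w | Nonempty (CohIII.fiberMod π N w ≅ Coh.structureModule (π.fiber w))} :=
      fun w hw => by
        refine (PicGrp.cls_eq_one_iff (PicLoc.isInvertible_pullback _ hN)).mp ?_
        rw [PicLaw.cls_pullback _ hN, ← hNE]
        exact (Slices.fibre_iff_slice E w hw).mpr (hslice w hw)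
    have := hcl.closure_subset_iff.mpr hsub
    rw [closure_closedPoints] at this
    exact this (Set.mem_univ w)
  obtain ⟨M, hM, hMN⟩ := (Cube.Seesaw.pullback_iff_fibres π
    (Cube.Seesaw.finrank_eq_one_of_geometrically π) hN).mpr hall
  have hEn : E = op (snd A B) (PicGrp.cls M hM) := by
    rw [hNE, PicLaw.Mumford.op, ← PicLaw.cls_pullback _ hM, PicGrp.cls_eq_cls_iff]
    exact ⟨hMN.some.symm⟩
  have hn : PicGrp.cls M hM = 1 := by
    have h := congrArg (op (lift (1 : B ⟶ A) (𝟙 B))) hEn
    rw [Defect.op_pair, lift_fst, lift_snd_assoc, Category.id_comp, Defect.pair_comm, Defect.pair_one_right,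
      ← PicLaw.Mumford.op_comp, lift_snd] at h
    exact (PicLaw.pl_id _).symm.trans h.symm
  have hE : pair l j⁻¹ j = 1 := by
    have h := congrArg (op (lift j⁻¹ (𝟙 B))) hEn
    rw [Defect.op_pair, lift_fst, lift_snd_assoc, Category.id_comp, hn, map_one, map_one] at h
    exact h
  rw [Defect.pair, inv_mul_cancel, CubeCons.op_one, one_div, inv_eq_one] at hE
  let i : A ⟶ A := (𝟙 A)⁻¹
  have hii : i ≫ i = 𝟙 A := by rw [GrpObj.comp_inv, Category.comp_id, _root_.inv_inv]
  have : IsIso i := ⟨i, hii, hii⟩
  have : IsIso i.left := inferInstanceAs (IsIso ((Over.forget _).map i))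
  have hiL : CohB1.IsAmple ((Scheme.Modules.pullback i.left).obj L) :=
    AmpleLib.isAmple_pullback_of_isInducing _ i.left.homeomorph.isInducing hL
  have hamp : CohB1.IsAmple (CohB1.tensorMod ((Scheme.Modules.pullback i.left).obj L) L) :=
    (S4381.result A.hom _).mp (S4384.result A.hom _ _ ((S4381.result A.hom _).mpr hiL) ((S4381.result A.hom _).mpr hL))
  have : CompactSpace B.left := QuasiCompact.compactSpace_of_compactSpace B.hom
  have hB := AmpleLib.isAmple_pullback_of_isInducing j.left hj hamp
  have hO : CohB1.IsAmple (Coh.structureModule B.left) := by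
    refine AmpleLib.isAmple_of_iso ((PicLaw.iso_iff hB.1 (PicLoc.isInvertible_structureModule _)).mpr ?_).some hB
    rw [PicLaw.cls_pullback _ hamp.1, PicLaw.cls_tensor hiL.1 hL.1, PicLaw.cls_pullback _ hL.1, PicLaw.cls_one,
      map_mul, ← hl]
    show op j (op i l) * op j l = 1
    rw [← PicLaw.Mumford.op_comp, GrpObj.comp_inv, Category.comp_id]
    exact hE
  have := isFinite_of_isAmple B.hom hO
  have hBfin : Finite B.left := Set.finite_univ_iff.mp
    ((IsFinite.finite_preimage_singleton B.hom (IsLocalRing.closedPoint K)).subset fun x _ =>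
      Subsingleton.elim (α := PrimeSpectrum K) _ _)
  have : Finite I.subscheme := hBfin
  exact ((Set.finite_range I.subschemeι).subset (by rw [hr])).subset Set.inter_subset_left

end Groth.Agent.AbVarLib.KerAmple
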