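import Groth.Agent.AbVarLib.RatLine
import Mathlib.RingTheory.Localization.FractionRing
import Mathlib.AlgebraicGeometry.FunctionField
import Mathlib.Algebra.MvPolynomial.Equiv
import Mathlib.CategoryTheory.Monoidal.Cartesian.Over

/-!
# A proper group scheme has no new points over a purely transcendental extension of degree one
-/

set_option autoImplicit false
universe u
open CategoryTheory MonoidalCategory CartesianMonoidalCategory MonObj AlgebraicGeometry Polynomial
open Groth.Agent.AbVarLib.RatLine

namespace Groth.Agent.AbVarLib.RatPoints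

variable {k : Type u} [Field k]

theorem sp_id (R : Type u) [CommRing R] [Algebra k R] : sp (AlgHom.id k R) = 𝟙 (O k R) := by
  apply Over.OverMorphism.ext
  show Spec.map _ = 𝟙 _
  rw [← Spec.map_id]
  rfl

theorem sp_left {R S : Type u} [CommRing R] [Algebra k R] [CommRing S] [Algebra k S]
    (φ : R →ₐ[k] S) : (sp φ).left = Spec.map (CommRingCat.ofHom φ.toRingHom) := rfl

theorem exists_extension_aux (R : CommRingCat.{u}) [IsDomain R] [IsPrincipalIdealRing R] (K : Type u)
    [Field K] [Algebra R K] [IsFractionRing R K] {S A : Scheme.{u}} (q : A ⟶ S) [IsProper q]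
    (p : Spec R ⟶ S) (z : Spec (CommRingCat.of K) ⟶ A)
    (hz : z ≫ q = Spec.map (CommRingCat.ofHom (algebraMap R K)) ≫ p) :
    ∃ f : Spec R ⟶ A, f ≫ q = p ∧ Spec.map (CommRingCat.ofHom (algebraMap R K)) ≫ f = z := by
  have hX : ∀ x : Spec R, ValuationRing ((Spec R).presheaf.stalk x) :=
    fun x => ExtendCurve.valuationRing_stalk R x
  let e : (Spec R).functionField ≃ₐ[R] K := IsLocalization.algEquiv (nonZeroDivisors R) _ K
  let c₁ : (Spec R).functionField ⟶ CommRingCat.of K := CommRingCat.ofHom e.toRingEquiv.toRingHom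
  let c₂ : CommRingCat.of K ⟶ (Spec R).functionField := CommRingCat.ofHom e.symm.toRingEquiv.toRingHom
  have h21 : c₂ ≫ c₁ = 𝟙 _ := by ext r; exact e.apply_symm_apply r
  let a : R ⟶ (Spec R).functionField :=
    CommRingCat.ofHom (algebraMap R (Spec R).functionField)
  have hcomm : CommRingCat.ofHom (algebraMap R K) ≫ c₂ = a := by
    ext r; exact e.symm.commutes r
  have hcomm' : a ≫ c₁ = CommRingCat.ofHom (algebraMap R K) := by
    ext r; exact e.commutes r
  have hη : (Spec R).fromSpecStalk (genericPoint (Spec R)) = Spec.map a :=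
    Spec.fromSpecStalk_eq' R (genericPoint (Spec R))
  obtain ⟨f, hf, hf'⟩ := ExtendCurve.exists_extension hX p q (Spec.map c₂ ≫ z) (by
    rw [Category.assoc, hz, ← Spec.map_comp_assoc, hcomm, hη])
  refine ⟨f, hf, ?_⟩
  rw [← hcomm', Spec.map_comp, Category.assoc, ← hη, hf', ← Spec.map_comp_assoc, h21, Spec.map_id,
    Category.id_comp]

/-- Extension of a point over the fraction field of a principal ideal domain. -/
theorem exists_extension_affine (R K : Type u) [CommRing R] [IsDomain R] [IsPrincipalIdealRing R]
    [Algebra k R] [Field K] [Algebra k K] [Algebra R K] [IsFractionRing R K] [IsScalarTower k R K]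
    {G : Over (Spec (CommRingCat.of k))} [IsProper G.hom] (z : O k K ⟶ G) :
    ∃ f : O k R ⟶ G, sp (IsScalarTower.toAlgHom k R K) ≫ f = z := by
  have : IsDomain (CommRingCat.of R) := ‹IsDomain R›
  have : IsPrincipalIdealRing (CommRingCat.of R) := ‹IsPrincipalIdealRing R›
  let : Algebra (CommRingCat.of R) K := ‹Algebra R K›
  have : IsFractionRing (CommRingCat.of R) K := ‹IsFractionRing R K›
  obtain ⟨f, hf, hf'⟩ := exists_extension_aux (CommRingCat.of R) K G.hom
    (Spec.map (CommRingCat.ofHom (algebraMap k R))) z.left (by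
      rw [Over.w z]
      show Spec.map _ = Spec.map _ ≫ Spec.map _
      rw [← Spec.map_comp, ← CommRingCat.ofHom_comp]
      exact congrArg (fun g => Spec.map (CommRingCat.ofHom g)) (IsScalarTower.algebraMap_eq k R K))
  exact ⟨Over.homMk f hf, Over.OverMorphism.ext hf'⟩

theorem exists_laurent_embedding (K : Type u) [Field K] [Algebra k K] [Algebra (Polynomial k) K]
    [IsScalarTower k (Polynomial k) K] [IsFractionRing (Polynomial k) K] :
    ∃ f : LaurentPolynomial k →ₐ[k] K, Function.Injective f ∧
      f.comp (j₀ (k := k)) = IsScalarTower.toAlgHom k (Polynomial k) K := by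
  set g : Polynomial k →ₐ[k] K := IsScalarTower.toAlgHom k (Polynomial k) K with hgdef
  have hg : Function.Injective g := IsFractionRing.injective (Polynomial k) K
  have hx : IsUnit (g Polynomial.X) := isUnit_iff_ne_zero.mpr fun h =>
    Polynomial.X_ne_zero (hg (h.trans (map_zero g).symm))
  let f : LaurentPolynomial k →ₐ[k] K :=
    { LaurentPolynomial.eval₂ (algebraMap k K) hx.unit with
      commutes' := fun r => by
        show LaurentPolynomial.eval₂ _ _ (algebraMap k (LaurentPolynomial k) r) = _
        rw [← LaurentPolynomial.C_eq_algebraMap, LaurentPolynomial.eval₂_C] }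
  have hf : f.comp (j₀ (k := k)) = g := Polynomial.algHom_ext (by
    rw [AlgHom.comp_apply]
    show f (Polynomial.toLaurent Polynomial.X) = _
    rw [Polynomial.toLaurent_X]
    show LaurentPolynomial.eval₂ _ _ _ = _
    rw [LaurentPolynomial.eval₂_T]
    simp)
  refine ⟨f, (injective_iff_map_eq_zero f).mpr fun p hp => ?_, hf⟩
  induction p using LaurentPolynomial.induction_on_mul_T with
  | mul_T q n =>
    rw [map_mul, mul_eq_zero] at hp
    rcases hp with h | h
    · rw [show f (Polynomial.toLaurent q) = g q from AlgHom.congr_fun hf q, map_eq_zero_iff g hg] at h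
      simp [h]
    · exact absurd h ((LaurentPolynomial.isUnit_T (-n : ℤ)).map f).ne_zero

theorem exists_lift (A K L : Type u) [CommRing A] [IsDomain A] [Algebra k A] [Field K] [Algebra k K]
    [Algebra A K] [IsScalarTower k A K] [IsFractionRing A K] [Field L] [Algebra k L]
    (τ : A →ₐ[k] L) (hτ : Function.Injective τ) :
    ∃ θ : K →ₐ[k] L, θ.comp (IsScalarTower.toAlgHom k A K) = τ := by
  refine ⟨{ IsFractionRing.lift (A := A) (K := K) (g := τ.toRingHom) hτ with
      commutes' := fun r => ?_ }, AlgHom.ext fun p => IsFractionRing.lift_algebraMap (g := τ.toRingHom) hτ p⟩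
  show IsFractionRing.lift (A := A) (K := K) (g := τ.toRingHom) hτ (algebraMap k K r) = _
  conv_lhs => rw [IsScalarTower.algebraMap_apply k A K, IsFractionRing.lift_algebraMap]
  exact τ.commutes r

/-- `G (k (t)) = G (k)` for a proper group scheme `G` over a field `k`. -/
theorem exists_const_fractionRing_polynomial {G : Over (Spec (CommRingCat.of k))} [GrpObj G]
    [IsProper G.hom] (K : Type u) [Field K] [Algebra k K] [Algebra (Polynomial k) K]
    [IsScalarTower k (Polynomial k) K] [IsFractionRing (Polynomial k) K] (z : O k K ⟶ G) :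
    ∃ c : O k k ⟶ G, z = sp (Algebra.ofId k K) ≫ c := by
  obtain ⟨jL, hjLinj, hjL⟩ := exists_laurent_embedding (k := k) K
  set jK : Polynomial k →ₐ[k] K := IsScalarTower.toAlgHom k (Polynomial k) K with hjK
  let τ : Polynomial k →ₐ[k] K := jL.comp ji
  have hτ : Function.Injective τ :=
    hjLinj.comp ((LaurentPolynomial.invert (R := k)).injective.comp Polynomial.toLaurent_injective)
  obtain ⟨θ, hθK⟩ := exists_lift (Polynomial k) K K τ hτ
  have hτX : τ Polynomial.X = (jK Polynomial.X)⁻¹ := by
    refine eq_inv_of_mul_eq_one_left ?_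
    show jL (ji Polynomial.X) * jK Polynomial.X = 1
    rw [← hjL, AlgHom.comp_apply, ← map_mul,
      show (ji (k := k)) Polynomial.X = LaurentPolynomial.T (-1) by simp [ji],
      show (j₀ (k := k)) Polynomial.X = LaurentPolynomial.T 1 by simp [j₀], ← LaurentPolynomial.T_add]
    simp
  have hθθ : θ.comp θ = AlgHom.id k K := by
    have h1 : θ (jK Polynomial.X) = (jK Polynomial.X)⁻¹ := (AlgHom.congr_fun hθK _).trans hτX
    have h : (θ.comp θ).comp jK = jK := Polynomial.algHom_ext (by
      rw [AlgHom.comp_apply, AlgHom.comp_apply, h1, map_inv₀, h1, inv_inv])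
    exact AlgHom.coe_ringHom_injective (IsLocalization.ringHom_ext (nonZeroDivisors (Polynomial k))
      (RingHom.ext fun p => AlgHom.congr_fun h p))
  obtain ⟨f₀, hf₀⟩ := exists_extension_affine (Polynomial k) K z
  obtain ⟨fi, hfi⟩ := exists_extension_affine (Polynomial k) K (sp θ ≫ z)
  have h2 : sp τ ≫ fi = z := by
    rw [← hθK, sp_comp, Category.assoc, show sp jK ≫ fi = sp θ ≫ z from hfi, ← Category.assoc,
      ← sp_comp, hθθ, sp_id, Category.id_comp]
  have h0 : sp jL ≫ sp j₀ ≫ f₀ = z := by rw [← Category.assoc, ← sp_comp, hjL]; exact hf₀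
  have h2' : sp jL ≫ sp ji ≫ fi = z := by rw [← Category.assoc, ← sp_comp]; exact h2
  have : IsDominant (sp jL).left := ⟨by
    show DenseRange (PrimeSpectrum.comap jL.toRingHom)
    rw [PrimeSpectrum.denseRange_comap_iff_ker_le_nilRadical,
      (RingHom.injective_iff_ker_eq_bot jL.toRingHom).mp hjLinj]
    exact bot_le⟩
  have : IsReduced (O k (LaurentPolynomial k)).left :=
    inferInstanceAs (IsReduced (Spec (CommRingCat.of (LaurentPolynomial k))))
  have hF : sp (j₀ (k := k)) ≫ f₀ = sp ji ≫ fi := Over.OverMorphism.ext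
    (ext_of_isDominant_of_isSeparated G.hom (by rw [Over.w, Over.w]) (sp jL).left
      (congrArg CommaMorphism.left (h0.trans h2'.symm)))
  refine ⟨sp (Polynomial.aeval (0 : k)) ≫ f₀, ?_⟩
  conv_lhs => rw [← hf₀, eq_const_of_charts f₀ fi hF]
  rw [← Category.assoc, ← sp_comp]
  congr 2
  exact Subsingleton.elim _ _

/-- `G (k (t₁, …, tₙ)) = G (k)` for a proper group scheme `G` over a field `k`. -/
theorem exists_const_fractionRing_mvPolynomial {G : Over (Spec (CommRingCat.of k))} [GrpObj G]
    [IsProper G.hom] (n : ℕ) :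
    ∀ (K : Type u) [Field K] [Algebra k K] [Algebra (MvPolynomial (Fin n) k) K]
      [IsScalarTower k (MvPolynomial (Fin n) k) K] [IsFractionRing (MvPolynomial (Fin n) k) K]
      (z : O k K ⟶ G), ∃ c : O k k ⟶ G, z = sp (Algebra.ofId k K) ≫ c := by
  induction n with
  | zero =>
    intro K _ _ _ _ _ z
    let e := MvPolynomial.isEmptyAlgEquiv k (Fin 0)
    let g : MvPolynomial (Fin 0) k →ₐ[k] K := IsScalarTower.toAlgHom k _ K
    obtain ⟨h, -⟩ := exists_lift (MvPolynomial (Fin 0) k) K k e.toAlgHom e.injective
    refine ⟨sp h ≫ z, ?_⟩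
    have hh : (Algebra.ofId k K).comp h = AlgHom.id k K :=
      AlgHom.coe_ringHom_injective (IsLocalization.ringHom_ext (nonZeroDivisors (MvPolynomial (Fin 0) k))
        (congrArg AlgHom.toRingHom (MvPolynomial.algHom_ext (fun i => i.elim0) :
          ((Algebra.ofId k K).comp h).comp g = (AlgHom.id k K).comp g)))
    rw [← Category.assoc, ← sp_comp, hh, sp_id, Category.id_comp]
  | succ n ih =>
    intro K _ _ _ _ _ z
    let L : Type u := FractionRing (MvPolynomial (Fin n) k)
    let M : Type u := FractionRing (Polynomial L)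
    let φ : MvPolynomial (Fin (n + 1)) k →ₐ[k] M :=
      (IsScalarTower.toAlgHom k (Polynomial L) M).comp
        ((Polynomial.mapAlgHom (IsScalarTower.toAlgHom k (MvPolynomial (Fin n) k) L)).comp
          (MvPolynomial.finSuccEquiv k n).toAlgHom)
    have hφ : Function.Injective φ :=
      (IsFractionRing.injective (Polynomial L) M).comp
        ((Polynomial.map_injective _ (IsFractionRing.injective (MvPolynomial (Fin n) k) L)).comp
          (MvPolynomial.finSuccEquiv k n).injective)
    obtain ⟨m, -⟩ := exists_lift (MvPolynomial (Fin (n + 1)) k) K M φ hφ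
    let s : Spec (CommRingCat.of L) ⟶ Spec (CommRingCat.of k) := Spec.map (CommRingCat.ofHom (algebraMap k L))
    let GB : Over (Spec (CommRingCat.of L)) := (Over.pullback s).obj G
    let : GrpObj GB := ((Over.pullback s).mapGrp.obj (.mk G)).grp
    have : IsProper GB.hom := inferInstanceAs (IsProper (Limits.pullback.snd G.hom s))
    let zM : O L M ⟶ GB := Over.homMk (Limits.pullback.lift (sp m ≫ z).left
      (Spec.map (CommRingCat.ofHom (algebraMap L M))) (by
        rw [Over.w (sp m ≫ z)]
        show Spec.map _ = Spec.map _ ≫ Spec.map _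
        rw [← Spec.map_comp, ← CommRingCat.ofHom_comp, ← IsScalarTower.algebraMap_eq]))
      (Limits.pullback.lift_snd _ _ _)
    obtain ⟨cL, hcL⟩ := exists_const_fractionRing_polynomial (k := L) M zM
    let c' : O k L ⟶ G := Over.homMk (cL.left ≫ Limits.pullback.fst G.hom s) (by
      have := Over.w cL
      rw [Category.assoc, Limits.pullback.condition, ← Category.assoc]
      refine (congrArg (· ≫ s) this).trans ?_
      show Spec.map _ ≫ s = Spec.map _
      rw [← Spec.map_comp, ← CommRingCat.ofHom_comp])
    obtain ⟨c, hc⟩ := ih L c'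
    refine ⟨c, Over.OverMorphism.ext ?_⟩
    have : IsDominant (sp m).left := ⟨by
      show DenseRange (PrimeSpectrum.comap m.toRingHom)
      rw [PrimeSpectrum.denseRange_comap_iff_ker_le_nilRadical,
        (RingHom.injective_iff_ker_eq_bot m.toRingHom).mp m.toRingHom.injective]
      exact bot_le⟩
    have : IsReduced (O k K).left := inferInstanceAs (IsReduced (Spec (CommRingCat.of K)))
    refine ext_of_isDominant_of_isSeparated G.hom (by rw [Over.w, Over.w]) (sp m).left ?_
    calc (sp m).left ≫ z.left = zM.left ≫ Limits.pullback.fst G.hom s :=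
          (Limits.pullback.lift_fst _ _ _).symm
      _ = (sp (Algebra.ofId L M)).left ≫ c'.left := by rw [hcL, Over.comp_left, Category.assoc]; rfl
      _ = _ := by
          rw [hc, Over.comp_left, Over.comp_left, sp_left, sp_left, sp_left, sp_left, ← Category.assoc,
            ← Spec.map_comp, ← CommRingCat.ofHom_comp, ← Category.assoc, ← Spec.map_comp,
            ← CommRingCat.ofHom_comp]
          congr 3
          exact ((IsScalarTower.algebraMap_eq k L M).symm.trans m.comp_algebraMap.symm)

end Groth.Agent.AbVarLib.RatPoints
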