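import Mathlib

/-! Bilinear forms invariant (up to scaling) under an automorphism: generalized kernels. -/

set_option autoImplicit false
universe u v
open Polynomial

namespace Groth.Agent.AbVarLib.BilinInv

variable {k : Type u} [Field k] {V : Type v} [AddCommGroup V] [Module k V]

theorem pow_apply_shift (B : LinearMap.BilinForm k V) (M : Module.End k V)
    (hM : ∀ x y : V, B (M x) (M y) = B x y) (i : ℕ) (x y : V) :
    B ((M ^ i) x) ((M ^ i) y) = B x y := by
  induction i generalizing x y with
  | zero => rfl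
  | succ i ih => simp only [pow_succ', Module.End.mul_apply, hM, ih]

theorem aeval_reverse (B : LinearMap.BilinForm k V) (M : Module.End k V)
    (hM : ∀ x y : V, B (M x) (M y) = B x y) (P : k[X]) (x y : V) :
    B (aeval M P x) ((M ^ P.natDegree) y) = B x (aeval M P.reverse y) := by
  set d := P.natDegree
  have e1 : aeval M P = ∑ i ∈ Finset.range (d + 1), P.coeff i • M ^ i := aeval_eq_sum_range M
  have e2 : aeval M P.reverse = ∑ i ∈ Finset.range (d + 1), P.reverse.coeff i • M ^ i :=
    aeval_eq_sum_range' (Nat.lt_succ_of_le (reverse_natDegree_le P)) M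
  rw [e1, e2, ← Finset.sum_range_reflect (fun i => P.reverse.coeff i • M ^ i)]
  simp only [LinearMap.sum_apply, map_sum, LinearMap.smul_apply, map_smul]
  refine Finset.sum_congr rfl fun i hi => ?_
  rw [Finset.mem_range, Nat.lt_succ_iff] at hi
  have hc : P.reverse.coeff (d + 1 - 1 - i) = P.coeff i := by
    rw [coeff_reverse, revAt_le (by omega)]; congr 1; omega
  rw [hc]
  congr 1
  nth_rw 1 [show d = i + (d + 1 - 1 - i) by omega]
  rw [pow_add, Module.End.mul_apply, pow_apply_shift B M hM]

theorem reverse_pow' (P : k[X]) (n : ℕ) : (P ^ n).reverse = P.reverse ^ n := by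
  induction n with
  | zero => rw [pow_zero, pow_zero, ← C_1, reverse_C]
  | succ n ih => rw [pow_succ, pow_succ, reverse_mul_of_domain, ih]

theorem ker_iSup_eq (f : Module.End k V) [FiniteDimensional k V] :
    ∃ N, ∀ m, N ≤ m → (⨆ n : ℕ, LinearMap.ker (f ^ n)) = LinearMap.ker (f ^ m) ∧
      IsCompl (LinearMap.ker (f ^ m)) (LinearMap.range (f ^ m)) := by
  obtain ⟨N, hN⟩ := Filter.eventually_atTop.mp (LinearMap.eventually_isCompl_ker_pow_range_pow f)
  have hc : Monotone fun n : ℕ => LinearMap.ker (f ^ n) := f.iterateKer.monotone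
  obtain ⟨M, hMst⟩ := monotone_stabilizes_iff_noetherian.mpr inferInstance f.iterateKer
  refine ⟨max N M, fun m hm => ⟨le_antisymm (iSup_le fun n => ?_) (le_iSup (fun n : ℕ => LinearMap.ker (f ^ n)) _),
    hN _ ((le_max_left _ _).trans hm)⟩⟩
  rcases le_total n m with h | h
  · exact hc h
  · have h1 := hMst m ((le_max_right _ _).trans hm)
    have h2 := hMst n (((le_max_right _ _).trans hm).trans h)
    exact le_of_eq (h2.symm.trans h1)

theorem mem_ker_pow_of_le (f : Module.End k V) {n N : ℕ} (h : n ≤ N) {x : V} (hx : (f ^ n) x = 0) :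
    (f ^ N) x = 0 := by
  rw [← Nat.sub_add_cancel h, pow_add, Module.End.mul_apply, hx, map_zero]

end Groth.Agent.AbVarLib.BilinInv
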