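import Mathlib

/-!
# The dimension of a centralizer from traces of powers
-/

set_option autoImplicit false

open Polynomial

noncomputable section

namespace Groth.Agent.AbVarLib.CentTrace

/-- The adjoint action. -/
def ad {F : Type*} [Field F] {V : Type*} [AddCommGroup V] [Module F V] (T : Module.End F V) :
    Module.End F (Module.End F V) :=
  LinearMap.mulLeft F T - LinearMap.mulRight F T

theorem trace_mulLeft_mulRight {F : Type*} [Field F] {V : Type*} [AddCommGroup V] [Module F V] [Module.Finite F V]
    (S T : Module.End F V) :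
    LinearMap.trace F _ (LinearMap.mulLeft F S * LinearMap.mulRight F T) =
      LinearMap.trace F V S * LinearMap.trace F V T := by
  classical
  let b := Module.finBasis F V
  let e := (LinearMap.toMatrixAlgEquiv b).toLinearEquiv
  rw [← LinearMap.trace_conj' _ e, LinearMap.trace_eq_matrix_trace F (Matrix.stdBasis F _ _),
    LinearMap.trace_eq_matrix_trace F b S, LinearMap.trace_eq_matrix_trace F b T]
  have key : ∀ ij : Fin (Module.finrank F V) × Fin (Module.finrank F V),
      LinearMap.toMatrix (Matrix.stdBasis F _ _) (Matrix.stdBasis F _ _)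
        (e.conj (LinearMap.mulLeft F S * LinearMap.mulRight F T)) ij ij =
      LinearMap.toMatrix b b S ij.1 ij.1 * LinearMap.toMatrix b b T ij.2 ij.2 := by
    rintro ⟨i, j⟩
    have h : ∀ M, e.conj (LinearMap.mulLeft F S * LinearMap.mulRight F T) M =
        LinearMap.toMatrix b b S * (M * LinearMap.toMatrix b b T) := fun M => by
      rw [LinearEquiv.conj_apply_apply]
      show LinearMap.toMatrixAlgEquiv b (S * ((LinearMap.toMatrixAlgEquiv b).symm M * T)) = _
      rw [map_mul, map_mul, AlgEquiv.apply_symm_apply]
      rfl
    rw [LinearMap.toMatrix_apply, h, Matrix.stdBasis_eq_single]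
    simp [Matrix.stdBasis, Matrix.mul_apply, Matrix.single_apply, ite_and]
  simp only [Matrix.trace, Matrix.diag, key, Fintype.sum_prod_type, Finset.sum_mul_sum]

/-- The trace of a power of the adjoint action. -/
theorem trace_ad_pow {F : Type*} [Field F] {V : Type*} [AddCommGroup V] [Module F V] [Module.Finite F V]
    (T : Module.End F V) (n : ℕ) :
    LinearMap.trace F _ (ad T ^ n) =
      ∑ m ∈ Finset.range (n + 1), ((-1 : ℤ) ^ (n - m) * n.choose m : ℤ) •
        (LinearMap.trace F V (T ^ m) * LinearMap.trace F V (T ^ (n - m))) := by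
  have hc : Commute (LinearMap.mulLeft F T) (LinearMap.mulRight F T) := LinearMap.commute_mulLeft_right T T
  rw [ad, sub_eq_add_neg, hc.neg_right.add_pow, map_sum]
  refine Finset.sum_congr rfl fun m _ => ?_
  rw [← trace_mulLeft_mulRight, ← map_zsmul]
  congr 1
  rw [← LinearMap.pow_mulLeft, ← LinearMap.pow_mulRight, neg_pow, zsmul_eq_mul]
  push_cast
  rcases neg_one_pow_eq_or (Module.End F (Module.End F V)) (n - m) with h | h <;>
    simp [h, (Nat.cast_commute (n.choose m) _).eq]

/-- **The dimension of the centralizer is determined by the traces of the powers.** -/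
theorem finrank_ker_ad {F : Type*} [Field F] [CharZero F] {V : Type*} [AddCommGroup V] [Module F V]
    [Module.Finite F V] (T : Module.End F V) (hss : T.IsSemisimple) (R₁ : ℚ[X]) (m : ℕ) (hR₁ : R₁.coeff 0 = 1)
    (hann : aeval (ad T) ((X ^ m * R₁).map (algebraMap ℚ F)) = 0) (t : ℕ → ℤ)
    (ht : ∀ j, LinearMap.trace F V (T ^ j) = (t j : F)) :
    (Module.finrank F (LinearMap.ker (ad T)) : F) =
      algebraMap ℚ F (R₁.sum fun n a => a *
        ((∑ i ∈ Finset.range (n + 1), ((-1 : ℤ) ^ (n - i) * n.choose i) * (t i * t (n - i)) : ℤ) : ℚ)) := by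
  classical
  have hL : Module.End.IsSemisimple (LinearMap.mulLeft F T : Module.End F (Module.End F V)) :=
    Module.End.isSemisimple_of_squarefree_aeval_eq_zero hss.minpoly_squarefree (by
      rw [show LinearMap.mulLeft F T = Algebra.lmul F (Module.End F V) T from rfl, aeval_algHom_apply,
        minpoly.aeval, map_zero])
  have hR : Module.End.IsSemisimple (LinearMap.mulRight F T : Module.End F (Module.End F V)) :=
    Module.End.isSemisimple_of_squarefree_aeval_eq_zero hss.minpoly_squarefree (by
      refine LinearMap.ext fun x => ?_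
      have h2 : ∀ p : F[X], aeval (LinearMap.mulRight F T) p x = x * aeval T p := fun p => by
        induction p using Polynomial.induction_on' generalizing x with
        | add p q hp hq => rw [map_add, map_add, LinearMap.add_apply, hp, hq, mul_add]
        | monomial n a =>
          rw [aeval_monomial, aeval_monomial, LinearMap.pow_mulRight, Module.End.mul_apply,
            Module.algebraMap_end_apply, LinearMap.mulRight_apply, ← Algebra.smul_def, mul_smul_comm]
      rw [h2, minpoly.aeval, mul_zero, LinearMap.zero_apply])
  have hD : (ad T).IsSemisimple := Module.End.IsSemisimple.sub_of_commute (LinearMap.commute_mulLeft_right T T) hL hR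
  set p := R₁.map (algebraMap ℚ F)
  have h0 : p.coeff 0 = 1 := by rw [coeff_map, hR₁, map_one]
  have hXp : aeval (ad T) (X * p) = 0 := by
    obtain ⟨c, hc⟩ : minpoly F (ad T) ∣ X * p := by
      refine hD.minpoly_squarefree.isRadical (m + 1) _ ((minpoly.dvd F _ hann).trans ?_)
      rw [Polynomial.map_mul, Polynomial.map_pow, map_X, _root_.mul_pow]
      exact mul_dvd_mul (pow_dvd_pow _ (Nat.le_succ m)) (dvd_pow_self _ (Nat.succ_ne_zero m))
    rw [hc, map_mul, minpoly.aeval, zero_mul]
  have hproj : LinearMap.IsProj (LinearMap.ker (ad T)) (aeval (ad T) p) := by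
    refine ⟨fun x => ?_, fun x hx => ?_⟩
    · rw [LinearMap.mem_ker, ← Module.End.mul_apply]
      have : ad T * aeval (ad T) p = 0 := by rw [← hXp, map_mul, aeval_X]
      rw [this, LinearMap.zero_apply]
    · conv_lhs => rw [← Polynomial.divX_mul_X_add p]
      rw [map_add, map_mul, aeval_X, aeval_C, LinearMap.add_apply, Module.End.mul_apply, LinearMap.mem_ker.mp hx,
        map_zero, zero_add, h0, map_one, Module.End.one_apply]
  rw [← hproj.trace, aeval_def, eval₂_map, Polynomial.eval₂_eq_sum, Polynomial.sum_def, Polynomial.sum_def, map_sum,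
    map_sum]
  refine Finset.sum_congr rfl fun n _ => ?_
  rw [RingHom.comp_apply, ← Algebra.smul_def, map_smul, trace_ad_pow, smul_eq_mul, map_mul, map_intCast]
  congr 1
  push_cast
  exact Finset.sum_congr rfl fun i _ => by rw [ht, ht, zsmul_eq_mul]; push_cast; ring

end Groth.Agent.AbVarLib.CentTrace
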