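import Groth.Agent.AbVarLib.Degenerate
import Groth.Agent.AbVarLib.FiniteKernel
import Groth.Agent.AbSch51.IsogenyEuler
import Groth.Agent.AbSch51.MulDeg
import Groth.Agent.GrpScheme.AVDegree
import Groth.Agent.GrpScheme.HomFlat
import Groth.Agent.S1528
import Mathlib.Algebra.MvPolynomial.Funext

/-!
# The degree of homomorphisms is a homogeneous polynomial

The Euler characteristic of the pullback of a fixed ample class is a polynomial in the exponents of a
quadratically varying class; it is the degree times a nonzero constant.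
-/

set_option autoImplicit false
universe u

open CategoryTheory CategoryTheory.Limits MonoidalCategory CartesianMonoidalCategory MonObj AlgebraicGeometry

noncomputable section

namespace Groth.Agent.AbVarLib.DegPoly

open scoped Groth.Agent.PicLaw
open PicLaw.Mumford (op)

variable {k : Type u} [Field k]

theorem cls_tensorPows {X : Scheme.{u}} {F : X.Modules} (hF : PicF.IsInvertible F) :
    ∀ (r : ℕ) (L : Fin r → X.Modules) (hL : ∀ i, PicF.IsInvertible (L i)) (n : Fin r → ℕ),
      ∃ h : PicF.IsInvertible (Curv2.tensorPows F r L n),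
        PicGrp.cls _ h = PicGrp.cls F hF * ∏ i, PicGrp.cls (L i) (hL i) ^ n i
  | 0, L, hL, n => ⟨hF, by simp; rfl⟩
  | r + 1, L, hL, n => by
    obtain ⟨h, e⟩ := cls_tensorPows hF r (fun i => L i.castSucc) (fun i => hL _) (fun i => n i.castSucc)
    obtain ⟨h', e'⟩ := GrpScheme.PowPullback.cls_tensorPow (hL (Fin.last r)) (n (Fin.last r))
    refine ⟨PicLaw.isInvertible_tensor h h', ?_⟩
    refine (PicLaw.cls_tensor h h').trans ?_
    rw [e, e', Fin.prod_univ_castSucc, _root_.mul_assoc]

/-- The Euler characteristic is a polynomial in integral exponents. -/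
theorem exists_euler_poly {X : Scheme.{u}} [X.Over (Spec (CommRingCat.of k))]
    [IsProper (X ↘ (Spec (CommRingCat.of k)))] {d : ℕ} (hd : topologicalKrullDim X ≤ (d : WithBot ℕ∞))
    {s : ℕ} (c : Fin s → PicLoc.PicSet X) :
    ∃ P : MvPolynomial (Fin s) ℚ, P.totalDegree ≤ d ∧ ∀ (e : Fin s → ℤ) (M : X.Modules) (hM : PicF.IsInvertible M),
      PicGrp.cls M hM = ∏ i, c i ^ e i → (Curv2.euler k X M : ℚ) = MvPolynomial.eval (fun i => (e i : ℚ)) P := by
  classical
  have := EulerChar.isNoetherian k (X := X)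
  choose L hL hc using fun i => PicGrp.exists_eq_cls (c i)
  choose L' hL' hc' using fun i => PicGrp.exists_eq_cls ((c i)⁻¹)
  let LL : Fin (s + s) → X.Modules := Fin.append L L'
  have hLL : ∀ i, PicF.IsInvertible (LL i) := Fin.addCases
    (fun i => by show PicF.IsInvertible (Fin.append L L' _); rw [Fin.append_left]; exact hL i)
    (fun i => by show PicF.IsInvertible (Fin.append L L' _); rw [Fin.append_right]; exact hL' i)
  have hO := PicLoc.isInvertible_structureModule X
  obtain ⟨P0, hP0, hev⟩ := S1528.result k X (Coh.structureModule X) (Cube.Seesaw.isCoh_of_invertible hO) d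
    (EulerChar.dim_support_le hd) (s + s) LL hLL
  let φ : Fin (s + s) → MvPolynomial (Fin s) ℚ := Fin.append MvPolynomial.X (fun _ => 0)
  refine ⟨MvPolynomial.aeval φ P0, ?_, fun e M hM heq => ?_⟩
  · conv_lhs => rw [P0.as_sum, map_sum]
    refine (MvPolynomial.totalDegree_finsetSum _ _).trans (Finset.sup_le fun q hq => ?_)
    rw [MvPolynomial.aeval_monomial, MvPolynomial.algebraMap_eq]
    refine (MvPolynomial.totalDegree_mul _ _).trans ?_
    rw [MvPolynomial.totalDegree_C, Nat.zero_add]
    refine (MvPolynomial.totalDegree_finset_prod _ _).trans ?_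
    refine le_trans (Finset.sum_le_sum fun i _ => ((MvPolynomial.totalDegree_pow _ _).trans
      (Nat.mul_le_mul_left _ (?_ : (φ i).totalDegree ≤ 1)))) ?_
    · refine Fin.addCases (fun j => ?_) (fun j => ?_) i
      · simp only [φ, Fin.append_left, MvPolynomial.totalDegree_X, le_refl]
      · simp only [φ, Fin.append_right, MvPolynomial.totalDegree_zero, Nat.zero_le]
    · simp only [_root_.mul_one]
      exact (MvPolynomial.le_totalDegree hq).trans hP0
  · let ψ : Fin (s + s) → Polynomial ℚ :=
      Fin.append (fun i => Polynomial.C (e i : ℚ) + Polynomial.X) (fun _ => Polynomial.X)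
    have hq : ∀ x : ℚ, (MvPolynomial.aeval ψ P0).eval x =
        MvPolynomial.eval (Fin.append (fun i => (e i : ℚ) + x) (fun _ => x)) P0 := fun x => by
      rw [← Polynomial.coe_aeval_eq_eval, MvPolynomial.comp_aeval_apply, MvPolynomial.aeval_eq_eval]
      refine congrArg (fun z => MvPolynomial.eval z P0) (funext fun i => ?_)
      refine Fin.addCases (fun j => ?_) (fun j => ?_) i <;>
        simp only [ψ, Fin.append_left, Fin.append_right, Polynomial.coe_aeval_eq_eval, Polynomial.eval_add, Polynomial.eval_C, Polynomial.eval_X]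
    have hconst : MvPolynomial.aeval ψ P0 = Polynomial.C (Curv2.euler k X M : ℚ) := by
      refine Polynomial.eq_of_infinite_eval_eq _ _
        (((Set.Ici_infinite (∑ i, (e i).natAbs : ℕ)).image (Nat.cast_injective (R := ℚ)).injOn).mono ?_)
      rintro _ ⟨t, ht, rfl⟩
      show Polynomial.eval (t : ℚ) _ = _
      rw [hq, Polynomial.eval_C]
      have hnn : ∀ i, 0 ≤ e i + t := fun i => by
        have := Finset.single_le_sum (f := fun i => (e i).natAbs) (fun _ _ => Nat.zero_le _) (Finset.mem_univ i)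
        have : (e i).natAbs ≤ t := this.trans ht
        omega
      let n : Fin (s + s) → ℕ := Fin.append (fun i => (e i + t).toNat) (fun _ => t)
      obtain ⟨h, eh⟩ := cls_tensorPows hO (s + s) LL hLL n
      obtain ⟨φiso⟩ := (PicLaw.iso_iff h hM).mpr (by
        rw [eh, heq, (PicGrp.cls_eq_one_iff hO).mpr ⟨Iso.refl _⟩, _root_.one_mul, Fin.prod_univ_add,
          ← Finset.prod_mul_distrib]
        refine Finset.prod_congr rfl fun i _ => ?_
        have e1 : PicGrp.cls (LL (Fin.castAdd s i)) (hLL _) = c i := by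
          rw [hc i]; congr 1; simp only [LL, Fin.append_left]
        have e2 : PicGrp.cls (LL (Fin.natAdd s i)) (hLL _) = (c i)⁻¹ := by
          rw [hc' i]; congr 1; simp only [LL, Fin.append_right]
        rw [e1, e2]
        simp only [n, Fin.append_left, Fin.append_right]
        rw [← zpow_natCast, ← zpow_natCast, inv_zpow', ← zpow_add, Int.toNat_of_nonneg (hnn i)]
        congr 1; ring)
      rw [← EulerChar.euler_iso k φiso, hev]
      refine congrArg (fun z => MvPolynomial.eval z P0) (funext fun i => ?_)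
      refine Fin.addCases (fun j => ?_) (fun j => ?_) i
      · simp only [n, Fin.append_left]
        rw [show (((e j + t).toNat : ℕ) : ℚ) = (((e j + t).toNat : ℤ) : ℚ) from (Int.cast_natCast _).symm,
          Int.toNat_of_nonneg (hnn j)]
        push_cast; rfl
      · simp only [n, Fin.append_right]
    have h0 := hq 0
    rw [hconst, Polynomial.eval_C] at h0
    rw [h0, ← MvPolynomial.aeval_eq_eval, ← MvPolynomial.aeval_eq_eval, MvPolynomial.comp_aeval_apply]
    refine congrArg (fun z => MvPolynomial.aeval z P0) (funext fun i => ?_)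
    refine Fin.addCases (fun j => ?_) (fun j => ?_) i <;>
      simp only [φ, Fin.append_left, Fin.append_right, MvPolynomial.aeval_X, map_zero, _root_.add_zero]

section quad

variable {V A : Over (Spec (CommRingCat.of k))} [GrpObj A] [IsProper A.hom] [GeometricallyIntegral A.hom]
  (l : PicLoc.PicSet A.left)

/-- `y ↦ pair l x y`. -/
def pairHom (x : V ⟶ A) : (V ⟶ A) →* PicLoc.PicSet V.left :=
  MonoidHom.mk' (Defect.pair l x) (Defect.pair_mul_right l x)

theorem op_mul_eq (x y : V ⟶ A) : op (x * y) l = op x l * op y l * Defect.pair l x y := by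
  rw [Defect.pair, mul_div_cancel]

/-- `n choose 2` for integers. -/
def ch2 (n : ℤ) : ℤ := n * (n - 1) / 2

theorem ch2_cast (n : ℤ) : (ch2 n : ℚ) = (n : ℚ) * ((n : ℚ) - 1) / 2 := by
  rw [ch2, Int.cast_div (Int.even_mul_pred_self n).two_dvd (by norm_num)]
  push_cast; ring

theorem ch2_succ (n : ℤ) : ch2 (n + 1) = ch2 n + n := by
  have h : ((ch2 (n + 1) : ℤ) : ℚ) = ((ch2 n + n : ℤ) : ℚ) := by rw [Int.cast_add, ch2_cast, ch2_cast]; push_cast; ring
  exact_mod_cast h

theorem op_zpow_eq (y : V ⟶ A) (n : ℤ) : op (y ^ n) l = op y l ^ n * Defect.pair l y y ^ ch2 n := by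
  have hstep : ∀ m : ℤ, op (y ^ (m + 1)) l = op (y ^ m) l * op y l * Defect.pair l y y ^ m := fun m => by
    rw [zpow_add_one, op_mul_eq, Defect.pair_comm]
    congr 1
    exact map_zpow (pairHom l y) y m
  induction n using Int.induction_on with
  | zero => simp [ch2, CubeCons.op_one]
  | succ m ih =>
    rw [hstep, ih, zpow_add_one, ch2_succ, zpow_add]
    ac_rfl
  | pred m ih =>
    have h := hstep (-(m : ℤ) - 1)
    rw [sub_add_cancel, ih, show (-(m : ℤ)) = (-(m : ℤ) - 1) + 1 by ring, zpow_add_one, ch2_succ, zpow_add] at h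
    simp only [add_sub_cancel_right, sub_add_cancel] at h
    refine (mul_right_cancel (b := op y l * Defect.pair l y y ^ (-(m : ℤ) - 1)) ?_).symm
    calc op y l ^ (-(m : ℤ) - 1) * Defect.pair l y y ^ ch2 (-(m : ℤ) - 1) * (op y l * Defect.pair l y y ^ (-(m : ℤ) - 1))
        = op y l ^ (-(m : ℤ) - 1) * op y l * (Defect.pair l y y ^ ch2 (-(m : ℤ) - 1) * Defect.pair l y y ^ (-(m : ℤ) - 1)) :=
          _root_.mul_mul_mul_comm _ _ _ _
      _ = _ := by rw [h, _root_.mul_assoc]

theorem op_prod_eq [IsCommMonObj A] {m : ℕ} (f : Fin m → (V ⟶ A)) (a : Fin m → ℤ) (s : Finset (Fin m)) :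
    op (∏ i ∈ s, f i ^ a i) l = ∏ i ∈ s, (op (f i) l ^ a i * Defect.pair l (f i) (f i) ^ ch2 (a i) *
      ∏ j ∈ s, Defect.pair l (f i) (f j) ^ (if j < i then a i * a j else 0)) := by
  classical
  induction s using Finset.induction_on_max with
  | empty => simp [CubeCons.op_one]
  | insert b s hb ih =>
    have hbs : b ∉ s := fun h => lt_irrefl b (hb b h)
    rw [Finset.prod_insert hbs, Finset.prod_insert hbs, op_mul_eq, ih, op_zpow_eq]
    have hp : Defect.pair l (f b ^ a b) (∏ i ∈ s, f i ^ a i) =
        ∏ j ∈ s, Defect.pair l (f b) (f j) ^ (a b * a j) := by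
      rw [show Defect.pair l (f b ^ a b) (∏ i ∈ s, f i ^ a i) = pairHom l (f b ^ a b) (∏ i ∈ s, f i ^ a i) from rfl,
        map_prod]
      refine Finset.prod_congr rfl fun j _ => ?_
      rw [map_zpow, zpow_mul]
      congr 1
      show Defect.pair l (f b ^ a b) (f j) = _
      rw [Defect.pair_comm, show Defect.pair l (f j) (f b ^ a b) = pairHom l (f j) (f b ^ a b) from rfl, map_zpow]
      congr 1
      exact Defect.pair_comm l (f j) (f b)
    have hold : ∀ i ∈ s, (∏ j ∈ insert b s, Defect.pair l (f i) (f j) ^ (if j < i then a i * a j else 0)) =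
        ∏ j ∈ s, Defect.pair l (f i) (f j) ^ (if j < i then a i * a j else 0) := fun i hi => by
      rw [Finset.prod_insert hbs, if_neg (not_lt.mpr (hb i hi).le), zpow_zero, _root_.one_mul]
    have hnew : (∏ j ∈ insert b s, Defect.pair l (f b) (f j) ^ (if j < b then a b * a j else 0)) =
        ∏ j ∈ s, Defect.pair l (f b) (f j) ^ (a b * a j) := by
      rw [Finset.prod_insert hbs, if_neg (lt_irrefl b), zpow_zero, _root_.one_mul]
      exact Finset.prod_congr rfl fun j hj => by rw [if_pos (hb j hj)]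
    rw [hp, hnew, Finset.prod_congr (rfl : s = s) (f := fun i => op (f i) l ^ a i * Defect.pair l (f i) (f i) ^ ch2 (a i) *
        ∏ j ∈ insert b s, Defect.pair l (f i) (f j) ^ (if j < i then a i * a j else 0))
      (g := fun i => op (f i) l ^ a i * Defect.pair l (f i) (f i) ^ ch2 (a i) *
        ∏ j ∈ s, Defect.pair l (f i) (f j) ^ (if j < i then a i * a j else 0))
      (fun i hi => by rw [hold i hi])]
    ac_rfl

/-- The class of a combination is given by quadratic exponents. -/
theorem exists_quad [IsCommMonObj A] {m : ℕ} (f : Fin m → (V ⟶ A)) :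
    ∃ (s : ℕ) (c : Fin s → PicLoc.PicSet V.left) (E : Fin s → MvPolynomial (Fin m) ℚ) (e : Fin s → (Fin m → ℤ) → ℤ),
      (∀ i, (E i).totalDegree ≤ 2) ∧ (∀ i a, MvPolynomial.eval (fun j => (a j : ℚ)) (E i) = (e i a : ℚ)) ∧
      ∀ a : Fin m → ℤ, op (∏ i, f i ^ a i) l = ∏ i, c i ^ e i a := by
  classical
  let Idx := Fin m ⊕ Fin m ⊕ (Fin m × Fin m)
  let ee := Fintype.equivFin Idx
  let c : Idx → PicLoc.PicSet V.left := Sum.elim (fun i => op (f i) l)
    (Sum.elim (fun i => Defect.pair l (f i) (f i)) fun p => Defect.pair l (f p.1) (f p.2))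
  let e : Idx → (Fin m → ℤ) → ℤ := Sum.elim (fun i a => a i)
    (Sum.elim (fun i a => ch2 (a i)) fun p a => if p.2 < p.1 then a p.1 * a p.2 else 0)
  let E : Idx → MvPolynomial (Fin m) ℚ := Sum.elim (fun i => MvPolynomial.X i)
    (Sum.elim (fun i => MvPolynomial.C (1 / 2) * (MvPolynomial.X i * (MvPolynomial.X i + MvPolynomial.C (-1))))
      fun p => if p.2 < p.1 then MvPolynomial.X p.1 * MvPolynomial.X p.2 else 0)
  refine ⟨_, c ∘ ee.symm, E ∘ ee.symm, e ∘ ee.symm, fun i => ?_, fun i a => ?_, fun a => ?_⟩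
  · rcases hi : ee.symm i with j | j | p <;> simp only [Function.comp_apply, hi, E, Sum.elim_inl, Sum.elim_inr]
    · simp
    · refine (MvPolynomial.totalDegree_mul _ _).trans ?_
      rw [MvPolynomial.totalDegree_C, Nat.zero_add]
      refine (MvPolynomial.totalDegree_mul _ _).trans ?_
      have h1 := MvPolynomial.totalDegree_X (R := ℚ) j
      have h2 : (MvPolynomial.X (R := ℚ) j + MvPolynomial.C (-1)).totalDegree ≤ 1 :=
        (MvPolynomial.totalDegree_add _ _).trans (by rw [h1, MvPolynomial.totalDegree_C]; simp)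
      omega
    · split_ifs
      · refine (MvPolynomial.totalDegree_mul _ _).trans ?_
        simp
      · simp
  · rcases hi : ee.symm i with j | j | p <;> simp only [Function.comp_apply, hi, E, e, Sum.elim_inl, Sum.elim_inr]
    · simp
    · simp [ch2_cast]; ring
    · split_ifs <;> simp
  · show _ = ∏ i, (fun q : Idx => c q ^ e q a) (ee.symm i)
    rw [op_prod_eq, Equiv.prod_comp ee.symm (fun q : Idx => c q ^ e q a), Fintype.prod_sum_type, Fintype.prod_sum_type,
      Fintype.prod_prod_type, Finset.prod_mul_distrib, Finset.prod_mul_distrib, _root_.mul_assoc]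
    rfl

end quad

theorem isMonHom_prod {A B : Over (Spec (CommRingCat.of k))} [GrpObj A] [GrpObj B] [IsCommMonObj B] {m : ℕ}
    (f : Fin m → (A ⟶ B)) [∀ i, IsMonHom (f i)] (a : Fin m → ℤ) : IsMonHom (∏ i, f i ^ a i) := by
  classical
  have hcomp : ∀ {T : Over (Spec (CommRingCat.of k))} (p : T ⟶ A), p ≫ (∏ i, f i ^ a i) = ∏ i, (p ≫ f i) ^ a i := by
    intro T p
    let φ : (A ⟶ B) →* (T ⟶ B) := MonoidHom.mk' (fun g => p ≫ g) fun g h => MonObj.comp_mul p g h
    show φ _ = _
    rw [map_prod]
    exact Finset.prod_congr rfl fun i _ => map_zpow φ _ _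
  constructor
  · rw [hcomp, MonObj.one_eq_one, MonObj.one_eq_one]
    refine Finset.prod_eq_one fun i _ => ?_
    rw [MonObj.one_comp, one_zpow]
  · rw [hcomp, MonObj.mul_eq_mul, MonObj.mul_eq_mul, MonObj.comp_mul, tensorHom_fst, tensorHom_snd, hcomp, hcomp,
      ← Finset.prod_mul_distrib]
    exact Finset.prod_congr rfl fun i _ => by rw [MonObj.mul_comp, mul_zpow]

variable [IsAlgClosed k]

/-- A tensor power of an ample module with nonzero Euler characteristic. -/
theorem exists_euler_ne_zero (A : Over (Spec (CommRingCat.of k))) [GrpObj A] [IsProper A.hom]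
    [GeometricallyIntegral A.hom] {g : ℕ} (hg : topologicalKrullDim A.left = (g : WithBot ℕ∞)) :
    ∃ (L : A.left.Modules), PicF.IsInvertible L ∧ @Curv2.euler k _ A.left ⟨A.hom⟩ L ≠ 0 := by
  letI : A.left.Over (Spec (CommRingCat.of k)) := ⟨A.hom⟩
  haveI : IsProper (A.left ↘ Spec (CommRingCat.of k)) := ‹IsProper A.hom›
  haveI := EulerChar.isNoetherian k (X := A.left)
  have : IsIntegral A.left := GeometricallyIntegral.isIntegral_of_subsingleton A.hom
  obtain ⟨M, hM⟩ := GrpScheme.AVAmple.exists_isAmple A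
  by_contra! hall
  obtain ⟨M', hM', ⟨e⟩⟩ := PicLaw.exists_inverse hM.1
  have hO := PicLoc.isInvertible_structureModule A.left
  have hOc := Cube.Seesaw.isCoh_of_invertible hO
  have hle : ∀ F : A.left.Modules, topologicalKrullDim ↥(CohB1.support F) ≤ (g : WithBot ℕ∞) := fun F =>
    EulerChar.dim_support_le hg.le
  have hzero : ∀ m, Curv2.euler k A.left (CohB1.tensorMod (CohB1.tensorPow M m) (Coh.structureModule A.left)) = 0 :=
    fun m => by
      obtain ⟨hP, -⟩ := GrpScheme.PowPullback.cls_tensorPow hM.1 m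
      exact hall _ (PicLaw.isInvertible_tensor hP hO)
  have hkey := GrpScheme.AVDegree.leading_eq g 1 (fun i => Snapper.intE k (fun _ : Fin i => M') (Coh.structureModule A.left))
    (fun _ => 0) fun m => by
      rw [← Snapper.euler_tensorPow_eq k hM.1 hM' e g m hOc (hle _)]
      simp [hzero]
  simp only [mul_zero] at hkey
  have hsupp : CohB1.support (Coh.structureModule A.left) = Set.univ := Set.eq_univ_of_forall fun x h => by
    obtain ⟨ee⟩ := EulerChar.stalk_ofRank (ProjTwist.isFinLocFreeOfRank_one hO) x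
    exact not_subsingleton (Fin 1 → A.left.presheaf.stalk x) (ee.toEquiv.subsingleton)
  have hpos : 0 < Snapper.intE k (fun _ : Fin g => M') (Coh.structureModule A.left) :=
    IntProd70.intE_pos k (L := fun _ : Fin g => M) (fun _ => hM) (fun _ => ⟨e⟩) hOc (by
      rw [hsupp, ← hg]
      exact IsHomeomorph.topologicalKrullDim_eq _ (Homeomorph.Set.univ A.left).isHomeomorph)
  omega

/-- Homogeneity from the behaviour under integral dilations. -/
theorem isHomogeneous_of_smul {m N : ℕ} (P : MvPolynomial (Fin m) ℚ)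
    (h : ∀ (n : ℕ) (a : Fin m → ℤ), 1 ≤ n →
      MvPolynomial.eval (fun i => (n : ℚ) * (a i : ℚ)) P = (n : ℚ) ^ N * MvPolynomial.eval (fun i => (a i : ℚ)) P) :
    P.IsHomogeneous N := by
  classical
  suffices hP : MvPolynomial.homogeneousComponent N P = P by
    rw [← hP]; exact MvPolynomial.homogeneousComponent_isHomogeneous N P
  refine MvPolynomial.funext_set (fun _ => Set.range ((↑) : ℤ → ℚ))
    (fun _ => Set.infinite_range_of_injective Int.cast_injective) fun x hx => ?_
  choose a ha using fun i => hx i (Set.mem_univ i)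
  obtain rfl : (fun i => (a i : ℚ)) = x := funext ha
  let q : Polynomial ℚ := MvPolynomial.aeval (fun i => Polynomial.C (a i : ℚ) * Polynomial.X) P
  have hq : q = Polynomial.C (MvPolynomial.eval (fun i => (a i : ℚ)) P) * Polynomial.X ^ N := by
    refine Polynomial.eq_of_infinite_eval_eq _ _
      (((Set.Ici_infinite (1 : ℕ)).image (Nat.cast_injective (R := ℚ)).injOn).mono ?_)
    rintro _ ⟨n, hn, rfl⟩
    show Polynomial.eval (n : ℚ) q = _
    rw [← Polynomial.coe_aeval_eq_eval, MvPolynomial.comp_aeval_apply, MvPolynomial.aeval_eq_eval]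
    simp only [Polynomial.coe_aeval_eq_eval, Polynomial.eval_mul, Polynomial.eval_C, Polynomial.eval_X,
      Polynomial.eval_pow]
    rw [show (fun i => (a i : ℚ) * (n : ℚ)) = fun i => (n : ℚ) * (a i : ℚ) from funext fun i => mul_comm _ _,
      h n a hn, mul_comm]
  have hcoef := congrArg (fun p : Polynomial ℚ => p.coeff N) hq
  simp only [Polynomial.coeff_C_mul_X_pow, if_pos] at hcoef
  rw [← hcoef]
  show _ = (MvPolynomial.aeval (fun i => Polynomial.C (a i : ℚ) * Polynomial.X) P).coeff N
  rw [MvPolynomial.homogeneousComponent_apply, map_sum]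
  conv_rhs => rw [P.as_sum, map_sum, Polynomial.finsetSum_coeff]
  rw [Finset.sum_filter]
  refine Finset.sum_congr rfl fun d _ => ?_
  rw [MvPolynomial.aeval_monomial, ← Polynomial.C_eq_algebraMap, Polynomial.coeff_C_mul, MvPolynomial.eval_monomial]
  simp only [Finsupp.prod, mul_pow, Finset.prod_mul_distrib, ← Polynomial.C_pow, ← map_prod,
    Finset.prod_pow_eq_pow_sum]
  rw [Polynomial.coeff_C_mul_X_pow, Finsupp.degree]
  split_ifs with h1 h2 h2
  · rfl
  · exact absurd h1.symm h2
  · exact absurd h2.symm h1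
  · simp

set_option maxHeartbeats 1000000 in
/-- **The degree is a homogeneous polynomial of degree `2r`.** -/
theorem exists_degree_poly {A B : Over (Spec (CommRingCat.of k))} [GrpObj A] [IsProper A.hom]
    [GeometricallyIntegral A.hom] [GrpObj B] [IsCommMonObj B] [IsProper B.hom] [GeometricallyIntegral B.hom]
    {r : ℕ} (hA : topologicalKrullDim A.left = (r : WithBot ℕ∞)) (hB : topologicalKrullDim B.left = (r : WithBot ℕ∞))
    {m : ℕ} (f : Fin m → (A ⟶ B)) [∀ i, IsMonHom (f i)] :
    ∃ P : MvPolynomial (Fin m) ℚ, P.IsHomogeneous (2 * r) ∧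
      ∀ a : Fin m → ℤ, (IsFinite (∏ i, f i ^ a i).left →
          ∀ x : B.left, (Scheme.Hom.finrank (∏ i, f i ^ a i).left x : ℚ) = MvPolynomial.eval (fun i => (a i : ℚ)) P) ∧
        (¬ IsFinite (∏ i, f i ^ a i).left → MvPolynomial.eval (fun i => (a i : ℚ)) P = 0) := by
  classical
  letI : A.left.Over (Spec (CommRingCat.of k)) := ⟨A.hom⟩
  letI : B.left.Over (Spec (CommRingCat.of k)) := ⟨B.hom⟩
  haveI : IsProper (A.left ↘ Spec (CommRingCat.of k)) := ‹IsProper A.hom›
  haveI : IsProper (B.left ↘ Spec (CommRingCat.of k)) := ‹IsProper B.hom›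
  have : IsIntegral A.left := GeometricallyIntegral.isIntegral_of_subsingleton A.hom
  have : IsIntegral B.left := GeometricallyIntegral.isIntegral_of_subsingleton B.hom
  obtain ⟨L, hL, hχ⟩ := exists_euler_ne_zero B hB
  obtain ⟨s, c, E, e, hE, hEe, hcls⟩ := exists_quad (PicGrp.cls L hL) f
  obtain ⟨P0, hP0, hev⟩ := exists_euler_poly (k := k) hA.le c
  set χ : ℚ := (Curv2.euler k B.left L : ℚ) with hχdef
  have hχ' : χ ≠ 0 := by
    rw [hχdef]; exact_mod_cast hχ
  let P := MvPolynomial.C χ⁻¹ * MvPolynomial.aeval E P0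
  let h : (Fin m → ℤ) → (A ⟶ B) := fun a => ∏ i, f i ^ a i
  have heuler : ∀ a, MvPolynomial.eval (fun i => (a i : ℚ)) P * χ =
      (Curv2.euler k A.left ((Scheme.Modules.pullback (h a).left).obj L) : ℚ) := by
    intro a
    rw [hev (fun i => e i a) _ (PicLoc.isInvertible_pullback _ hL) (by rw [PicLaw.cls_pullback _ hL]; exact hcls a)]
    simp only [P, map_mul, MvPolynomial.eval_C]
    rw [mul_comm, ← _root_.mul_assoc, mul_inv_cancel₀ hχ', _root_.one_mul, ← MvPolynomial.aeval_eq_eval,
      ← MvPolynomial.aeval_eq_eval, MvPolynomial.comp_aeval_apply]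
    refine congrArg (fun z => MvPolynomial.aeval z P0) (funext fun i => ?_)
    rw [MvPolynomial.aeval_eq_eval]
    exact hEe i a
  have hinf : ∀ a, ¬ IsFinite (h a).left → {p : 𝟙_ (Over (Spec (CommRingCat.of k))) ⟶ A | p ≫ h a = 1}.Infinite :=
    fun a hn hfin => by
      have := isMonHom_prod f a
      exact hn (FiniteKernel.isFinite (h a) hfin)
  have hzero : ∀ (a : Fin m → ℤ) (M : B.left.Modules), PicF.IsInvertible M → ¬ IsFinite (h a).left →
      Curv2.euler k A.left ((Scheme.Modules.pullback (h a).left).obj M) = 0 := by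
    intro a M hM hn
    have := isMonHom_prod f a
    have hi := PicLoc.isInvertible_pullback (h a).left hM
    refine Degenerate.euler_eq_zero hi ((hinf a hn).mono fun p hp => ?_)
    show MumfordSurj.phi _ p = 1
    have e1 : (𝟙 A * (toUnit A ≫ p)) ≫ h a = h a := by
      rw [MonObj.mul_comp, Category.id_comp, Category.assoc, show p ≫ h a = 1 from hp, MonObj.comp_one,
        _root_.mul_one]
    rw [MumfordSurj.phi, div_eq_one, PicLaw.cls_pullback _ hM]
    show op _ (op (h a) _) = op (h a) _
    rw [← PicLaw.Mumford.op_comp, e1]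
  have hdeg : ∀ (a : Fin m → ℤ), IsFinite (h a).left → ∃ d : ℕ, (∀ x, Scheme.Hom.finrank (h a).left x = d) ∧
      ∀ M : B.left.Modules, PicF.IsInvertible M →
        Curv2.euler k A.left ((Scheme.Modules.pullback (h a).left).obj M) = (d : ℤ) * Curv2.euler k B.left M := by
    intro a hfin
    have := isMonHom_prod f a
    have : Surjective (h a).left := Isogeny.surjective_of_isFinite (h a) (hA.trans hB.symm)
    have := GrpScheme.HomFlat.flat_of_surjective (h a)
    have : LocallyOfFinitePresentation (h a).left := GrpdLib.GrpOver.lfp_left (h a)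
    obtain ⟨d, hd⟩ : ∃ d, ∀ y, Scheme.Hom.finrank (h a).left y = d :=
      ⟨_, fun y => (h a).left.isLocallyConstant_finrank.apply_eq_of_preconnectedSpace y (Classical.arbitrary _)⟩
    exact ⟨d, hd, fun M hM => AbSch51.IsogenyEuler.euler_pullback (h a) d hd M (Cube.Seesaw.isCoh_of_invertible hM)⟩
  have hmain : ∀ a, (IsFinite (h a).left →
      ∀ x : B.left, (Scheme.Hom.finrank (h a).left x : ℚ) = MvPolynomial.eval (fun i => (a i : ℚ)) P) ∧
      (¬ IsFinite (h a).left → MvPolynomial.eval (fun i => (a i : ℚ)) P = 0) := by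
    refine fun a => ⟨fun hfin x => ?_, fun hn => ?_⟩
    · obtain ⟨d, hd, he⟩ := hdeg a hfin
      refine mul_right_cancel₀ hχ' ?_
      rw [heuler, he L hL, hd x, hχdef]
      push_cast; ring
    · refine (mul_eq_zero.mp ?_).resolve_right hχ'
      rw [heuler, hzero a L hL hn, Int.cast_zero]
  refine ⟨P, isHomogeneous_of_smul P fun n a hn => ?_, hmain⟩
  refine mul_right_cancel₀ hχ' ?_
  let ν : B ⟶ B := 𝟙 B ^ (n : ℤ)
  have hn0 : (n : ℤ) ≠ 0 := by omega
  obtain ⟨_, _, _⟩ := AbSch51.MulDeg.isFinite_flat_surjective B hn0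
  have hν : h (fun i => (n : ℤ) * a i) = h a ≫ ν := by
    rw [GrpObj.comp_zpow, Category.comp_id, ← Finset.prod_zpow]
    exact Finset.prod_congr rfl fun i _ => by rw [← zpow_mul, mul_comm]
  have hev2 : MvPolynomial.eval (fun i => (n : ℚ) * (a i : ℚ)) P * χ =
      (Curv2.euler k A.left ((Scheme.Modules.pullback (h a).left).obj ((Scheme.Modules.pullback ν.left).obj L)) : ℚ) := by
    have h1 := heuler (fun i => (n : ℤ) * a i)
    simp only [Int.cast_mul, Int.cast_natCast] at h1
    rw [h1, hν]
    congr 1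
    exact EulerChar.euler_iso k ((Scheme.Modules.pullbackComp (h a).left ν.left).app L).symm
  rw [hev2]
  by_cases hfin : IsFinite (h a).left
  · obtain ⟨d, hd, he⟩ := hdeg a hfin
    rw [he _ (PicLoc.isInvertible_pullback _ hL),
      AbSch51.IsogenyEuler.euler_pullback ν (n ^ (2 * r))
        (fun y => by rw [AbSch51.MulDeg.finrank_eq B r hB hn0 y, Int.natAbs_natCast]) L (Cube.Seesaw.isCoh_of_invertible hL),
      _root_.mul_assoc, heuler, he L hL]
    push_cast; ring
  · rw [hzero a _ (PicLoc.isInvertible_pullback _ hL) hfin, (hmain a).2 hfin]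
    simp

end Groth.Agent.AbVarLib.DegPoly
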