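import Groth.Agent.AbVarLib.HomBC
import Mathlib.RingTheory.Polynomial.GaussLemma
import Mathlib.RingTheory.Localization.Integral
import Mathlib.RingTheory.IntegralClosure.IsIntegralClosure.Basic

/-!
# Minimal polynomials of endomorphisms and of their Tate representations
-/

set_option autoImplicit false
universe u

open CategoryTheory MonoidalCategory CartesianMonoidalCategory MonObj AlgebraicGeometry Polynomial

noncomputable section

namespace Groth.Agent.AbVarLib.EndTate

/-- In a torsion-free ring an element killed by a monic integral polynomial has a monic annihilating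
polynomial of least degree among all nonzero ones. -/
theorem exists_monic_min {R : Type*} [Ring R] (htf : ∀ (z : ℤ) (r : R), z ≠ 0 → z • r = 0 → r = 0)
    (φ : ℤ[X] →+* R) {P₀ : ℤ[X]} (hP₀ : P₀.Monic) (h₀ : φ P₀ = 0) :
    ∃ P : ℤ[X], P.Monic ∧ φ P = 0 ∧ ∀ q : ℤ[X], q.degree < P.degree → φ q = 0 → q = 0 := by
  classical
  let S : Set ℕ := {m | ∃ q : ℤ[X], q ≠ 0 ∧ φ q = 0 ∧ q.natDegree = m}
  have hex : ∃ m, m ∈ S := ⟨_, P₀, hP₀.ne_zero, h₀, rfl⟩
  obtain ⟨q, hq0, hφq, hdeg⟩ := Nat.find_spec hex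
  have hmin : ∀ r : ℤ[X], r.degree < (q.natDegree : WithBot ℕ) → φ r = 0 → r = 0 := fun r hr hφr => by
    by_contra hr0
    rw [degree_eq_natDegree hr0, Nat.cast_lt, hdeg] at hr
    exact Nat.find_min hex hr ⟨r, hr0, hφr, rfl⟩
  have hcont : q.content ≠ 0 := by rwa [Ne, content_eq_zero_iff]
  set p := q.primPart with hp
  have hφC : ∀ (z : ℤ) (r : ℤ[X]), φ (C z * r) = z • φ r := fun z r => by
    rw [map_mul, eq_intCast C z, map_intCast, zsmul_eq_mul]
  have hφp : φ p = 0 := htf q.content _ hcont (by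
    rw [← hφC, ← eq_C_content_mul_primPart, hφq])
  have hpdeg : p.natDegree = q.natDegree := natDegree_primPart q
  have hp0 : p ≠ 0 := (isPrimitive_primPart q).ne_zero
  have hdvd : p ∣ P₀ := by
    rw [(isPrimitive_primPart q).dvd_iff_fraction_map_dvd_fraction_map ℚ]
    set f := algebraMap ℤ ℚ
    have hpQ : p.map f ≠ 0 := (Polynomial.map_ne_zero_iff f.injective_int).mpr hp0
    refine (EuclideanDomain.mod_eq_zero).mp ?_
    set r := P₀.map f % p.map f with hr
    have hrdeg : r.degree < (p.map f).degree := EuclideanDomain.mod_lt _ hpQ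
    obtain ⟨b₁, hb₁⟩ := IsLocalization.integerNormalization_map_to_map (nonZeroDivisors ℤ) (P₀.map f / p.map f)
    obtain ⟨b₂, hb₂⟩ := IsLocalization.integerNormalization_map_to_map (nonZeroDivisors ℤ) r
    set D : ℤ[X] := IsLocalization.integerNormalization (nonZeroDivisors ℤ) (P₀.map f / p.map f)
    set R₂ : ℤ[X] := IsLocalization.integerNormalization (nonZeroDivisors ℤ) r
    have hrel : C ((b₂ : ℤ) * b₁) * P₀ = C (b₂ : ℤ) * (p * D) + C (b₁ : ℤ) * R₂ := by
      refine Polynomial.map_injective f f.injective_int ?_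
      simp only [Polynomial.map_mul, Polynomial.map_add, map_C]
      have e := EuclideanDomain.div_add_mod (P₀.map f) (p.map f)
      rw [← hr] at e
      rw [hb₁, hb₂, Algebra.smul_def, Algebra.smul_def, map_mul, C_mul]
      simp only [Polynomial.algebraMap_apply]
      linear_combination (-(C (f (b₂ : ℤ)) * C (f (b₁ : ℤ)))) * e
    have hR2 : φ R₂ = 0 := htf (b₁ : ℤ) _ (nonZeroDivisors.coe_ne_zero b₁) (by
      have h := congrArg φ hrel
      rw [map_add, map_mul φ (C _) P₀, h₀, mul_zero, map_mul φ (C (b₂ : ℤ)), map_mul φ p, hφp, zero_mul, mul_zero,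
        zero_add, hφC] at h
      exact h.symm)
    have hR2deg : R₂.degree < (q.natDegree : WithBot ℕ) := by
      rw [← hpdeg, ← degree_eq_natDegree hp0, ← degree_map_eq_of_injective f.injective_int R₂,
        ← degree_map_eq_of_injective f.injective_int p, hb₂, Algebra.smul_def, Polynomial.algebraMap_apply]
      refine (degree_C_mul ?_).trans_lt hrdeg
      exact (map_ne_zero_iff f f.injective_int).mpr (nonZeroDivisors.coe_ne_zero b₂)
    have := hmin R₂ hR2deg hR2
    rw [this, Polynomial.map_zero, eq_comm, smul_eq_zero] at hb₂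
    exact hb₂.resolve_left (nonZeroDivisors.coe_ne_zero b₂)
  have hunit : IsUnit p.leadingCoeff := by
    obtain ⟨c, hc⟩ := hdvd
    refine IsUnit.of_mul_eq_one c.leadingCoeff ?_
    rw [← leadingCoeff_mul, ← hc, hP₀]
  refine ⟨C (↑hunit.unit⁻¹ : ℤ) * p, ?_, ?_, fun r hr hφr => hmin r ?_ hφr⟩
  · show (C _ * p).leadingCoeff = 1
    rw [leadingCoeff_mul, leadingCoeff_C, hunit.val_inv_mul]
  · rw [map_mul, hφp, mul_zero]
  · refine hr.trans_le ?_
    rw [degree_C_mul hunit.unit⁻¹.ne_zero, ← hpdeg]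
    exact degree_le_natDegree

variable {k : Type u} [Field k] (Ω : Type u) [Field Ω] [Algebra k Ω] [IsAlgClosed Ω]
  {A : Over (Spec (CommRingCat.of k))} [GrpObj A] [IsCommMonObj A] [IsProper A.hom] [GeometricallyIntegral A.hom]

omit [IsAlgClosed Ω] in
set_option synthInstance.maxHeartbeats 400000 in
theorem torsionFree (z : ℤ) (r : EndAV.End A) (hz : z ≠ 0) (h : z • r = 0) : r = 0 := by
  obtain ⟨g, hg⟩ := HomBC.exists_dim A
  obtain ⟨hfree, -, -⟩ := HomBC.free_finite_finrank (A := A) (B := A) hg hg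
  have : Module.IsTorsionFree ℤ (EndAV.Hom A A) := inferInstance
  exact ((smul_eq_zero (R := ℤ) (M := EndAV.Hom A A)).mp h).resolve_left hz

/-- The Tate representation is faithful. -/
theorem tateRep_injective (l : ℕ) [Fact l.Prime] (hl : (l : k) ≠ 0) :
    Function.Injective (EndAV.End.tateRep (A := A) l (SGA7.pt (K := k) Ω)) := by
  rw [injective_iff_map_eq_zero]
  intro φ hφ
  by_contra hne
  have h := HomBC.linearIndependent_tateMap (Ω := Ω) l hl (fun _ : Fin 1 => (φ : EndAV.Hom A A))
    (Fintype.linearIndependent_iff.mpr fun c hc i => by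
      by_contra hci
      rw [Fin.sum_univ_one] at hc
      rw [Subsingleton.elim i 0] at hci
      exact hne (torsionFree (c 0) φ hci hc))
  exact h.ne_zero 0 hφ

/-- An integral polynomial annihilating the Tate representation annihilates the endomorphism. -/
theorem aeval_eq_zero (l : ℕ) [Fact l.Prime] (hl : (l : k) ≠ 0) (f : EndAV.End A) (P : ℤ[X])
    (hP : Polynomial.aeval (EndAV.End.tateRep l (SGA7.pt (K := k) Ω) f) (P.map (Int.castRingHom ℤ_[l])) = 0) :
    Polynomial.aeval f P = 0 := by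
  refine tateRep_injective Ω l hl ?_
  rw [map_zero, ← hP, aeval_def, aeval_def, hom_eval₂, eval₂_map]
  congr 1
  exact RingHom.ext_int _ _

/-- The minimal polynomial of a Tate representation is integral. -/
theorem exists_minpoly (l : ℕ) [Fact l.Prime] (hl : (l : k) ≠ 0) (f : EndAV.End A) :
    ∃ P : ℤ[X], P.Monic ∧
      minpoly ℤ_[l] (EndAV.End.tateRep l (SGA7.pt (K := k) Ω) f) = P.map (Int.castRingHom ℤ_[l]) := by
  obtain ⟨g, hg⟩ := HomBC.exists_dim A
  obtain ⟨-, hfin, -⟩ := HomBC.free_finite_finrank (A := A) (B := A) hg hg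
  have hfin' : Module.Finite ℤ (EndAV.End A) := hfin
  obtain ⟨P₀, hP₀, h₀⟩ := IsIntegral.of_finite ℤ f
  let φ : ℤ[X] →+* EndAV.End A := Polynomial.eval₂RingHom' (Int.castRingHom _) f fun z => (Int.cast_commute z f)
  have hev : ∀ q : ℤ[X], φ q = q.eval₂ (Int.castRingHom _) f := fun q => rfl
  obtain ⟨P, hP, hφP, hmin⟩ := exists_monic_min torsionFree φ hP₀ (by
    rw [hev, RingHom.ext_int (Int.castRingHom _) (algebraMap ℤ (EndAV.End A))]; exact h₀)
  set T := EndAV.End.tateRep l (SGA7.pt (K := k) Ω) f with hT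
  have hTev : ∀ q : ℤ[X], Polynomial.aeval T (q.map (Int.castRingHom ℤ_[l])) =
      EndAV.End.tateRep l (SGA7.pt (K := k) Ω) (φ q) := fun q => by
    rw [hev, hom_eval₂, aeval_def, eval₂_map]
    congr 1
    exact RingHom.ext_int _ _
  refine ⟨P, hP, (minpoly.unique' ℤ_[l] T (hP.map _) (by rw [hTev, hφP, map_zero]) fun q hq => ?_).symm⟩
  rw [or_iff_not_imp_right, not_not]
  intro hq0
  set d := P.natDegree
  have hqd : q.degree < (d : WithBot ℕ) := hq.trans_le (degree_map_le.trans degree_le_natDegree)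
  have hli : LinearIndependent ℤ (fun i : Fin d => (φ ((X : ℤ[X]) ^ (i : ℕ)) : EndAV.Hom A A)) := by
    rw [Fintype.linearIndependent_iff]
    intro c hc i
    have h1 : φ (∑ j : Fin d, C (c j) * X ^ (j : ℕ)) = 0 := by
      rw [map_sum]
      refine (Finset.sum_congr rfl fun j _ => ?_).trans hc
      rw [map_mul, eq_intCast C, map_intCast]
      exact (zsmul_eq_mul _ _).symm
    have h2 := hmin _ (lt_of_lt_of_le (degree_sum_fin_lt c) (le_of_eq (degree_eq_natDegree hP.ne_zero).symm)) h1
    have h3 := congrArg (fun p => p.coeff (i : ℕ)) h2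
    simpa [coeff_C_mul, coeff_X_pow, Fin.val_eq_val, Finset.sum_ite_eq] using h3
  have h := HomBC.linearIndependent_tateMap (Ω := Ω) l hl _ hli
  rw [Fintype.linearIndependent_iff] at h
  rcases eq_or_ne q 0 with hz | hz
  · exact hz
  have hnd : q.natDegree < d := (natDegree_lt_iff_degree_lt hz).mpr hqd
  have h4 := h (fun i => q.coeff i) (by
    rw [← hq0, aeval_eq_sum_range' hnd, ← Fin.sum_univ_eq_sum_range]
    refine Finset.sum_congr rfl fun i _ => ?_
    congr 1
    show EndAV.End.tateRep l (SGA7.pt (K := k) Ω) (φ (X ^ (i : ℕ))) = T ^ (i : ℕ)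
    rw [map_pow, map_pow, hev, eval₂_X])
  ext n
  rcases lt_or_ge n d with hn | hn
  · rw [coeff_zero]; exact h4 ⟨n, hn⟩
  · rw [coeff_zero]; exact coeff_eq_zero_of_natDegree_lt (hnd.trans_le hn)

end Groth.Agent.AbVarLib.EndTate
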