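import Groth.Agent.AbVarLib.CharRoots
import Groth.Agent.AbVarLib.DegPoly
import Groth.Agent.AbVarLib.EndTate
import Groth.Prelude.Def_EndRing
import Mathlib.Analysis.Complex.Polynomial.Basic

/-!
# The norm on `ℂ[α]`
-/

set_option autoImplicit false
universe u

open CategoryTheory CategoryTheory.Limits MonoidalCategory CartesianMonoidalCategory MonObj AlgebraicGeometry

noncomputable section

namespace Groth.Agent.AbVarLib.CharNorm

variable {k : Type u} [Field k] [IsAlgClosed k] {A : Over (Spec (CommRingCat.of k))}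
  [GrpObj A] [IsProper A.hom] [GeometricallyIntegral A.hom] [IsCommMonObj A]
  {r : ℕ} (hA : topologicalKrullDim A.left = (r : WithBot ℕ∞))

open Polynomial CharRoots in
include hA in
/-- A multiplicative extension of the degree to complex polynomials in `α`. -/
theorem exists_norm (δ : EndAV.End A → ℚ) (hδm : ∀ x y, δ (x * y) = δ x * δ y)
    (hδv : ∀ x : EndAV.End A, (IsFinite (EndAV.End.toHom x).left →
          ∀ a : A.left, (Scheme.Hom.finrank (EndAV.End.toHom x).left a : ℚ) = δ x) ∧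
        (¬ IsFinite (EndAV.End.toHom x).left → δ x = 0))
    (α : EndAV.End A) :
    ∃ N : ℂ[X] → ℂ, (∀ F G, N (F * G) = N F * N G) ∧ (∀ c F, N (C c * F) = c ^ (2 * r) * N F) ∧
      (∀ F : ℤ[X], N (F.map (Int.castRingHom ℂ)) = ((δ (Polynomial.aeval α F) : ℚ) : ℂ)) ∧
      ∀ (F : ℤ[X]) (R : ℚ[X]), (∀ n : ℤ, δ (Polynomial.aeval α F - (n : EndAV.End A)) = R.eval (n : ℚ)) →
        ∀ t : ℂ, N (F.map (Int.castRingHom ℂ) - C t) = (R.map (algebraMap ℚ ℂ)).eval t := by
  classical
  obtain ⟨g, hg⟩ := HomBC.exists_dim A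
  obtain ⟨-, hfinm, -⟩ := HomBC.free_finite_finrank (A := A) (B := A) hg hg
  have hfin' : Module.Finite ℤ (EndAV.End A) := hfinm
  obtain ⟨mu, hmu, hmuα'⟩ := IsIntegral.of_finite ℤ α
  have hmuα : Polynomial.aeval α mu = 0 := by rw [aeval_def]; exact hmuα'
  have : IsIntegral A.left := GeometricallyIntegral.isIntegral_of_subsingleton A.hom
  set d := mu.natDegree
  let f : Fin d → (A ⟶ A) := fun i => EndAV.End.toHom (α ^ (i : ℕ))
  have : ∀ i, IsMonHom (f i) := fun i => EndAV.Hom.isMonHom_toHom (α ^ (i : ℕ))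
  obtain ⟨Q, hQh, hQ⟩ := DegPoly.exists_degree_poly hA hA f
  have hval : ∀ a : Fin d → ℤ, MvPolynomial.eval (fun i => (a i : ℚ)) Q = δ (∑ i, a i • α ^ (i : ℕ)) := fun a => by
    have e : EndAV.End.toHom (∑ i, a i • α ^ (i : ℕ)) = ∏ i, f i ^ a i := by
      rw [toHom_sum]
      exact Finset.prod_congr rfl fun i _ => EndAV.End.toHom_zsmul _ _
    have h1 := hδv (∑ i, a i • α ^ (i : ℕ))
    rw [e] at h1
    by_cases hf : IsFinite (∏ i, f i ^ a i).left
    · rw [← (hQ a).1 hf (Classical.arbitrary _), h1.1 hf (Classical.arbitrary _)]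
    · rw [(hQ a).2 hf, h1.2 hf]
  have hrem : ∀ F : ℤ[X], δ (Polynomial.aeval α F) = MvPolynomial.eval (fun i : Fin d => (((F %ₘ mu).coeff i : ℤ) : ℚ)) Q := by
    intro F
    rw [hval]
    congr 1
    conv_lhs => rw [← modByMonic_add_div F (q := mu)]
    rw [map_add, map_mul, hmuα, zero_mul, _root_.add_zero]
    rcases eq_or_ne (F %ₘ mu) 0 with h0 | h0
    · simp [h0]
    rw [aeval_eq_sum_range' (natDegree_lt_natDegree h0 (degree_modByMonic_lt F hmu)), ← Fin.sum_univ_eq_sum_range]
  -- the complexified norm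
  let Nm : (Fin d → ℂ) → ℂ := fun z => MvPolynomial.aeval z Q
  let K : Fin d → Fin d → Fin d → ℤ := fun i j s => (((X : ℤ[X]) ^ ((i : ℕ) + (j : ℕ))) %ₘ mu).coeff s
  let c : Fin d → MvPolynomial (Fin d ⊕ Fin d) ℚ := fun s =>
    ∑ i, ∑ j, MvPolynomial.X (Sum.inl i) * MvPolynomial.X (Sum.inr j) * MvPolynomial.C (K i j s : ℚ)
  have hpoly : MvPolynomial.aeval c Q =
      MvPolynomial.rename Sum.inl Q * MvPolynomial.rename Sum.inr Q := by
    refine MvPolynomial.funext_set (fun _ => Set.range ((↑) : ℤ → ℚ))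
      (fun _ => Set.infinite_range_of_injective Int.cast_injective) fun x hx => ?_
    choose a ha using fun i => hx i (Set.mem_univ i)
    obtain rfl : (fun i => (a i : ℚ)) = x := funext ha
    rw [map_mul, MvPolynomial.eval_rename, MvPolynomial.eval_rename,
      show ((fun i => (a i : ℚ)) ∘ Sum.inl) = fun i => ((a (Sum.inl i) : ℤ) : ℚ) from rfl,
      show ((fun i => (a i : ℚ)) ∘ Sum.inr) = fun i => ((a (Sum.inr i) : ℤ) : ℚ) from rfl,
      hval, hval, ← hδm]
    have e : (∑ i, a (Sum.inl i) • α ^ (i : ℕ)) * (∑ j, a (Sum.inr j) • α ^ (j : ℕ)) =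
        Polynomial.aeval α ((∑ i : Fin d, C (a (Sum.inl i)) * X ^ (i : ℕ)) * (∑ j : Fin d, C (a (Sum.inr j)) * X ^ (j : ℕ))) := by
      rw [map_mul, map_sum, map_sum]
      simp only [map_mul, aeval_C, map_pow, aeval_X, eq_intCast (algebraMap ℤ (EndAV.End A)), zsmul_eq_mul]
    rw [e, hrem, ← MvPolynomial.aeval_eq_eval, ← MvPolynomial.aeval_eq_eval, MvPolynomial.comp_aeval_apply]
    refine congrArg (fun z => MvPolynomial.aeval z Q) (funext fun s => ?_)
    have := coeff_mul_modByMonic hmu (fun i => a (Sum.inl i)) (fun i => a (Sum.inr i)) (s : ℕ)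
    rw [Int.castRingHom_int, Polynomial.map_id] at this
    rw [this]
    simp [c, K]
  have hmul : ∀ a b : Fin d → ℂ,
      Nm (fun s => (((∑ i, C (a i) * X ^ (i : ℕ)) * (∑ j, C (b j) * X ^ (j : ℕ))) %ₘ mu.map (Int.castRingHom ℂ)).coeff s) =
        Nm a * Nm b := fun a b => by
    have h := congrArg (MvPolynomial.aeval (Sum.elim a b)) hpoly
    rw [map_mul, MvPolynomial.aeval_rename, MvPolynomial.aeval_rename, MvPolynomial.comp_aeval_apply,
      Sum.elim_comp_inl, Sum.elim_comp_inr] at h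
    refine Eq.trans ?_ h
    refine congrArg (fun z => MvPolynomial.aeval z Q) (funext fun s => ?_)
    rw [coeff_mul_modByMonic hmu]
    simp [c, K]
  set nu := mu.map (Int.castRingHom ℂ) with hnu
  have hnum : nu.Monic := hmu.map _
  have hnud : nu.natDegree = d := hmu.natDegree_map _
  let N : ℂ[X] → ℂ := fun F => Nm fun s => (F %ₘ nu).coeff s
  have hcast : ∀ F : ℤ[X], ∀ s : ℕ, (F.map (Int.castRingHom ℂ) %ₘ nu).coeff s = (((F %ₘ mu).coeff s : ℤ) : ℂ) :=
    fun F s => by rw [hnu, ← map_modByMonic _ hmu, coeff_map]; simp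
  refine ⟨N, fun F G => ?_, fun c F => ?_, fun F => ?_, fun F R hR t => ?_⟩
  · have hsum : ∀ F : ℂ[X], (∑ i : Fin d, C ((F %ₘ nu).coeff i) * X ^ (i : ℕ)) = F %ₘ nu := fun F => by
      rcases eq_or_ne (F %ₘ nu) 0 with h0 | h0
      · simp [h0]
      · rw [Fin.sum_univ_eq_sum_range (fun i => C ((F %ₘ nu).coeff i) * X ^ i)]
        exact (Polynomial.as_sum_range_C_mul_X_pow' _ (hnud ▸ natDegree_lt_natDegree h0 (degree_modByMonic_lt _ hnum))).symm
    have h := hmul (fun i => (F %ₘ nu).coeff i) (fun i => (G %ₘ nu).coeff i)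
    rw [hsum, hsum] at h
    refine Eq.trans ?_ h
    show Nm _ = Nm _
    rw [← mul_modByMonic]
  · show Nm _ = _ * Nm _
    have e : (fun s : Fin d => ((C c * F) %ₘ nu).coeff s) = fun s : Fin d => c * (F %ₘ nu).coeff (s : ℕ) := funext fun s => by
      rw [← smul_eq_C_mul, smul_modByMonic, coeff_smul, smul_eq_mul]
    rw [e]
    simp only [Nm, MvPolynomial.aeval_def]
    rw [MvPolynomial.eval₂_eq, MvPolynomial.eval₂_eq, Finset.mul_sum]
    refine Finset.sum_congr rfl fun q hq => ?_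
    have hdeg := hQh (MvPolynomial.mem_support_iff.mp hq)
    rw [Finsupp.weight_apply, Finsupp.sum] at hdeg
    simp only [mul_pow, Finset.prod_mul_distrib, Finset.prod_pow_eq_pow_sum, Pi.one_apply, smul_eq_mul, _root_.mul_one] at hdeg ⊢
    rw [hdeg]; ring
  · show Nm _ = _
    simp only [hcast]
    rw [hrem, ← MvPolynomial.aeval_eq_eval, show ((MvPolynomial.aeval _) Q : ℚ) = ((MvPolynomial.aeval (fun i : Fin d => (((F %ₘ mu).coeff i : ℤ) : ℚ))) Q) from rfl,
      ← eq_ratCast (algebraMap ℚ ℂ), MvPolynomial.map_aeval]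
    simp [Nm, MvPolynomial.aeval_def]
  · let ψ : Fin d → ℚ[X] := fun i => C (((F %ₘ mu).coeff i : ℤ) : ℚ) - C ((((1 : ℤ[X]) %ₘ mu).coeff i : ℤ) : ℚ) * X
    have hRQ : R = MvPolynomial.aeval ψ Q := by
      refine eq_of_infinite_eval_eq _ _ ((Set.infinite_range_of_injective (Int.cast_injective (α := ℚ))).mono ?_)
      rintro _ ⟨n, rfl⟩
      show R.eval (n : ℚ) = (MvPolynomial.aeval ψ Q).eval (n : ℚ)
      rw [← hR n, show (Polynomial.aeval α F - (n : EndAV.End A)) = Polynomial.aeval α (F - C n) by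
        rw [map_sub, aeval_C, eq_intCast (algebraMap ℤ (EndAV.End A))], hrem,
        ← coe_aeval_eq_eval (n : ℚ), MvPolynomial.comp_aeval_apply, MvPolynomial.aeval_eq_eval]
      simp only [coe_aeval_eq_eval]
      refine congrArg (fun z => MvPolynomial.eval z Q) (funext fun i => ?_)
      rw [sub_modByMonic, show (C n : ℤ[X]) = n • (1 : ℤ[X]) by rw [smul_eq_C_mul, _root_.mul_one],
        smul_modByMonic, coeff_sub, coeff_smul, smul_eq_mul]
      simp only [ψ, eval_sub, eval_mul, eval_C, eval_X]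
      push_cast; ring
    show Nm _ = _
    rw [Polynomial.eval_map_algebraMap, hRQ, MvPolynomial.comp_aeval_apply]
    refine congrArg (fun z => MvPolynomial.aeval z Q) (funext fun s => ?_)
    rw [sub_modByMonic, coeff_sub, hcast, show (C t : ℂ[X]) = t • ((1 : ℤ[X]).map (Int.castRingHom ℂ)) by
      rw [Polynomial.map_one, smul_eq_C_mul, _root_.mul_one], smul_modByMonic, coeff_smul, hcast, smul_eq_mul]
    simp [ψ]
    ring

open Polynomial in
include hA in
/-- The norm is the product over the roots of the degree polynomial. -/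
theorem norm_eq_prod (α : EndAV.End A) (δ : EndAV.End A → ℚ) (N : ℂ[X] → ℂ)
    (hNm : ∀ F G, N (F * G) = N F * N G) (hNc : ∀ c F, N (C c * F) = c ^ (2 * r) * N F) (hN1 : N 1 = 1)
    (P : ℚ[X]) (hP : P.Monic) (hPd : P.natDegree = 2 * r) (hPt : ∀ t : ℂ, N (X - C t) = (P.map (algebraMap ℚ ℂ)).eval t)
    (G : ℂ[X]) : N G = ((P.map (algebraMap ℚ ℂ)).roots.map fun w => G.eval w).prod := by
  classical
  set Z := (P.map (algebraMap ℚ ℂ)).roots
  have hcard : Z.card = 2 * r := by
    rw [← hPd, ← Polynomial.natDegree_map (algebraMap ℚ ℂ)]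
    exact (IsAlgClosed.splits _).natDegree_eq_card_roots.symm
  have hPprod : ∀ t : ℂ, (P.map (algebraMap ℚ ℂ)).eval t = (Z.map fun w => w - t).prod := fun t => by
    have h1 := (IsAlgClosed.splits (P.map (algebraMap ℚ ℂ))).eq_prod_roots
    rw [(hP.map _).leadingCoeff, C_1, _root_.one_mul] at h1
    conv_lhs => rw [h1]
    rw [eval_multiset_prod, Multiset.map_map]
    simp only [Function.comp_def, eval_sub, eval_X, eval_C]
    rw [show (Z.map fun w => t - w) = (Z.map fun w => w - t).map Neg.neg by simp [Multiset.map_map],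
      Multiset.prod_map_neg, Multiset.card_map, hcard, Even.neg_one_pow ⟨r, by ring⟩, _root_.one_mul]
  have key : ∀ S : Multiset ℂ, N ((S.map fun t => X - C t).prod) =
      (Z.map fun w => ((S.map fun t => X - C t).prod).eval w).prod := by
    intro S
    induction S using Multiset.induction_on with
    | empty => simp [hN1]
    | cons t S ih =>
      simp only [Multiset.map_cons, Multiset.prod_cons, eval_mul, Multiset.prod_map_mul]
      rw [hNm, ih, hPt, hPprod]
      simp
  have h1 := (IsAlgClosed.splits G).eq_prod_roots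
  conv_lhs => rw [h1]
  rw [hNc, key]
  conv_rhs => rw [h1]
  simp only [eval_mul, eval_C, Multiset.prod_map_mul]
  simp [hcard]

end Groth.Agent.AbVarLib.CharNorm
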