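import Groth.Agent.AbVarLib.DegPoly
import Groth.Agent.AbVarLib.EndTate
import Groth.Prelude.Def_EndRing
import Mathlib.Analysis.Complex.Polynomial.Basic

/-!
# The degree polynomial of an endomorphism has integral coefficients

The degree is multiplicative on `ℤ[α]`, hence so is its complexification; so every root of the degree
polynomial is a root of an integral annihilating polynomial of `α`.
-/

set_option autoImplicit false
universe u

open CategoryTheory CategoryTheory.Limits MonoidalCategory CartesianMonoidalCategory MonObj AlgebraicGeometry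

noncomputable section

namespace Groth.Agent.AbVarLib.CharRoots

open scoped Groth.Agent.PicLaw
open PicLaw.Mumford (op)

variable {k : Type u} [Field k] [IsAlgClosed k] {A B : Over (Spec (CommRingCat.of k))}
  [GrpObj A] [IsProper A.hom] [GeometricallyIntegral A.hom] [GrpObj B] [IsProper B.hom] [GeometricallyIntegral B.hom]
  {r : ℕ} (hA : topologicalKrullDim A.left = (r : WithBot ℕ∞)) (hB : topologicalKrullDim B.left = (r : WithBot ℕ∞))

include hA hB in
/-- The degree, or zero, multiplies Euler characteristics. -/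
theorem exists_euler_mul (h : A ⟶ B) [IsMonHom h] :
    ∃ d : ℕ, (IsFinite h.left → ∀ x, Scheme.Hom.finrank h.left x = d) ∧ (¬ IsFinite h.left → d = 0) ∧
      ∀ M : B.left.Modules, PicF.IsInvertible M →
        @Curv2.euler k _ A.left ⟨A.hom⟩ ((Scheme.Modules.pullback h.left).obj M) = (d : ℤ) * @Curv2.euler k _ B.left ⟨B.hom⟩ M := by
  letI : A.left.Over (Spec (CommRingCat.of k)) := ⟨A.hom⟩
  letI : B.left.Over (Spec (CommRingCat.of k)) := ⟨B.hom⟩
  have : IsIntegral A.left := GeometricallyIntegral.isIntegral_of_subsingleton A.hom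
  have : IsIntegral B.left := GeometricallyIntegral.isIntegral_of_subsingleton B.hom
  by_cases hfin : IsFinite h.left
  · have : Surjective h.left := Isogeny.surjective_of_isFinite h (hA.trans hB.symm)
    have := GrpScheme.HomFlat.flat_of_surjective h
    have : LocallyOfFinitePresentation h.left := GrpdLib.GrpOver.lfp_left h
    obtain ⟨d, hd⟩ : ∃ d, ∀ y, Scheme.Hom.finrank h.left y = d :=
      ⟨_, fun y => h.left.isLocallyConstant_finrank.apply_eq_of_preconnectedSpace y (Classical.arbitrary _)⟩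
    exact ⟨d, fun _ => hd, fun hn => absurd hfin hn,
      fun M hM => AbSch51.IsogenyEuler.euler_pullback h d hd M (Cube.Seesaw.isCoh_of_invertible hM)⟩
  · refine ⟨0, fun hf => absurd hf hfin, fun _ => rfl, fun M hM => ?_⟩
    have hi := PicLoc.isInvertible_pullback h.left hM
    rw [Nat.cast_zero, zero_mul]
    have hinf : {p : 𝟙_ (Over (Spec (CommRingCat.of k))) ⟶ A | p ≫ h = 1}.Infinite := fun hf =>
      hfin (FiniteKernel.isFinite h hf)
    refine Degenerate.euler_eq_zero hi (hinf.mono fun p hp => ?_)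
    show MumfordSurj.phi _ p = 1
    have e1 : (𝟙 A * (toUnit A ≫ p)) ≫ h = h := by
      rw [MonObj.mul_comp, Category.id_comp, Category.assoc, show p ≫ h = 1 from hp, MonObj.comp_one,
        _root_.mul_one]
    rw [MumfordSurj.phi, div_eq_one, PicLaw.cls_pullback _ hM]
    show op _ (op h _) = op h _
    rw [← PicLaw.Mumford.op_comp, e1]

section endo

variable [IsCommMonObj A]

include hA in
/-- The degree as a multiplicative function on the endomorphism ring. -/
theorem exists_delta :
    ∃ δ : EndAV.End A → ℚ, δ 1 = 1 ∧ (∀ x y, δ (x * y) = δ x * δ y) ∧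
      ∀ x : EndAV.End A, (IsFinite (EndAV.End.toHom x).left →
          ∀ a : A.left, (Scheme.Hom.finrank (EndAV.End.toHom x).left a : ℚ) = δ x) ∧
        (¬ IsFinite (EndAV.End.toHom x).left → δ x = 0) := by
  letI : A.left.Over (Spec (CommRingCat.of k)) := ⟨A.hom⟩
  haveI : IsProper (A.left ↘ Spec (CommRingCat.of k)) := ‹IsProper A.hom›
  have hmon : ∀ x : EndAV.End A, IsMonHom (EndAV.End.toHom x) := fun x => EndAV.Hom.isMonHom_toHom x
  choose d hd1 hd2 hd3 using fun x : EndAV.End A => @exists_euler_mul k _ _ A A _ _ _ _ _ _ r hA hA (EndAV.End.toHom x) (hmon x)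
  obtain ⟨L, hL, hχ⟩ := DegPoly.exists_euler_ne_zero A hA
  have hχ' : (Curv2.euler k A.left L : ℚ) ≠ 0 := by exact_mod_cast hχ
  refine ⟨fun x => d x, ?_, fun x y => ?_, fun x => ⟨fun hf a => by rw [hd1 x hf a], fun hn => by simp [hd2 x hn]⟩⟩
  · refine mul_right_cancel₀ hχ' ?_
    have h := hd3 1 L hL
    rw [show EndAV.End.toHom (1 : EndAV.End A) = 𝟙 A from rfl] at h
    rw [_root_.one_mul]
    simp only
    have h' := (EulerChar.euler_iso k ((Scheme.Modules.pullbackId A.left).app L)).symm.trans h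
    simp only [Functor.id_obj] at h'
    exact_mod_cast h'.symm
  · refine mul_right_cancel₀ hχ' ?_
    have h := hd3 (x * y) L hL
    rw [show EndAV.End.toHom (x * y) = EndAV.End.toHom y ≫ EndAV.End.toHom x from rfl] at h
    have h' := (EulerChar.euler_iso k ((Scheme.Modules.pullbackComp (EndAV.End.toHom y).left (EndAV.End.toHom x).left).app L)).trans h
    simp only [Functor.comp_obj] at h'
    rw [hd3 y _ (PicLoc.isInvertible_pullback _ hL), hd3 x L hL] at h'
    have h'' := congrArg (fun z : ℤ => (z : ℚ)) h'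
    push_cast at h''
    rw [← h'']; ring

omit [IsAlgClosed k] [IsProper A.hom] [GeometricallyIntegral A.hom] in
theorem toHom_sum {m : ℕ} (x : Fin m → EndAV.End A) (s : Finset (Fin m)) :
    EndAV.End.toHom (∑ i ∈ s, x i) = ∏ i ∈ s, EndAV.End.toHom (x i) := by
  classical
  induction s using Finset.induction_on with
  | empty => rw [Finset.sum_empty, Finset.prod_empty]; rfl
  | insert b s hb ih => rw [Finset.sum_insert hb, Finset.prod_insert hb, EndAV.End.toHom_add, ih]

open Polynomial in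
/-- Multiplication of remainders in coordinates. -/
theorem coeff_mul_modByMonic {R : Type*} [CommRing R] {mu : ℤ[X]} (hmu : mu.Monic) {d : ℕ}
    (a b : Fin d → R) (t : ℕ) :
    ((((∑ i, C (a i) * X ^ (i : ℕ)) * (∑ j, C (b j) * X ^ (j : ℕ))) : R[X]) %ₘ mu.map (Int.castRingHom R)).coeff t =
      ∑ i, ∑ j, a i * b j * ((((X : ℤ[X]) ^ ((i : ℕ) + (j : ℕ)) %ₘ mu).coeff t : ℤ) : R) := by
  set nu := mu.map (Int.castRingHom R)
  let L : R[X] →ₗ[R] R := (lcoeff R t).comp (modByMonicHom nu)
  show L _ = _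
  rw [Finset.sum_mul_sum, map_sum]
  refine Finset.sum_congr rfl fun i _ => ?_
  rw [map_sum]
  refine Finset.sum_congr rfl fun j _ => ?_
  rw [show C (a i) * X ^ (i : ℕ) * (C (b j) * X ^ (j : ℕ)) = (a i * b j) • (X : R[X]) ^ ((i : ℕ) + (j : ℕ)) by
    rw [smul_eq_C_mul, map_mul, pow_add]; ring, map_smul, smul_eq_mul]
  congr 1
  show (((X : R[X]) ^ ((i : ℕ) + (j : ℕ))) %ₘ nu).coeff t = _
  rw [show (X : R[X]) ^ ((i : ℕ) + (j : ℕ)) = ((X : ℤ[X]) ^ ((i : ℕ) + (j : ℕ))).map (Int.castRingHom R) by simp,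
    ← map_modByMonic _ hmu, coeff_map]
  rfl

open Polynomial in
include hA in
/-- **Integrality.** -/
theorem exists_int (α : EndAV.End A) (P : ℚ[X]) (hP : P.Monic)
    (hPv : ∀ n : ℤ, (IsFinite (EndAV.End.toHom (α - (n : EndAV.End A))).left →
        ∀ a : A.left, (Scheme.Hom.finrank (EndAV.End.toHom (α - (n : EndAV.End A))).left a : ℚ) = P.eval (n : ℚ)) ∧
      (¬ IsFinite (EndAV.End.toHom (α - (n : EndAV.End A))).left → P.eval (n : ℚ) = 0)) :
    ∃ P' : ℤ[X], P'.Monic ∧ P'.natDegree = P.natDegree ∧ P'.map (Int.castRingHom ℚ) = P ∧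
      ∀ mu : ℤ[X], mu.Monic → Polynomial.aeval α mu = 0 →
        ∀ t ∈ (P.map (algebraMap ℚ ℂ)).roots, (mu.map (Int.castRingHom ℂ)).eval t = 0 := by
  classical
  have : IsIntegral A.left := GeometricallyIntegral.isIntegral_of_subsingleton A.hom
  obtain ⟨δ, hδ1, hδm, hδv⟩ := exists_delta hA
  have hmain : ∀ mu : ℤ[X], mu.Monic → Polynomial.aeval α mu = 0 →
      ∀ t ∈ (P.map (algebraMap ℚ ℂ)).roots, (mu.map (Int.castRingHom ℂ)).eval t = 0 := by
    intro mu hmu hmuα t ht
    by_contra hne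
    set d := mu.natDegree
    let f : Fin d → (A ⟶ A) := fun i => EndAV.End.toHom (α ^ (i : ℕ))
    have : ∀ i, IsMonHom (f i) := fun i => EndAV.Hom.isMonHom_toHom (α ^ (i : ℕ))
    obtain ⟨Q, -, hQ⟩ := DegPoly.exists_degree_poly hA hA f
    have hval : ∀ a : Fin d → ℤ, MvPolynomial.eval (fun i => (a i : ℚ)) Q = δ (∑ i, a i • α ^ (i : ℕ)) := fun a => by
      have e : EndAV.End.toHom (∑ i, a i • α ^ (i : ℕ)) = ∏ i, f i ^ a i := by
        rw [toHom_sum]
        exact Finset.prod_congr rfl fun i _ => EndAV.End.toHom_zsmul _ _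
      have h1 := hδv (∑ i, a i • α ^ (i : ℕ))
      rw [e] at h1
      by_cases hf : IsFinite (∏ i, f i ^ a i).left
      · rw [← (hQ a).1 hf (Classical.arbitrary _), h1.1 hf (Classical.arbitrary _)]
      · rw [(hQ a).2 hf, h1.2 hf]
    have hrem : ∀ F : ℤ[X], δ (Polynomial.aeval α F) = MvPolynomial.eval (fun i : Fin d => (((F %ₘ mu).coeff i : ℤ) : ℚ)) Q := by
      intro F
      rw [hval]
      congr 1
      conv_lhs => rw [← modByMonic_add_div F (q := mu)]
      rw [map_add, map_mul, hmuα, zero_mul, _root_.add_zero]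
      rcases eq_or_ne (F %ₘ mu) 0 with h0 | h0
      · simp [h0]
      rw [aeval_eq_sum_range' (natDegree_lt_natDegree h0 (degree_modByMonic_lt F hmu)), ← Fin.sum_univ_eq_sum_range]
    let U : Fin d → ℤ := fun i => ((X : ℤ[X]) %ₘ mu).coeff i
    let W : Fin d → ℤ := fun i => ((1 : ℤ[X]) %ₘ mu).coeff i
    let ψ : Fin d → ℚ[X] := fun i => C (U i : ℚ) - C (W i : ℚ) * X
    have hPQ : P = MvPolynomial.aeval ψ Q := by
      refine eq_of_infinite_eval_eq _ _ ((Set.infinite_range_of_injective (Int.cast_injective (α := ℚ))).mono ?_)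
      rintro _ ⟨n, rfl⟩
      show P.eval (n : ℚ) = (MvPolynomial.aeval ψ Q).eval (n : ℚ)
      rw [← coe_aeval_eq_eval (n : ℚ), MvPolynomial.comp_aeval_apply, MvPolynomial.aeval_eq_eval]
      simp only [coe_aeval_eq_eval]
      have h1 := hrem (X - C n)
      rw [map_sub, aeval_X, aeval_C, eq_intCast (algebraMap ℤ (EndAV.End A))] at h1
      have h2 : δ (α - (n : EndAV.End A)) = P.eval (n : ℚ) := by
        by_cases hf : IsFinite (EndAV.End.toHom (α - (n : EndAV.End A))).left
        · rw [← (hδv _).1 hf (Classical.arbitrary _), (hPv n).1 hf (Classical.arbitrary _)]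
        · rw [(hδv _).2 hf, (hPv n).2 hf]
      rw [← h2, h1]
      refine congrArg (fun z => MvPolynomial.eval z Q) (funext fun i => ?_)
      rw [sub_modByMonic, show (C n : ℤ[X]) = n • (1 : ℤ[X]) by rw [smul_eq_C_mul, _root_.mul_one],
        smul_modByMonic, coeff_sub, coeff_smul, smul_eq_mul]
      simp only [ψ, U, W, eval_sub, eval_mul, eval_C, eval_X]
      push_cast; ring
    -- the complexified norm
    let Nm : (Fin d → ℂ) → ℂ := fun z => MvPolynomial.aeval z Q
    let K : Fin d → Fin d → Fin d → ℤ := fun i j s => (((X : ℤ[X]) ^ ((i : ℕ) + (j : ℕ))) %ₘ mu).coeff s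
    let c : Fin d → MvPolynomial (Fin d ⊕ Fin d) ℚ := fun s =>
      ∑ i, ∑ j, MvPolynomial.X (Sum.inl i) * MvPolynomial.X (Sum.inr j) * MvPolynomial.C (K i j s : ℚ)
    have hpoly : MvPolynomial.aeval c Q =
        MvPolynomial.rename Sum.inl Q * MvPolynomial.rename Sum.inr Q := by
      refine MvPolynomial.funext_set (fun _ => Set.range ((↑) : ℤ → ℚ))
        (fun _ => Set.infinite_range_of_injective Int.cast_injective) fun x hx => ?_
      choose a ha using fun i => hx i (Set.mem_univ i)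
      obtain rfl : (fun i => (a i : ℚ)) = x := funext ha
      rw [map_mul, MvPolynomial.eval_rename, MvPolynomial.eval_rename,
        show ((fun i => (a i : ℚ)) ∘ Sum.inl) = fun i => ((a (Sum.inl i) : ℤ) : ℚ) from rfl,
        show ((fun i => (a i : ℚ)) ∘ Sum.inr) = fun i => ((a (Sum.inr i) : ℤ) : ℚ) from rfl,
        hval, hval, ← hδm]
      have e : (∑ i, a (Sum.inl i) • α ^ (i : ℕ)) * (∑ j, a (Sum.inr j) • α ^ (j : ℕ)) =
          Polynomial.aeval α ((∑ i : Fin d, C (a (Sum.inl i)) * X ^ (i : ℕ)) * (∑ j : Fin d, C (a (Sum.inr j)) * X ^ (j : ℕ))) := by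
        rw [map_mul, map_sum, map_sum]
        simp only [map_mul, aeval_C, map_pow, aeval_X, eq_intCast (algebraMap ℤ (EndAV.End A)), zsmul_eq_mul]
      rw [e, hrem, ← MvPolynomial.aeval_eq_eval, ← MvPolynomial.aeval_eq_eval, MvPolynomial.comp_aeval_apply]
      refine congrArg (fun z => MvPolynomial.aeval z Q) (funext fun s => ?_)
      have := coeff_mul_modByMonic hmu (fun i => a (Sum.inl i)) (fun i => a (Sum.inr i)) (s : ℕ)
      rw [Int.castRingHom_int, Polynomial.map_id] at this
      rw [this]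
      simp [c, K]
    have hmul : ∀ a b : Fin d → ℂ,
        Nm (fun s => (((∑ i, C (a i) * X ^ (i : ℕ)) * (∑ j, C (b j) * X ^ (j : ℕ))) %ₘ mu.map (Int.castRingHom ℂ)).coeff s) =
          Nm a * Nm b := fun a b => by
      have h := congrArg (MvPolynomial.aeval (Sum.elim a b)) hpoly
      rw [map_mul, MvPolynomial.aeval_rename, MvPolynomial.aeval_rename, MvPolynomial.comp_aeval_apply,
        Sum.elim_comp_inl, Sum.elim_comp_inr] at h
      refine Eq.trans ?_ h
      refine congrArg (fun z => MvPolynomial.aeval z Q) (funext fun s => ?_)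
      rw [coeff_mul_modByMonic hmu]
      simp [c, K]
    have hone : Nm (fun s => (((1 : ℤ[X]) %ₘ mu).map (Int.castRingHom ℂ)).coeff s) = 1 := by
      have h := hrem 1
      rw [map_one, hδ1] at h
      have h' := congrArg (algebraMap ℚ ℂ) h
      rw [map_one, ← MvPolynomial.aeval_eq_eval, MvPolynomial.map_aeval] at h'
      rw [h']
      simp [Nm, MvPolynomial.aeval_def]
    set nu := mu.map (Int.castRingHom ℂ) with hnu
    have hnum : nu.Monic := hmu.map _
    have hnud : nu.natDegree = d := hmu.natDegree_map _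
    have hPt : Nm (fun s => ((X - C t) %ₘ nu).coeff s) = 0 := by
      have h0 : (P.map (algebraMap ℚ ℂ)).eval t = 0 := (mem_roots'.mp ht).2
      rw [eval_map_algebraMap, hPQ, MvPolynomial.comp_aeval_apply] at h0
      refine Eq.trans ?_ h0
      refine congrArg (fun z => MvPolynomial.aeval z Q) (funext fun s => ?_)
      rw [sub_modByMonic, show (C t : ℂ[X]) = t • (1 : ℂ[X]) by rw [smul_eq_C_mul, _root_.mul_one], smul_modByMonic,
        coeff_sub, coeff_smul, smul_eq_mul, show (X : ℂ[X]) = (X : ℤ[X]).map (Int.castRingHom ℂ) by simp,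
        show (1 : ℂ[X]) = (1 : ℤ[X]).map (Int.castRingHom ℂ) by simp, hnu, ← map_modByMonic _ hmu, ← map_modByMonic _ hmu,
        coeff_map, coeff_map]
      simp [ψ, U, W]
      ring
    set Bq : ℂ[X] := C (-(nu.eval t)⁻¹) * (nu /ₘ (X - C t)) with hBq
    have hsum : ∀ F : ℂ[X], (F.natDegree < d ∨ F = 0) → (∑ i : Fin d, C (F.coeff i) * X ^ (i : ℕ)) = F := fun F hF => by
      rcases hF with hF | rfl
      · rw [Fin.sum_univ_eq_sum_range (fun i => C (F.coeff i) * X ^ i)]
        exact (F.as_sum_range_C_mul_X_pow' hF).symm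
      · simp
    have hR : ((X - C t) %ₘ nu).natDegree < d ∨ (X - C t) %ₘ nu = 0 := by
      rcases eq_or_ne ((X - C t) %ₘ nu) 0 with h0 | h0
      · exact Or.inr h0
      · exact Or.inl (hnud ▸ natDegree_lt_natDegree h0 (degree_modByMonic_lt _ hnum))
    have hB : Bq.natDegree < d ∨ Bq = 0 := by
      rcases eq_or_ne d 0 with hd0 | hd0
      · right
        have : nu = 1 := hnum.natDegree_eq_zero.mp (by rw [hnud, hd0])
        rw [hBq, this, (divByMonic_eq_zero_iff (monic_X_sub_C t)).mpr (by simp), mul_zero]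
      · left
        refine (natDegree_C_mul_le _ _).trans_lt ?_
        rw [natDegree_divByMonic _ (monic_X_sub_C t), natDegree_X_sub_C, hnud]
        omega
    have h := hmul (fun i => ((X - C t) %ₘ nu).coeff i) (fun i => Bq.coeff i)
    rw [hPt, zero_mul, hsum _ hR, hsum _ hB] at h
    have hkey : (((X - C t) %ₘ nu) * Bq) %ₘ nu = (1 : ℂ[X]) %ₘ nu := by
      refine modByMonic_eq_of_dvd_sub hnum ⟨-(((X - C t) /ₘ nu) * Bq) + C (-(nu.eval t)⁻¹), ?_⟩
      have e1 := modByMonic_add_div (X - C t) (q := nu)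
      have e2 : (X - C t) * (nu /ₘ (X - C t)) = nu - C (nu.eval t) := by
        have := modByMonic_add_div nu (q := X - C t)
        rw [modByMonic_X_sub_C_eq_C_eval] at this
        linear_combination this
      have e3 : C ((nu.eval t)⁻¹) * C (nu.eval t) = 1 := by rw [← C_mul, inv_mul_cancel₀ hne, C_1]
      rw [hBq, map_neg]
      linear_combination (-C ((nu.eval t)⁻¹) * (nu /ₘ (X - C t))) * e1 + (-C ((nu.eval t)⁻¹)) * e2 + e3
    rw [hkey] at h
    have h1 : Nm (fun s => ((1 : ℂ[X]) %ₘ nu).coeff s) = 1 := by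
      rw [← hone, hnu, ← Polynomial.map_one (Int.castRingHom ℂ), ← map_modByMonic _ hmu]
    rw [h] at h1
    exact zero_ne_one h1
  obtain ⟨g, hg⟩ := HomBC.exists_dim A
  obtain ⟨-, hfinm, -⟩ := HomBC.free_finite_finrank (A := A) (B := A) hg hg
  have hfin' : Module.Finite ℤ (EndAV.End A) := hfinm
  obtain ⟨mu, hmu, hmuα⟩ := IsIntegral.of_finite ℤ α
  have hint : ∀ t ∈ (P.map (algebraMap ℚ ℂ)).roots, IsIntegral ℤ t := fun t ht => ⟨mu, hmu, by
    have h := hmain mu hmu (by rw [aeval_def]; exact hmuα) t ht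
    rw [Polynomial.eval_map] at h
    rwa [RingHom.ext_int (algebraMap ℤ ℂ) (Int.castRingHom ℂ)]⟩
  have hcoeff : ∀ i, ∃ z : ℤ, (z : ℚ) = P.coeff i := by
    intro i
    let R := integralClosure ℤ ℂ
    let P' : Polynomial R := (((P.map (algebraMap ℚ ℂ)).roots.attach).map fun t => X - C (⟨t.1, hint t.1 t.2⟩ : R)).prod
    have he : P'.map (R.val : R →+* ℂ) = P.map (algebraMap ℚ ℂ) := by
      rw [Polynomial.map_multiset_prod, Multiset.map_map]
      have h1 := (IsAlgClosed.splits (P.map (algebraMap ℚ ℂ))).eq_prod_roots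
      rw [(hP.map _).leadingCoeff, C_1, _root_.one_mul] at h1
      conv_rhs => rw [h1, ← Multiset.attach_map_val (P.map (algebraMap ℚ ℂ)).roots, Multiset.map_map]
      exact congrArg Multiset.prod (Multiset.map_congr rfl fun t _ => by simp)
    have h2 : IsIntegral ℤ (algebraMap ℚ ℂ (P.coeff i)) := by
      rw [← coeff_map, ← he, coeff_map]
      exact (P'.coeff i).2
    rw [isIntegral_algebraMap_iff (algebraMap ℚ ℂ).injective] at h2
    obtain ⟨z, hz⟩ := IsIntegrallyClosed.isIntegral_iff.mp h2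
    exact ⟨z, hz⟩
  have hlift : P ∈ Polynomial.lifts (Int.castRingHom ℚ) := by
    rw [lifts_iff_coeff_lifts]
    exact fun i => Set.mem_range.mpr (hcoeff i)
  obtain ⟨P', hP'e, hP'd, hP'm⟩ := lifts_and_natDegree_eq_and_monic hlift hP
  exact ⟨P', hP'm, hP'd, hP'e, hmain⟩

end endo

end Groth.Agent.AbVarLib.CharRoots
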