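import Groth.Agent.AbVarLib.HomLattice
import Groth.Agent.GrpScheme.AVComm
import Groth.Agent.S4642
import Groth.Prelude.Def_SGA7a
import Groth.Prelude.Def_Red

/-!
# Homomorphisms and Tate modules under extension to an algebraic closure
-/

set_option autoImplicit false
universe u

open CategoryTheory CategoryTheory.Limits MonoidalCategory CartesianMonoidalCategory MonObj AlgebraicGeometry

noncomputable section

namespace Groth.Agent.AbVarLib.HomBC

variable {k : Type u} [Field k] (Ω : Type u) [Field Ω] [Algebra k Ω]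

/-- The map of spectra. -/
abbrev ext : Spec (CommRingCat.of Ω) ⟶ Spec (CommRingCat.of k) :=
  Spec.map (CommRingCat.ofHom (algebraMap k Ω))

/-- Base change. -/
abbrev bcΩ (A : Over (Spec (CommRingCat.of k))) : Over (Spec (CommRingCat.of Ω)) := Red.bc (ext Ω) A

variable {Ω}

instance (A : Over (Spec (CommRingCat.of k))) [IsProper A.hom] : IsProper (bcΩ Ω A).hom :=
  inferInstanceAs (IsProper (pullback.snd A.hom (ext Ω)))

instance (A : Over (Spec (CommRingCat.of k))) [GeometricallyIntegral A.hom] : GeometricallyIntegral (bcΩ Ω A).hom :=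
  inferInstanceAs (GeometricallyIntegral (pullback.snd A.hom (ext Ω)))

theorem isCommMonObj (A : Over (Spec (CommRingCat.of k))) [GrpObj A] [IsProper A.hom] [GeometricallyIntegral A.hom] :
    IsCommMonObj (bcΩ Ω A) := GrpScheme.AVComm.isCommMonObj _

theorem dim_eq (A : Over (Spec (CommRingCat.of k))) [LocallyOfFiniteType A.hom] :
    topologicalKrullDim (bcΩ Ω A).left = topologicalKrullDim A.left :=
  S4642.result A.hom

/-- Base change is faithful. -/
theorem map_injective {A B : Over (Spec (CommRingCat.of k))} {f g : A ⟶ B}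
    (h : (Over.pullback (ext Ω)).map f = (Over.pullback (ext Ω)).map g) : f = g := by
  refine Over.OverMorphism.ext ?_
  have h' := congrArg (fun m => CommaMorphism.left m ≫ pullback.fst B.hom (ext Ω)) h
  simp only [Over.pullback_map_left, pullback.lift_fst] at h'
  exact (cancel_epi (pullback.fst A.hom (ext Ω))).mp h'

/-- An isomorphism of groups of points gives one of Tate modules. -/
def tateCongr {S S' : Scheme.{u}} {X : Over S} [GrpObj X] [IsCommMonObj X] {X' : Over S'} [GrpObj X']
    [IsCommMonObj X'] {T : Over S} {T' : Over S'} (l : ℕ) [Fact l.Prime]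
    (e : Additive (T ⟶ X) ≃+ Additive (T' ⟶ X')) : AbDual.TateMod X l T ≃ₗ[ℤ_[l]] AbDual.TateMod X' l T' :=
  { toFun := fun x => ⟨fun n => e ((x : ℕ → Additive (T ⟶ X)) n), fun n => by
        rw [← map_nsmul, x.torsion n, map_zero], fun n => by rw [← map_nsmul, x.compat n]⟩
    invFun := fun x => ⟨fun n => e.symm ((x : ℕ → Additive (T' ⟶ X')) n), fun n => by
        rw [← map_nsmul, x.torsion n, map_zero], fun n => by rw [← map_nsmul, x.compat n]⟩
    left_inv := fun x => AbDual.TateMod.ext fun n => e.symm_apply_apply _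
    right_inv := fun x => AbDual.TateMod.ext fun n => e.apply_symm_apply _
    map_add' := fun x y => AbDual.TateMod.ext fun n => map_add e _ _
    map_smul' := fun a x => AbDual.TateMod.ext fun n => map_nsmul e _ _ }

variable [IsAlgClosed Ω] {A B : Over (Spec (CommRingCat.of k))}
  [GrpObj A] [IsCommMonObj A] [IsProper A.hom] [GeometricallyIntegral A.hom]
  [GrpObj B] [IsCommMonObj B] [IsProper B.hom] [GeometricallyIntegral B.hom]

/-- Base change of homomorphisms. -/
def homMap [IsCommMonObj (bcΩ Ω A)] [IsCommMonObj (bcΩ Ω B)] :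
    EndAV.Hom A B →+ EndAV.Hom (bcΩ Ω A) (bcΩ Ω B) where
  toFun φ := EndAV.Hom.of ((Over.pullback (ext Ω)).map φ.toHom)
  map_zero' := EndAV.Hom.ext (by
    show (Over.pullback (ext Ω)).map (1 : A ⟶ B) = 1
    exact Functor.map_one _)
  map_add' φ ψ := EndAV.Hom.ext (by
    show (Over.pullback (ext Ω)).map (φ.toHom * ψ.toHom) = _
    exact Functor.map_mul _ _ _)

omit [IsAlgClosed Ω] in
theorem homMap_injective [IsCommMonObj (bcΩ Ω A)] [IsCommMonObj (bcΩ Ω B)] :
    Function.Injective (homMap (Ω := Ω) : EndAV.Hom A B → _) := fun _ _ h =>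
  EndAV.Hom.ext (map_injective (congrArg EndAV.Hom.toHom h))

/-- The comparison of the bases of points. -/
def ptIso : (Over.map (ext Ω)).obj (𝟙_ (Over (Spec (CommRingCat.of Ω)))) ≅ SGA7.pt (K := k) Ω :=
  Over.isoMk (Iso.refl _) (by
    show 𝟙 _ ≫ ext Ω = 𝟙 _ ≫ ext Ω
    rfl)

/-- `A_Ω(Ω) = A(Ω)`. -/
def ptsEquiv (A : Over (Spec (CommRingCat.of k))) [GrpObj A] :
    (𝟙_ (Over (Spec (CommRingCat.of Ω))) ⟶ bcΩ Ω A) ≃* (SGA7.pt (K := k) Ω ⟶ A) :=
  MulEquiv.symm
    { toFun := fun x => (Over.mapPullbackAdj (ext Ω)).homEquiv _ A ((ptIso (Ω := Ω)).hom ≫ x)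
      invFun := fun y => (ptIso (Ω := Ω)).inv ≫ ((Over.mapPullbackAdj (ext Ω)).homEquiv _ A).symm y
      left_inv := fun x => by simp
      right_inv := fun y => by simp
      map_mul' := fun x y => by
        rw [MonObj.comp_mul, Adjunction.homEquiv_unit, Functor.map_mul, MonObj.comp_mul,
          ← Adjunction.homEquiv_unit, ← Adjunction.homEquiv_unit] }

omit [IsAlgClosed Ω] in
theorem ptsEquiv_comp {A B : Over (Spec (CommRingCat.of k))} [GrpObj A] [GrpObj B] (f : A ⟶ B)
    (y : 𝟙_ (Over (Spec (CommRingCat.of Ω))) ⟶ bcΩ Ω A) :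
    ptsEquiv B (y ≫ (Over.pullback (ext Ω)).map f) = ptsEquiv A y ≫ f := by
  show (ptIso (Ω := Ω)).inv ≫ ((Over.mapPullbackAdj (ext Ω)).homEquiv _ B).symm _ = _
  rw [Adjunction.homEquiv_naturality_right_symm]
  exact (Category.assoc _ _ _).symm

/-- The comparison of Tate modules. -/
def tateEquiv (l : ℕ) [Fact l.Prime] (A : Over (Spec (CommRingCat.of k))) [GrpObj A] [IsCommMonObj A]
    [IsCommMonObj (bcΩ Ω A)] :
    AbDual.TateMod (bcΩ Ω A) l (𝟙_ (Over (Spec (CommRingCat.of Ω)))) ≃ₗ[ℤ_[l]] AbDual.TateMod A l (SGA7.pt (K := k) Ω) :=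
  tateCongr l (MulEquiv.toAdditive (ptsEquiv (Ω := Ω) A))

omit [IsAlgClosed Ω] in
theorem tateEquiv_comp (l : ℕ) [Fact l.Prime] [IsCommMonObj (bcΩ Ω A)] [IsCommMonObj (bcΩ Ω B)]
    (φ : EndAV.Hom A B) (x : AbDual.TateMod (bcΩ Ω A) l (𝟙_ (Over (Spec (CommRingCat.of Ω))))) :
    tateEquiv l B (EndAV.Hom.tateMap l _ (homMap (Ω := Ω) φ) x) =
      EndAV.Hom.tateMap l (SGA7.pt (K := k) Ω) φ (tateEquiv l A x) :=
  AbDual.TateMod.ext fun n => congrArg Additive.ofMul (ptsEquiv_comp φ.toHom _)

set_option synthInstance.maxHeartbeats 200000 in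
/-- **Injectivity over an arbitrary field.** -/
theorem linearIndependent_tateMap (l : ℕ) [Fact l.Prime] (hl : (l : k) ≠ 0) {κ : Type*} [Fintype κ]
    (e : κ → EndAV.Hom A B) (he : LinearIndependent ℤ e) :
    LinearIndependent ℤ_[l] (fun i => EndAV.Hom.tateMap l (SGA7.pt (K := k) Ω) (e i)) := by
  have := isCommMonObj (Ω := Ω) A
  have := isCommMonObj (Ω := Ω) B
  have hlΩ : (l : Ω) ≠ 0 := fun h => hl ((algebraMap k Ω).injective (by rwa [map_natCast, map_zero]))
  have h := HomLattice.linearIndependent_tateMap l hlΩ (fun i => homMap (Ω := Ω) (e i))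
    (he.map' (homMap (Ω := Ω)).toIntLinearMap (LinearMap.ker_eq_bot.mpr homMap_injective))
  rw [Fintype.linearIndependent_iff] at h ⊢
  intro a ha
  refine h a (LinearMap.ext fun x => (tateEquiv l B).injective ?_)
  rw [LinearMap.zero_apply, map_zero, LinearMap.sum_apply, map_sum]
  have := LinearMap.congr_fun ha (tateEquiv l A x)
  rw [LinearMap.sum_apply, LinearMap.zero_apply] at this
  refine (Finset.sum_congr rfl fun i _ => ?_).trans this
  rw [LinearMap.smul_apply, LinearMap.smul_apply, map_smul, tateEquiv_comp]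

/-- `Hom_k(A, B)` is free of rank at most `4gh`. -/
theorem free_finite_finrank {g h : ℕ} (hg : topologicalKrullDim A.left = (g : WithBot ℕ∞))
    (hh : topologicalKrullDim B.left = (h : WithBot ℕ∞)) :
    Module.Free ℤ (EndAV.Hom A B) ∧ Module.Finite ℤ (EndAV.Hom A B) ∧ Module.finrank ℤ (EndAV.Hom A B) ≤ 4 * g * h := by
  have := isCommMonObj (Ω := AlgebraicClosure k) A
  have := isCommMonObj (Ω := AlgebraicClosure k) B
  obtain ⟨n, F, hn, hF⟩ := HomLattice.exists_injective (A := bcΩ (AlgebraicClosure k) A)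
    (B := bcΩ (AlgebraicClosure k) B) ((dim_eq A).trans hg) ((dim_eq B).trans hh)
  let G := F.comp (homMap (Ω := AlgebraicClosure k) (A := A) (B := B)).toIntLinearMap
  have hG : Function.Injective G := hF.comp homMap_injective
  let e := LinearEquiv.ofInjective G hG
  have hfin : Module.Finite ℤ (EndAV.Hom A B) := Module.Finite.of_injective G hG
  refine ⟨Module.Free.of_equiv e.symm, hfin, (LinearMap.finrank_le_finrank_of_injective hG).trans ?_⟩
  rw [Module.finrank_fin_fun]
  exact hn

/-- The dimension is a natural number. -/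
theorem exists_dim (G : Over (Spec (CommRingCat.of k))) [GrpObj G] [IsProper G.hom] [GeometricallyIntegral G.hom] :
    ∃ g : ℕ, topologicalKrullDim G.left = (g : WithBot ℕ∞) := by
  have := LocallyOfFiniteType.jacobsonSpace G.hom
  have : IsLocallyNoetherian G.left := LocallyOfFiniteType.isLocallyNoetherian G.hom
  obtain ⟨x, -, hx⟩ := nonempty_inter_closedPoints (Z := (Set.univ : Set G.left))
    ⟨η[G].left (IsLocalRing.closedPoint k), trivial⟩ isClosed_univ.isLocallyClosed
  obtain ⟨n, hn⟩ := ENat.ne_top_iff_exists.mp (Isogeny.coheight_lt_top x).ne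
  exact ⟨n, by rw [← GrpScheme.Dimension.coheight_eq_topologicalKrullDim G x hx, ← hn]; rfl⟩

end Groth.Agent.AbVarLib.HomBC
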