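import Groth.Agent.AbVarLib.DegPoly
import Groth.Agent.AbVarLib.HomBC
import Groth.Agent.AbVarLib.BcComp
import Groth.Agent.FpqcDesc.Props

/-!
# The degree polynomial over an arbitrary field
-/

set_option autoImplicit false
universe u

open CategoryTheory CategoryTheory.Limits MonoidalCategory CartesianMonoidalCategory MonObj AlgebraicGeometry

noncomputable section

namespace Groth.Agent.AbVarLib.DegPolyBC

variable {k : Type u} [Field k]

theorem isPullback_map (Ω : Type u) [Field Ω] [Algebra k Ω] {A B : Over (Spec (CommRingCat.of k))} (h : A ⟶ B) :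
    IsPullback (pullback.fst A.hom (HomBC.ext Ω)) ((Over.pullback (HomBC.ext (k := k) Ω)).map h).left h.left
      (pullback.fst B.hom (HomBC.ext Ω)) := by
  refine IsPullback.of_bot ?_ (pullback.lift_fst _ _ _).symm (IsPullback.of_hasPullback B.hom (HomBC.ext Ω))
  rw [Over.w, show ((Over.pullback (HomBC.ext (k := k) Ω)).map h).left ≫ pullback.snd B.hom (HomBC.ext Ω) =
    pullback.snd A.hom (HomBC.ext Ω) from pullback.lift_snd _ _ _]
  exact IsPullback.of_hasPullback A.hom (HomBC.ext Ω)

theorem fpqc_fst (Ω : Type u) [Field Ω] [Algebra k Ω] (B : Over (Spec (CommRingCat.of k))) :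
    FpqcDesc.FPQC (pullback.fst B.hom (HomBC.ext (k := k) Ω)) := by
  have hs : Surjective (HomBC.ext (k := k) Ω) := ⟨fun x =>
    ⟨IsLocalRing.closedPoint Ω, Subsingleton.elim (α := PrimeSpectrum k) _ x⟩⟩
  have hf : Flat (HomBC.ext (k := k) Ω) := AlgSpB.flat_of_field _
  exact ⟨⟨inferInstance, inferInstance⟩, inferInstance⟩

/-- **The degree is a homogeneous polynomial, over any field.** -/
theorem exists_degree_poly {A B : Over (Spec (CommRingCat.of k))} [GrpObj A] [IsProper A.hom]
    [GeometricallyIntegral A.hom] [GrpObj B] [IsCommMonObj B] [IsProper B.hom] [GeometricallyIntegral B.hom]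
    {r : ℕ} (hA : topologicalKrullDim A.left = (r : WithBot ℕ∞)) (hB : topologicalKrullDim B.left = (r : WithBot ℕ∞))
    {m : ℕ} (f : Fin m → (A ⟶ B)) [∀ i, IsMonHom (f i)] :
    ∃ P : MvPolynomial (Fin m) ℚ, P.IsHomogeneous (2 * r) ∧
      ∀ a : Fin m → ℤ, (IsFinite (∏ i, f i ^ a i).left →
          ∀ x : B.left, (Scheme.Hom.finrank (∏ i, f i ^ a i).left x : ℚ) = MvPolynomial.eval (fun i => (a i : ℚ)) P) ∧
        (¬ IsFinite (∏ i, f i ^ a i).left → MvPolynomial.eval (fun i => (a i : ℚ)) P = 0) := by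
  let Ω := AlgebraicClosure k
  let F := Over.pullback (HomBC.ext (k := k) Ω)
  have := HomBC.isCommMonObj (Ω := Ω) B
  let g : Fin m → (HomBC.bcΩ Ω A ⟶ HomBC.bcΩ Ω B) := fun i => F.map (f i)
  have : ∀ i, IsMonHom (g i) := fun i => by
    open scoped CategoryTheory.Obj in exact inferInstanceAs (IsMonHom (F.map (f i)))
  obtain ⟨P, hP, h⟩ := DegPoly.exists_degree_poly ((HomBC.dim_eq A).trans hA) ((HomBC.dim_eq B).trans hB) g
  refine ⟨P, hP, fun a => ?_⟩
  have := DegPoly.isMonHom_prod f a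
  let φ : (A ⟶ B) →* (HomBC.bcΩ Ω A ⟶ HomBC.bcΩ Ω B) := MonoidHom.mk' (fun q => F.map q) fun q q' => Functor.map_mul _ _ _
  have hg : (∏ i, g i ^ a i) = F.map (∏ i, f i ^ a i) := by
    show _ = φ _
    rw [map_prod]
    exact Finset.prod_congr rfl fun i _ => (map_zpow φ _ _).symm
  have hsq := isPullback_map Ω (∏ i, f i ^ a i)
  have hfpqc := fpqc_fst Ω B
  have h2 := h a
  rw [hg] at h2
  haveI : MorphismProperty.DescendsAlong @IsFinite FpqcDesc.FPQC.{u} := FpqcDesc.descendsAlong_isFinite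
  refine ⟨fun hfin x => ?_, fun hn => h2.2 fun hfin => hn ?_⟩
  · have : IsIntegral B.left := GeometricallyIntegral.isIntegral_of_subsingleton B.hom
    have : Surjective (∏ i, f i ^ a i).left := Isogeny.surjective_of_isFinite _ (hA.trans hB.symm)
    have := GrpScheme.HomFlat.flat_of_surjective (∏ i, f i ^ a i)
    have hfin' : IsFinite (F.map (∏ i, f i ^ a i)).left := MorphismProperty.of_isPullback hsq inferInstance
    obtain ⟨y, rfl⟩ := hfpqc.1.1.surj x
    rw [← Scheme.Hom.finrank_of_isPullback _ _ _ _ hsq y]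
    exact h2.1 hfin' y
  · exact MorphismProperty.of_isPullback_of_descendsAlong (P := @IsFinite) hsq.flip hfpqc hfin

end Groth.Agent.AbVarLib.DegPolyBC
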