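import Groth.Agent.AbVarLib.CharpolyTate
import Groth.Agent.AbVarLib.DegPolyBC

/-!
# The characteristic polynomial of the Tate representation over an arbitrary field
-/

set_option autoImplicit false
universe u

open CategoryTheory CategoryTheory.Limits MonoidalCategory CartesianMonoidalCategory MonObj AlgebraicGeometry
open Polynomial

noncomputable section

namespace Groth.Agent.AbVarLib.CharpolyBC

variable {k : Type u} [Field k]

set_option synthInstance.maxHeartbeats 400000 in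
/-- **The degree polynomial is the characteristic polynomial on every Tate module.** -/
theorem exists_charpoly (Ω : Type u) [Field Ω] [Algebra k Ω] [IsAlgClosed Ω]
    {A : Over (Spec (CommRingCat.of k))} [GrpObj A] [IsCommMonObj A] [IsProper A.hom] [GeometricallyIntegral A.hom]
    {r : ℕ} (hr : topologicalKrullDim A.left = (r : WithBot ℕ∞)) (f : A ⟶ A) [IsMonHom f] :
    ∃ P : ℤ[X], P.Monic ∧ P.natDegree = 2 * r ∧
      (∀ n : ℤ, (IsFinite (f * 𝟙 A ^ (-n)).left →
          ∀ a : A.left, (Scheme.Hom.finrank (f * 𝟙 A ^ (-n)).left a : ℤ) = P.eval n) ∧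
        (¬ IsFinite (f * 𝟙 A ^ (-n)).left → P.eval n = 0)) ∧
      ∀ (l : ℕ) [Fact l.Prime], (l : k) ≠ 0 →
        ∀ [Module.Free ℤ_[l] (AbDual.TateMod A l (SGA7.pt (K := k) Ω))]
          [Module.Finite ℤ_[l] (AbDual.TateMod A l (SGA7.pt (K := k) Ω))],
          (AbDual.tateMapₗ (l := l) (T := SGA7.pt (K := k) Ω) f).charpoly = P.map (Int.castRingHom ℤ_[l]) := by
  let F := Over.pullback (HomBC.ext (k := k) Ω)
  have := HomBC.isCommMonObj (Ω := Ω) A
  let f' : HomBC.bcΩ Ω A ⟶ HomBC.bcΩ Ω A := F.map f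
  have hf' : IsMonHom f' := by
    open scoped CategoryTheory.Obj in exact inferInstanceAs (IsMonHom (F.map f))
  have hr' := (HomBC.dim_eq (Ω := Ω) A).trans hr
  obtain ⟨P, hPm, hPd, hPv⟩ := S15674.result Ω (HomBC.bcΩ Ω A) r hr' f'
  have hval : ∀ n : ℤ, (IsFinite (f * 𝟙 A ^ (-n)).left →
      ∀ a : A.left, (Scheme.Hom.finrank (f * 𝟙 A ^ (-n)).left a : ℤ) = P.eval n) ∧
      (¬ IsFinite (f * 𝟙 A ^ (-n)).left → P.eval n = 0) := by
    intro n
    let φ : (A ⟶ A) →* (HomBC.bcΩ Ω A ⟶ HomBC.bcΩ Ω A) :=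
      MonoidHom.mk' (fun q => F.map q) fun q q' => Functor.map_mul _ _ _
    have hg : f' * 𝟙 (HomBC.bcΩ Ω A) ^ (-n) = F.map (f * 𝟙 A ^ (-n)) := by
      show _ = φ _
      rw [map_mul, map_zpow]
      show _ = F.map f * F.map (𝟙 A) ^ (-n)
      rw [F.map_id]
    have hsq := DegPolyBC.isPullback_map Ω (f * 𝟙 A ^ (-n))
    have hfpqc := DegPolyBC.fpqc_fst (k := k) Ω A
    have h2 := hPv n
    rw [hg] at h2
    haveI : MorphismProperty.DescendsAlong @IsFinite FpqcDesc.FPQC.{u} := FpqcDesc.descendsAlong_isFinite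
    refine ⟨fun hfin x => ?_, fun hn => h2.2 fun hfin => hn ?_⟩
    · have : IsIntegral A.left := GeometricallyIntegral.isIntegral_of_subsingleton A.hom
      have : IsMonHom (f * 𝟙 A ^ (-n)) := by
        have := EndAV.Hom.isMonHom_toHom (EndAV.Hom.of f + (-n) • EndAV.Hom.of (𝟙 A))
        have e : (EndAV.Hom.of f + (-n) • EndAV.Hom.of (𝟙 A)).toHom = f * 𝟙 A ^ (-n) := by
          rw [EndAV.Hom.toHom_add, EndAV.Hom.toHom_zsmul]; rfl
        rwa [e] at this
      have : Surjective (f * 𝟙 A ^ (-n)).left := Isogeny.surjective_of_isFinite _ rfl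
      have := GrpScheme.HomFlat.flat_of_surjective (f * 𝟙 A ^ (-n))
      have hfin' : IsFinite (F.map (f * 𝟙 A ^ (-n))).left := MorphismProperty.of_isPullback hsq inferInstance
      obtain ⟨y, rfl⟩ := hfpqc.1.1.surj x
      rw [← Scheme.Hom.finrank_of_isPullback _ _ _ _ hsq y]
      exact h2.1 hfin' y
    · exact MorphismProperty.of_isPullback_of_descendsAlong (P := @IsFinite) hsq.flip hfpqc hfin
  refine ⟨P, hPm, hPd, hval, fun l _ hl => ?_⟩
  intro _ _
  have hlΩ : (l : Ω) ≠ 0 := fun h => hl ((algebraMap k Ω).injective (by rwa [map_natCast, map_zero]))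
  let e := HomBC.tateEquiv (Ω := Ω) l A
  have : Module.Free ℤ_[l] (AbDual.TateMod (HomBC.bcΩ Ω A) l (𝟙_ (Over (Spec (CommRingCat.of Ω))))) :=
    Module.Free.of_equiv e.symm
  have : Module.Finite ℤ_[l] (AbDual.TateMod (HomBC.bcΩ Ω A) l (𝟙_ (Over (Spec (CommRingCat.of Ω))))) :=
    Module.Finite.equiv e.symm
  rw [← CharpolyTate.charpoly_eq l hlΩ f' P hPv, ← LinearEquiv.charpoly_conj e]
  congr 1
  refine LinearMap.ext fun x => ?_
  rw [LinearEquiv.conj_apply_apply]
  have h := HomBC.tateEquiv_comp (Ω := Ω) (A := A) (B := A) l (EndAV.Hom.of f) (e.symm x)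
  rw [EndAV.Hom.tateMap_apply, e.apply_symm_apply] at h
  exact h.symm

/-- The determinant is the degree. -/
theorem det_eq (Ω : Type u) [Field Ω] [Algebra k Ω] [IsAlgClosed Ω]
    {A : Over (Spec (CommRingCat.of k))} [GrpObj A] [IsCommMonObj A] [IsProper A.hom] [GeometricallyIntegral A.hom]
    (f : A ⟶ A) [IsMonHom f] (l : ℕ) [Fact l.Prime] (hl : (l : k) ≠ 0)
    [Module.Free ℤ_[l] (AbDual.TateMod A l (SGA7.pt (K := k) Ω))]
    [Module.Finite ℤ_[l] (AbDual.TateMod A l (SGA7.pt (K := k) Ω))] :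
    (IsFinite f.left → ∀ a : A.left, ((Scheme.Hom.finrank f.left a : ℕ) : ℤ_[l]) =
        LinearMap.det (AbDual.tateMapₗ (l := l) (T := SGA7.pt (K := k) Ω) f)) ∧
      (¬ IsFinite f.left → LinearMap.det (AbDual.tateMapₗ (l := l) (T := SGA7.pt (K := k) Ω) f) = 0) := by
  obtain ⟨r, hr⟩ := HomBC.exists_dim A
  obtain ⟨P, hPm, hPd, hPv, hPc⟩ := exists_charpoly Ω hr f
  have hc := hPc l hl
  set T := AbDual.tateMapₗ (l := l) (T := SGA7.pt (K := k) Ω) f
  have hn : Module.finrank ℤ_[l] (AbDual.TateMod A l (SGA7.pt (K := k) Ω)) = 2 * r := by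
    rw [← LinearMap.charpoly_natDegree T, hc, hPm.natDegree_map, hPd]
  have hdet : LinearMap.det T = ((P.eval 0 : ℤ) : ℤ_[l]) := by
    rw [LinearMap.det_eq_sign_charpoly_coeff, hc, hn, pow_mul, neg_one_sq, one_pow, _root_.one_mul, coeff_map,
      coeff_zero_eq_eval_zero]
    simp
  have e0 : f * 𝟙 A ^ (-(0 : ℤ)) = f := by simp
  have h0 := hPv 0
  rw [e0] at h0
  refine ⟨fun hfin a => ?_, fun hn => by rw [hdet, h0.2 hn, Int.cast_zero]⟩
  rw [hdet, ← h0.1 hfin a, Int.cast_natCast]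

end Groth.Agent.AbVarLib.CharpolyBC
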