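import Groth.Agent.AbVarLib.CharpolyBC
import Groth.Agent.AbVarLib.EndTate

/-!
# The characteristic polynomial is a power of an irreducible minimal polynomial
-/

set_option autoImplicit false
universe u

open CategoryTheory CategoryTheory.Limits MonoidalCategory CartesianMonoidalCategory MonObj AlgebraicGeometry
open Polynomial

noncomputable section

namespace Groth.Agent.AbVarLib.CharpolyPow

variable {k : Type u} [Field k]

theorem eq_pow {F : Type*} [Field F] {mp : F[X]} : ∀ {Q : F[X]}, Q.Monic →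
    (∀ q : F[X], q.Monic → Irreducible q → q ∣ Q → q = mp) → ∃ e : ℕ, Q = mp ^ e := by
  intro Q
  induction' hd : Q.natDegree using Nat.strong_induction_on with d ih generalizing Q
  intro hQ h
  by_cases hu : IsUnit Q
  · exact ⟨0, by rw [pow_zero, hQ.eq_one_of_isUnit hu]⟩
  obtain ⟨q, hqm, hqi, hqd⟩ := Polynomial.exists_monic_irreducible_factor Q hu
  obtain ⟨Q', rfl⟩ := hqd
  have hQ' : Q'.Monic := hqm.of_mul_monic_left hQ
  have hlt : Q'.natDegree < d := by
    rw [← hd, hqm.natDegree_mul hQ']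
    have := hqi.natDegree_pos
    omega
  obtain ⟨e, he⟩ := ih _ hlt rfl hQ' (fun r hr hri hrd => h r hr hri (hrd.mul_left q))
  refine ⟨e + 1, ?_⟩
  rw [h q hqm hqi (dvd_mul_right _ _), he, pow_succ']

/-- Roots of the characteristic polynomial are roots of every integral polynomial killing the endomorphism. -/
theorem isRoot_of_aeval_eq_zero {R S : Type*} [CommRing R] [Field S] [Algebra R S] {n : ℕ} (M : Matrix (Fin n) (Fin n) R)
    (G : R[X]) (hG : aeval M G = 0) (z : S) (hz : (M.charpoly.map (algebraMap R S)).IsRoot z) :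
    (G.map (algebraMap R S)).IsRoot z := by
  set M' := (algebraMap R S).mapMatrix M
  have hM' : aeval M' (G.map (algebraMap R S)) = 0 := by
    rw [aeval_map_algebraMap]
    have := aeval_algHom_apply (AlgHom.mapMatrix (Algebra.ofId R S)) M G
    rw [hG, map_zero] at this
    exact this
  have hmem : z ∈ spectrum S M' := by
    rw [Matrix.mem_spectrum_iff_isRoot_charpoly, show M' = M.map (algebraMap R S) from rfl, Matrix.charpoly_map]
    exact hz
  have hne : Nontrivial (Matrix (Fin n) (Fin n) S) := by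
    by_contra h
    rw [not_nontrivial_iff_subsingleton] at h
    exact hmem (isUnit_of_subsingleton _)
  have h2 := spectrum.subset_polynomial_aeval M' (G.map (algebraMap R S)) ⟨z, hmem, rfl⟩
  rw [hM', spectrum.zero_eq] at h2
  exact h2

set_option synthInstance.maxHeartbeats 400000 in
theorem exists_eq_minpoly_pow (Ω : Type u) [Field Ω] [Algebra k Ω] [IsAlgClosed Ω]
    {A : Over (Spec (CommRingCat.of k))} [GrpObj A] [IsCommMonObj A] [IsProper A.hom] [GeometricallyIntegral A.hom]
    {g : ℕ} (hg : topologicalKrullDim A.left = (g : WithBot ℕ∞)) (l : ℕ) [Fact l.Prime] (hl : (l : k) ≠ 0)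
    [Module.Free ℤ_[l] (AbDual.TateMod A l (SGA7.pt (K := k) Ω))]
    [Module.Finite ℤ_[l] (AbDual.TateMod A l (SGA7.pt (K := k) Ω))]
    (φ : EndAV.End A) (hirr : Irreducible (minpoly ℚ (EndAV.toEnd0 φ))) :
    ∃ P : ℤ[X], (EndAV.End.tateRep l (SGA7.pt (K := k) Ω) φ).charpoly = P.map (Int.castRingHom ℤ_[l]) ∧
      P.map (Int.castRingHom ℚ) =
        minpoly ℚ (EndAV.toEnd0 φ) ^ (2 * g / (minpoly ℚ (EndAV.toEnd0 φ)).natDegree) ∧
      ∃ e : ℕ, 2 * g = e * (minpoly ℚ (EndAV.toEnd0 φ)).natDegree := by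
  classical
  obtain ⟨P, hPm, hPd, -, hPc⟩ := CharpolyBC.exists_charpoly Ω hg φ.toHom
  have hc : (EndAV.End.tateRep l (SGA7.pt (K := k) Ω) φ).charpoly = P.map (Int.castRingHom ℤ_[l]) := hPc l hl
  set mp := minpoly ℚ (EndAV.toEnd0 φ) with hmp
  have hint : IsIntegral ℚ (EndAV.toEnd0 φ) := by
    by_contra h
    exact hirr.ne_zero (minpoly.eq_zero h)
  have hmpm : mp.Monic := minpoly.monic hint
  obtain ⟨⟨b, hb⟩, hmap⟩ := IsLocalization.integerNormalization_map_to_map (nonZeroDivisors ℤ) mp
  set mp' := IsLocalization.integerNormalization (nonZeroDivisors ℤ) mp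
  have hmp' : aeval φ mp' = 0 := by
    obtain ⟨hfree, -, -⟩ := HomBC.free_finite_finrank (A := A) (B := A) hg hg
    have : Module.Free ℤ (EndAV.End A) := hfree
    have hinj : Function.Injective (EndAV.toEnd0 (A := A)) :=
      Algebra.TensorProduct.includeRight_injective (algebraMap ℤ ℚ).injective_int
    refine hinj ?_
    rw [← aeval_algHom_apply, map_zero, ← aeval_map_algebraMap (A := ℚ), hmap, map_zsmul, hmp, minpoly.aeval,
      smul_zero]
  let B := Module.finBasis ℤ_[l] (AbDual.TateMod A l (SGA7.pt (K := k) Ω))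
  set T := EndAV.End.tateRep l (SGA7.pt (K := k) Ω) φ with hT
  let M := LinearMap.toMatrix B B T
  have hMc : M.charpoly = P.map (Int.castRingHom ℤ_[l]) := by rw [LinearMap.charpoly_toMatrix, hc]
  have hMk : aeval M (mp'.map (algebraMap ℤ ℤ_[l])) = 0 := by
    rw [show M = LinearMap.toMatrixAlgEquiv B T from rfl, aeval_algHom_apply, aeval_map_algebraMap, hT]
    have h2 : aeval (EndAV.End.tateRep l (SGA7.pt (K := k) Ω) φ) mp' = 0 := by
      rw [aeval_def, show algebraMap ℤ _ = ((EndAV.End.tateRep l (SGA7.pt (K := k) Ω)).comp (algebraMap ℤ _)) from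
        RingHom.ext_int _ _, ← hom_eval₂, ← aeval_def, hmp', map_zero]
    rw [h2, map_zero]
  let E := AlgebraicClosure ℚ_[l]
  obtain ⟨e, he⟩ := eq_pow (mp := mp) (hPm.map (Int.castRingHom ℚ)) fun q hqm hqi hqd => by
    obtain ⟨z, hz⟩ := IsAlgClosed.exists_aeval_eq_zero E q (degree_pos_of_irreducible hqi).ne'
    have hzP : (P.map (Int.castRingHom E)).IsRoot z := by
      obtain ⟨c, hc'⟩ := hqd
      have : aeval z (P.map (Int.castRingHom ℚ)) = 0 := by rw [hc', map_mul, hz, zero_mul]
      rw [aeval_def, eval₂_map, RingHom.ext_int ((algebraMap ℚ E).comp _) (Int.castRingHom E)] at this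
      rwa [IsRoot, Polynomial.eval_map]
    have hzM := isRoot_of_aeval_eq_zero M _ hMk z (by
      rw [hMc, Polynomial.map_map, RingHom.ext_int ((algebraMap ℤ_[l] E).comp _) (Int.castRingHom E)]
      exact hzP)
    rw [Polynomial.map_map, RingHom.ext_int ((algebraMap ℤ_[l] E).comp _) (algebraMap ℤ E), IsRoot, Polynomial.eval_map,
      ← aeval_def] at hzM
    have hzmp : aeval z mp = 0 := by
      have : aeval z (b • mp) = 0 := by rw [← hmap, aeval_map_algebraMap, hzM]
      rw [map_zsmul, smul_eq_zero] at this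
      exact this.resolve_left (nonZeroDivisors.ne_zero hb)
    rw [minpoly.eq_of_irreducible_of_monic hqi hz hqm, minpoly.eq_of_irreducible_of_monic hirr hzmp hmpm]
  have hdeg : 2 * g = e * mp.natDegree := by
    rw [← hPd, ← hmpm.natDegree_pow, ← he, hPm.natDegree_map]
  refine ⟨P, hc, ?_, e, hdeg⟩
  rw [he, hdeg, Nat.mul_div_cancel _ hirr.natDegree_pos]

end Groth.Agent.AbVarLib.CharpolyPow
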