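import Groth.Agent.GrpScheme.AffineHom
import Groth.Agent.GrpdLib.GrpOver
import Groth.Agent.AffGrp.Bridge
import Groth.Agent.GrpScheme.Basic
import Groth.Agent.FinHopf.FieldOrderP
import Groth.Agent.AbVarLib.AbSub
import Mathlib.AlgebraicGeometry.Morphisms.FlatRank

/-!
# The number of rational points of the kernel divides the degree
-/

set_option autoImplicit false
universe u

open CategoryTheory CategoryTheory.Limits MonoidalCategory CartesianMonoidalCategory MonObj AlgebraicGeometry

noncomputable section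

namespace Groth.Agent.AbVarLib.PointsDvd

variable {K : Type u} [Field K] [IsAlgClosed K] {A B : Over (Spec (CommRingCat.of K))} [GrpObj A] [GrpObj B]

theorem natCard_dvd (h : A ⟶ B) [IsMonHom h] [IsFinite h.left] [Flat h.left] {d : ℕ}
    (hd : ∀ y, Scheme.Hom.finrank h.left y = d) :
    Nat.card {a : 𝟙_ (Over (Spec (CommRingCat.of K))) ⟶ A // a ≫ h = 1} ∣ d := by
  obtain ⟨N, _, i, _, hker⟩ := GrpScheme.AffineHom.exists_kernel h
  have hsq := GrpdLib.GrpOver.isPullback_left hker
  have htl : (toUnit N).left = N.hom := by simp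
  rw [htl] at hsq
  have hNfin : IsFinite N.hom := MorphismProperty.of_isPullback (P := @IsFinite) hsq inferInstance
  have hrk : ∀ v, Scheme.Hom.finrank N.hom v = d := fun v => by
    rw [Scheme.Hom.finrank_of_isPullback i.left N.hom h.left η[B].left hsq v, hd]
  let e₁ : {a : 𝟙_ (Over (Spec (CommRingCat.of K))) ⟶ A // a ≫ h = 1} ≃ (𝟙_ (Over (Spec (CommRingCat.of K))) ⟶ N) :=
    { toFun := fun a => (GrpdLib.GrpOver.kernel_factor hker a.1 a.2).choose
      invFun := fun n => ⟨n ≫ i, GrpdLib.GrpOver.comp_kernel_comp hker n⟩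
      left_inv := fun a => Subtype.ext (GrpdLib.GrpOver.kernel_factor hker a.1 a.2).choose_spec
      right_inv := fun n => by
        have := GrpdLib.GrpOver.kernel_mono hker
        exact (cancel_mono i).mp (GrpdLib.GrpOver.kernel_factor hker (n ≫ i) (GrpdLib.GrpOver.comp_kernel_comp hker n)).choose_spec }
  have : IsAffine N.left := isAffine_of_isAffineHom N.hom
  obtain ⟨R, hR, e, -⟩ := AffGrp.Bridge.exists_iso N
  let l : Spec R ⟶ N.left := e.hom.left
  have he : l ≫ N.hom = Spec.map (CommRingCat.ofHom (algebraMap K R)) := Over.w e.hom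
  have : IsIso l := GrpScheme.Basic.isIso_left e.hom
  have : Flat N.hom := MorphismProperty.of_isPullback (P := @Flat) hsq inferInstance
  have hf : IsFinite (Spec.map (CommRingCat.ofHom (algebraMap K R))) :=
    he ▸ (inferInstance : IsFinite (l ≫ N.hom))
  have : Module.Finite K R := RingHom.finite_algebraMap.mp ((IsFinite.SpecMap_iff _).mp hf)
  have hfr : Module.finrank K R = d := by
    have h1 := hrk (⟨⊥, inferInstance⟩ : PrimeSpectrum K)
    rwa [← Scheme.Hom.finrank_comp_left_of_isIso l N.hom, he,
      Scheme.Hom.finrank_SpecMap_algebraMap, Module.rankAtStalk_eq_finrank_of_free] at h1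
  have hR' : IsArtinianRing R := IsArtinianRing.of_finite K R
  have : (FinHopf.FieldOrderP.augI K R).IsMaximal :=
    RingHom.ker_isMaximal_of_surjective _ fun r => ⟨algebraMap K R r, by simp⟩
  let X : Over (Spec (CommRingCat.of K)) := Over.mk (Spec.map (CommRingCat.ofHom (algebraMap K R)))
  let eX : X ≅ N := Over.isoMk (asIso l) he
  let e₂ : (𝟙_ (Over (Spec (CommRingCat.of K))) ⟶ X) ≃ (↥R →ₐ[K] K) :=
    { toFun := fun q =>
        { (Spec.preimage (q.left : Spec (CommRingCat.of K) ⟶ Spec R)).hom with
          commutes' := fun c => by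
            have hw : (q.left : Spec (CommRingCat.of K) ⟶ Spec R) ≫ Spec.map (CommRingCat.ofHom (algebraMap K R)) = 𝟙 (Spec (CommRingCat.of K)) :=
              Over.w q
            rw [← Spec.map_preimage (q.left : Spec (CommRingCat.of K) ⟶ Spec R), ← Spec.map_comp, ← Spec.map_id] at hw
            exact DFunLike.congr_fun (congrArg CommRingCat.Hom.hom (Spec.map_injective hw)) c }
      invFun := fun g => Over.homMk (Spec.map (CommRingCat.ofHom g.toRingHom)) (by
        show Spec.map (CommRingCat.ofHom g.toRingHom) ≫ Spec.map (CommRingCat.ofHom (algebraMap K R)) = _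
        rw [← Spec.map_comp, ← CommRingCat.ofHom_comp, AlgHom.toRingHom_eq_coe, AlgHom.comp_algebraMap]
        exact Spec.map_id _)
      left_inv := fun q => Over.OverMorphism.ext (Spec.map_preimage _)
      right_inv := fun g => AlgHom.ext fun x => DFunLike.congr_fun
        (congrArg CommRingCat.Hom.hom (Spec.preimage_map (CommRingCat.ofHom g.toRingHom))) x }
  let e₃ : (↥R →ₐ[K] K) ≃ WithConv (↥R →ₐ[K] K) := ⟨WithConv.toConv, WithConv.ofConv, fun _ => rfl, fun _ => rfl⟩
  have hcard : Nat.card {a : 𝟙_ (Over (Spec (CommRingCat.of K))) ⟶ A // a ≫ h = 1} =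
      Nat.card (WithConv (↥R →ₐ[K] K)) :=
    Nat.card_congr (e₁.trans ((eX.homToEquiv.symm).trans (e₂.trans e₃)))
  rw [hcard, ← hfr, FinHopf.FieldOrderP.finrank_eq_card_points_mul (K := K) (A := R)]
  exact dvd_mul_right _ _

end Groth.Agent.AbVarLib.PointsDvd
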