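import Groth.Agent.AbVarLib.TateBasis
import Groth.Prelude.Def_AlgGrp

/-!
# The cokernel of the map of Tate modules of an isogeny

For a surjection of divisible groups of points with finite kernel the cokernel of the map of Tate
modules is the primary part of the kernel.
-/

set_option autoImplicit false
universe u

open CategoryTheory CategoryTheory.Limits MonoidalCategory CartesianMonoidalCategory MonObj AlgebraicGeometry

noncomputable section

namespace Groth.Agent.AbVarLib.TateCoker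

/-- The abelian group statement: primary lifts exist and are unique up to the primary kernel. -/
theorem exists_lift {X Y : Type*} [AddCommGroup X] [AddCommGroup Y] (f : X →+ Y) (hsurj : Function.Surjective f)
    (hfin : (f.ker : Set X).Finite) {l : ℕ} (hl : l.Prime) (y : Y) (n : ℕ) (hy : l ^ n • y = 0) :
    ∃ x, f x = y ∧ ∃ m, l ^ m • x = 0 := by
  obtain ⟨x, rfl⟩ := hsurj y
  have : Finite f.ker := hfin.to_subtype
  have hker : l ^ n • x ∈ f.ker := by rw [AddMonoidHom.mem_ker, map_nsmul]; exact hy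
  obtain ⟨a, q, hq, hcard⟩ := Nat.exists_eq_pow_mul_and_not_dvd (Nat.card_pos (α := f.ker)).ne' l hl.ne_one
  have hN : (l ^ a * q) • (l ^ n • x) = 0 := by
    rw [← hcard]
    exact congrArg Subtype.val (card_nsmul_eq_zero' (x := (⟨_, hker⟩ : f.ker)))
  obtain ⟨u, hu⟩ := Nat.exists_mul_mod_eq_one_of_coprime
    ((hl.coprime_iff_not_dvd.mpr hq).symm.pow_right (n + 1)) (Nat.one_lt_pow (by omega) hl.one_lt)
  refine ⟨(q * u) • x, ?_, n + a, ?_⟩
  · rw [map_nsmul, ← Nat.mod_add_div (q * u) (l ^ (n + 1)), hu.2, add_smul, one_smul,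
      show l ^ (n + 1) * (q * u / l ^ (n + 1)) = (l * (q * u / l ^ (n + 1))) * l ^ n by ring,
      mul_smul, hy, smul_zero, add_zero]
  · rw [show l ^ (n + a) • (q * u) • x = u • ((l ^ a * q) • (l ^ n • x)) by
      simp only [smul_smul]; congr 1; ring]
    rw [hN, smul_zero]

theorem exists_bound {X : Type*} [AddCommGroup X] (s : Set X) (hs : s.Finite) (l : ℕ) :
    ∃ e, ∀ x ∈ s, (∃ m, l ^ m • x = 0) → l ^ e • x = 0 := by
  induction s, hs using Set.Finite.induction_on with
  | empty => exact ⟨0, fun x hx => absurd hx (Set.notMem_empty x)⟩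
  | @insert a t _ _ ih =>
    obtain ⟨e, he⟩ := ih
    by_cases ha : ∃ m, l ^ m • a = 0
    · obtain ⟨m, hm⟩ := ha
      refine ⟨m + e, fun x hx hx' => ?_⟩
      rcases Set.mem_insert_iff.mp hx with rfl | hx
      · rw [add_comm, pow_add, mul_smul, hm, smul_zero]
      · rw [pow_add, mul_smul, he x hx hx', smul_zero]
    · refine ⟨e, fun x hx hx' => ?_⟩
      rcases Set.mem_insert_iff.mp hx with rfl | hx
      · exact absurd hx' ha
      · exact he x hx hx'

variable {S : Scheme.{u}} {A B : Over S} [GrpObj A] [IsCommMonObj A] [GrpObj B] [IsCommMonObj B] {T : Over S}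
  (φ : A ⟶ B) [IsMonHom φ] (l : ℕ) [hl : Fact l.Prime]

/-- The map on points. -/
abbrev ptMap : Additive (T ⟶ A) →+ Additive (T ⟶ B) := MonoidHom.toAdditive (IsMonHom.monoidHom φ T)

/-- The primary part of the kernel on points. -/
def primKer : AddSubgroup (Additive (T ⟶ A)) :=
  (ptMap (T := T) φ).ker ⊓ AddCommGroup.primaryComponent (Additive (T ⟶ A)) l

omit hl in
theorem mem_primKer {x : Additive (T ⟶ A)} : x ∈ primKer φ l ↔ ptMap φ x = 0 ∧ ∃ m, l ^ m • x = 0 := Iff.rfl

/-- **The exact sequence.** -/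
theorem injective_and_coker (hfin : {a : T ⟶ A | a ≫ φ = 1}.Finite) (hsurj : ∀ b : T ⟶ B, ∃ a, a ≫ φ = b)
    (hdivA : ∀ a : Additive (T ⟶ A), ∃ b, l • b = a) (hdivB : ∀ a : Additive (T ⟶ B), ∃ b, l • b = a) :
    Function.Injective (AbDual.tateMapₗ (l := l) (T := T) φ) ∧
      Nonempty ((AbDual.TateMod B l T ⧸ LinearMap.range (AbDual.tateMapₗ (l := l) (T := T) φ)) ≃+ primKer (T := T) φ l) := by
  set f := ptMap (T := T) φ
  have hfin' : (f.ker : Set (Additive (T ⟶ A))).Finite :=
    hfin.preimage Additive.toMul.injective.injOn |>.subset fun a ha => congrArg Additive.toMul ha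
  obtain ⟨e, he⟩ := exists_bound _ hfin' l
  have hkill : ∀ {x}, f x = 0 → (∃ m, l ^ m • x = 0) → l ^ e • x = 0 := fun {x} h h' => he x h h'
  refine ⟨(injective_iff_map_eq_zero _).mpr fun z hz => AbDual.TateMod.ext fun n => ?_, ?_⟩
  · rw [← TateBasis.pow_smul_component z e n]
    exact hkill (congrArg (AbDual.TateMod.component B l T (n + e)) hz) ⟨_, z.torsion (n + e)⟩
  choose L hL1 m hL2 using fun (y : AbDual.TateMod B l T) (n : ℕ) =>
    exists_lift f (fun b => (hsurj b.toMul).imp' Additive.ofMul fun a ha => congrArg Additive.ofMul ha) hfin' hl.out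
      ((y : ℕ → _) n) n (y.torsion n)
  have huniq : ∀ {y : Additive (T ⟶ B)} {x x' : Additive (T ⟶ A)}, f x = y → f x' = y →
      (∃ m, l ^ m • x = 0) → (∃ m, l ^ m • x' = 0) → l ^ e • x = l ^ e • x' := by
    intro y x x' h h' hx hx'
    rw [← sub_eq_zero, ← smul_sub]
    refine hkill (by rw [map_sub, h, h', sub_self]) ?_
    obtain ⟨a, ha⟩ := hx
    obtain ⟨b, hb⟩ := hx'
    exact ⟨a + b, by rw [smul_sub, pow_add, mul_smul (l ^ a), mul_smul (l ^ a), hb, smul_zero, sub_zero,
      smul_comm, ha, smul_zero]⟩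
  have hmem : ∀ y : AbDual.TateMod B l T, l ^ e • L y e ∈ primKer φ l := fun y => by
    refine (mem_primKer φ l).mpr ⟨?_, ⟨m y e, by rw [smul_comm, hL2, smul_zero]⟩⟩
    rw [map_nsmul, hL1, y.torsion]
  let δ : AbDual.TateMod B l T →+ primKer (T := T) φ l :=
    AddMonoidHom.mk' (fun y => ⟨_, hmem y⟩) fun y y' => Subtype.ext (by
      show l ^ e • L (y + y') e = l ^ e • L y e + l ^ e • L y' e
      rw [← smul_add]
      refine huniq (hL1 _ e) (by rw [map_add, hL1, hL1]; rfl) ⟨_, hL2 _ e⟩ ⟨m y e + m y' e, ?_⟩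
      rw [smul_add, pow_add, mul_smul (l ^ m y e), smul_comm (l ^ m y e), hL2, smul_zero, zero_add, mul_smul, hL2,
        smul_zero])
  have hδsurj : Function.Surjective δ := fun κ => by
    obtain ⟨hκ, a, ha⟩ := (mem_primKer φ l).mp κ.2
    choose g hg using hdivA
    have hit : ∀ i, l ^ i • g^[i] κ.1 = κ.1 := fun i => by
      induction i with
      | zero => rw [pow_zero, one_smul]; rfl
      | succ i ih => rw [pow_succ, mul_smul, Function.iterate_succ_apply', hg, ih]
    choose g' hg' using hdivB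
    have hit' : ∀ i, l ^ i • g'^[i] (f (g^[e] κ.1)) = f (g^[e] κ.1) := fun i => by
      induction i with
      | zero => rw [pow_zero, one_smul]; rfl
      | succ i ih => rw [pow_succ, mul_smul, Function.iterate_succ_apply', hg', ih]
    have htor : l ^ e • f (g^[e] κ.1) = 0 := by rw [← map_nsmul, hit, hκ]
    let y : AbDual.TateMod B l T := ⟨fun i => l ^ e • g'^[i] (f (g^[e] κ.1)),
      fun i => by rw [smul_comm, hit', htor], fun i => by rw [smul_comm, Function.iterate_succ_apply', hg']⟩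
    refine ⟨y, Subtype.ext (.trans ?_ (hit e))⟩
    exact huniq (hL1 y e) (hit' e).symm ⟨_, hL2 y e⟩ ⟨a + e, by rw [pow_add, mul_smul, hit, ha]⟩
  have hker : δ.ker = (LinearMap.range (AbDual.tateMapₗ (l := l) (T := T) φ)).toAddSubgroup := by
    ext y
    refine ⟨fun hy => ?_, ?_⟩
    · have h0 : l ^ e • L y e = 0 := congrArg Subtype.val hy
      have hstep : ∀ (n j : ℕ), f (l ^ j • L y (n + j)) = (y : ℕ → _) n := fun n j => by
        rw [map_nsmul, hL1, TateBasis.pow_smul_component]
      refine ⟨⟨fun n => l ^ e • L y (n + e), fun n => ?_, fun n => ?_⟩,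
        AbDual.TateMod.ext fun n => hstep n e⟩
      · rw [smul_comm]
        refine .trans ?_ h0
        refine huniq (?_ : f (l ^ n • L y (n + e)) = _) (hL1 y e) ⟨m y (n + e), by rw [smul_comm, hL2, smul_zero]⟩
          ⟨_, hL2 y e⟩
        rw [Nat.add_comm n e]; exact hstep e n
      · rw [smul_comm]
        refine huniq (?_ : f (l • L y (n + 1 + e)) = _) (hL1 y (n + e))
          ⟨m y (n + 1 + e), by rw [smul_comm, hL2, smul_zero]⟩ ⟨_, hL2 y (n + e)⟩
        rw [map_nsmul, hL1, Nat.add_right_comm, AbDual.TateMod.compat]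
    · rintro ⟨z, rfl⟩
      refine Subtype.ext (.trans (huniq (hL1 _ e) (?_ : f ((z : ℕ → _) e) = _) ⟨_, hL2 _ e⟩ ⟨e, z.torsion e⟩) (z.torsion e))
      rfl
  exact ⟨(QuotientAddGroup.quotientAddEquivOfEq hker.symm).trans
    (QuotientAddGroup.quotientKerEquivOfSurjective δ hδsurj)⟩

/-- Points of a kernel. -/
theorem nonempty_kernel_equiv {N : Over S} [GrpObj N] [IsCommMonObj N] (i : N ⟶ A) [IsMonHom i]
    (hN : AlgGrp.IsKernel i φ) :
    Nonempty (primKer (T := T) φ l ≃+ Additive ↥(CommGroup.primaryComponent (T ⟶ N) l)) := by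
  have hone : ∀ a : T ⟶ A, a ≫ φ = 1 → a ≫ φ = toUnit T ≫ η[B] := fun a h => h.trans Hom.one_def
  let g : Additive ↥(CommGroup.primaryComponent (T ⟶ N) l) →+ primKer (T := T) φ l :=
    AddMonoidHom.mk' (fun c => ⟨Additive.ofMul (c.toMul.1 ≫ i), (mem_primKer φ l).mpr ⟨by
      refine congrArg Additive.ofMul ?_
      show (c.toMul.1 ≫ i) ≫ φ = 1
      rw [Category.assoc, hN.w, ← Category.assoc, toUnit_unique (c.toMul.1 ≫ toUnit N) (toUnit T), Hom.one_def],
      by
        obtain ⟨m, hm⟩ := c.toMul.2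
        exact ⟨m, congrArg Additive.ofMul (by
          show (c.toMul.1 ≫ i) ^ (l ^ m) = 1
          rw [← MonObj.pow_comp, hm, MonObj.one_comp])⟩⟩⟩)
      fun c d => Subtype.ext (congrArg Additive.ofMul (MonObj.mul_comp _ _ i))
  refine ⟨(AddEquiv.ofBijective g ⟨fun c d h => ?_, fun κ => ?_⟩).symm⟩
  · refine Additive.toMul.injective (Subtype.ext (hN.hom_ext ?_ (toUnit_unique _ _)))
    exact congrArg (fun x => Additive.toMul x.1) h
  · obtain ⟨hκ, m, hm⟩ := (mem_primKer φ l).mp κ.2
    let c := hN.lift κ.1.toMul (toUnit T) (hone _ (congrArg Additive.toMul hκ))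
    have hc : c ≫ i = κ.1.toMul := hN.lift_fst _ _ _
    refine ⟨Additive.ofMul ⟨c, m, hN.hom_ext ?_ (toUnit_unique _ _)⟩, Subtype.ext (congrArg Additive.ofMul hc)⟩
    rw [MonObj.pow_comp, hc, MonObj.one_comp]
    exact congrArg Additive.toMul hm

end Groth.Agent.AbVarLib.TateCoker
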