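import Groth.Agent.AbVarLib.DetCard
import Groth.Agent.AbVarLib.PointsDvd
import Groth.Agent.AbVarLib.TateCoker
import Groth.Agent.AbVarLib.CharRoots
import Groth.Agent.S7790

/-!
# The `l`-part of the degree is the `l`-part of the determinant
-/

set_option autoImplicit false
universe u

open CategoryTheory CategoryTheory.Limits MonoidalCategory CartesianMonoidalCategory MonObj AlgebraicGeometry

noncomputable section

namespace Groth.Agent.AbVarLib.DegDet

variable {K : Type u} [Field K] [IsAlgClosed K] (l : ℕ) [Fact l.Prime]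

local notation "pt" => 𝟙_ (Over (Spec (CommRingCat.of K)))

/-- One inequality. -/
theorem valuation_le {A B : Over (Spec (CommRingCat.of K))}
    [GrpObj A] [IsCommMonObj A] [IsProper A.hom] [GeometricallyIntegral A.hom]
    [GrpObj B] [IsCommMonObj B] [IsProper B.hom] [GeometricallyIntegral B.hom]
    (h : A ⟶ B) [IsMonHom h] [IsFinite h.left] [Flat h.left] [Surjective h.left] {d : ℕ} (hd0 : d ≠ 0)
    (hd : ∀ y, Scheme.Hom.finrank h.left y = d) {J : Type*} [Fintype J] [DecidableEq J]
    (bA : Module.Basis J ℤ_[l] (AbDual.TateMod A l pt)) (bB : Module.Basis J ℤ_[l] (AbDual.TateMod B l pt)) :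
    Matrix.det (LinearMap.toMatrix bA bB (AbDual.tateMapₗ (l := l) (T := pt) h)) ≠ 0 ∧
      (Matrix.det (LinearMap.toMatrix bA bB (AbDual.tateMapₗ (l := l) (T := pt) h))).valuation ≤ padicValNat l d := by
  have := LocallyOfFiniteType.jacobsonSpace A.hom
  have hfin : {a : pt ⟶ A | a ≫ h = 1}.Finite := FiniteKernel.finite_ker h
  have hsurj : ∀ b : pt ⟶ B, ∃ a, a ≫ h = b := fun b => by
    obtain ⟨z, hz⟩ := h.left.surjective (b.left (IsLocalRing.closedPoint K))
    obtain ⟨w, hw, hwc⟩ := nonempty_inter_closedPoints (Z := h.left ⁻¹' {b.left (IsLocalRing.closedPoint K)})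
      ⟨z, hz⟩ ((Slices.isClosed_point b).preimage h.left.continuous).isLocallyClosed
    exact ⟨TransInv.ptAt A w hwc,
      AbSub.apply_inj ((congrArg h.left (pointOfClosedPoint_apply A.hom w hwc _)).trans hw)⟩
  obtain ⟨hinj, ⟨e⟩⟩ := TateCoker.injective_and_coker h l hfin hsurj
    (TatePoints.exists_smul_eq A l (Fact.out : l.Prime).one_le) (TatePoints.exists_smul_eq B l (Fact.out : l.Prime).one_le)
  obtain ⟨hne, hcard⟩ := DetCard.card_quot_range bA bB _ hinj
  refine ⟨hne, ?_⟩
  have hker : Nat.card (TateCoker.ptMap (T := pt) h).ker = Nat.card {a : pt ⟶ A // a ≫ h = 1} :=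
    Nat.card_congr ⟨fun a => ⟨a.1.toMul, congrArg Additive.toMul a.2⟩,
      fun a => ⟨Additive.ofMul a.1, congrArg Additive.ofMul a.2⟩, fun _ => rfl, fun _ => rfl⟩
  have hdvd : l ^ (Matrix.det (LinearMap.toMatrix bA bB (AbDual.tateMapₗ (l := l) (T := pt) h))).valuation ∣ d := by
    rw [← hcard, Nat.card_congr e.toEquiv]
    refine (AddSubgroup.card_dvd_of_le (inf_le_left : TateCoker.primKer (T := pt) h l ≤ _)).trans ?_
    rw [hker]
    exact PointsDvd.natCard_dvd h hd
  exact (padicValNat_dvd_iff_le hd0).mp hdvd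

/-- **Equality.** -/
theorem valuation_eq {A B : Over (Spec (CommRingCat.of K))}
    [GrpObj A] [IsCommMonObj A] [IsProper A.hom] [GeometricallyIntegral A.hom]
    [GrpObj B] [IsCommMonObj B] [IsProper B.hom] [GeometricallyIntegral B.hom]
    {r : ℕ} (hA : topologicalKrullDim A.left = (r : WithBot ℕ∞)) (hB : topologicalKrullDim B.left = (r : WithBot ℕ∞))
    (h : A ⟶ B) [IsMonHom h] [IsFinite h.left]
    (bA : Module.Basis (Fin (2 * r)) ℤ_[l] (AbDual.TateMod A l pt))
    (bB : Module.Basis (Fin (2 * r)) ℤ_[l] (AbDual.TateMod B l pt)) (y : B.left) :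
    padicValNat l (Scheme.Hom.finrank h.left y) =
      (Matrix.det (LinearMap.toMatrix bA bB (AbDual.tateMapₗ (l := l) (T := pt) h))).valuation := by
  letI : A.left.Over (Spec (CommRingCat.of K)) := ⟨A.hom⟩
  have : IsIntegral A.left := GeometricallyIntegral.isIntegral_of_subsingleton A.hom
  have : IsIntegral B.left := GeometricallyIntegral.isIntegral_of_subsingleton B.hom
  have := AbVarLib.Basics.smooth A
  have := AbVarLib.Basics.smooth B
  have : Surjective h.left := Isogeny.surjective_of_isFinite h (hA.trans hB.symm)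
  have := GrpScheme.HomFlat.flat_of_surjective h
  have : LocallyOfFinitePresentation h.left := GrpdLib.GrpOver.lfp_left h
  set d := Scheme.Hom.finrank h.left y with hdd
  have hd : ∀ z, Scheme.Hom.finrank h.left z = d :=
    fun z => h.left.isLocallyConstant_finrank.apply_eq_of_preconnectedSpace z y
  have hd1 : 1 ≤ d := by
    obtain ⟨x, hx⟩ := h.left.surjective y
    rw [hdd, ← hx]
    exact Scheme.Hom.one_le_finrank_map h.left x
  have : GeometricallyConnected A.hom := FBase.BC.geometricallyConnected_of_geometricallyIrreducible A.hom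
  have : GeometricallyConnected B.hom := FBase.BC.geometricallyConnected_of_geometricallyIrreducible B.hom
  have : LocallyOfFinitePresentation A.hom := inferInstance
  have : LocallyOfFinitePresentation B.hom := inferInstance
  obtain ⟨⟨g, ⟨hg, hhg⟩, -⟩, hall⟩ := S7790.result A B h d hd1 (fun s => hd _)
  obtain ⟨hgh, _, _, _⟩ := hall g hg hhg
  have := hg
  have : LocallyOfFinitePresentation g.left := GrpdLib.GrpOver.lfp_left g
  obtain ⟨e, he⟩ : ∃ e, ∀ z, Scheme.Hom.finrank g.left z = e :=
    ⟨_, fun z => g.left.isLocallyConstant_finrank.apply_eq_of_preconnectedSpace z (Classical.arbitrary _)⟩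
  haveI : IsProper (A.left ↘ Spec (CommRingCat.of K)) := ‹IsProper A.hom›
  obtain ⟨L, hL, hχ⟩ := DegPoly.exists_euler_ne_zero A hA
  have hdZ : (d : ℤ) ≠ 0 := by omega
  obtain ⟨_, _, _⟩ := AbSch51.MulDeg.isFinite_flat_surjective A hdZ
  have hde : d * e = d ^ (2 * r) := by
    have h1 := AbSch51.IsogenyEuler.euler_pullback g e he L (Cube.Seesaw.isCoh_of_invertible hL)
    have h2 := AbSch51.IsogenyEuler.euler_pullback h d hd _ (Cube.Seesaw.isCoh_of_invertible (PicLoc.isInvertible_pullback g.left hL))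
    have h3 := AbSch51.IsogenyEuler.euler_pullback (𝟙 A ^ (d : ℤ)) (d ^ (2 * r))
      (fun z => by rw [AbSch51.MulDeg.finrank_eq A r hA hdZ z, Int.natAbs_natCast]) L (Cube.Seesaw.isCoh_of_invertible hL)
    rw [h1] at h2
    have hcomp : 𝟙 A ^ (d : ℤ) = h ≫ g := by rw [zpow_natCast]; exact hhg.symm
    rw [hcomp] at h3
    have h4 := (EulerChar.euler_iso K ((Scheme.Modules.pullbackComp h.left g.left).app L)).trans h3
    simp only [Functor.comp_obj] at h4
    rw [h2] at h4
    have h5 : ((d : ℤ) * e) * Curv2.euler K A.left L = ((d ^ (2 * r) : ℕ) : ℤ) * Curv2.euler K A.left L := by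
      rw [← h4]; ring
    exact_mod_cast mul_right_cancel₀ hχ h5
  have he0 : e ≠ 0 := by
    rintro rfl
    rw [mul_zero] at hde
    exact (pow_ne_zero _ (by omega : d ≠ 0)) hde.symm
  set G := LinearMap.toMatrix bB bA (AbDual.tateMapₗ (l := l) (T := pt) g)
  set M := LinearMap.toMatrix bA bB (AbDual.tateMapₗ (l := l) (T := pt) h)
  obtain ⟨hM0, hMle⟩ := valuation_le l h (by omega) hd bA bB
  obtain ⟨hG0, hGle⟩ := valuation_le l g he0 he bB bA
  have hcompT : (AbDual.tateMapₗ (l := l) (T := pt) g).comp (AbDual.tateMapₗ (l := l) (T := pt) h) =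
      (d : ℤ_[l]) • LinearMap.id := by
    refine LinearMap.ext fun x => AbDual.TateMod.ext fun n => ?_
    rw [LinearMap.comp_apply, LinearMap.smul_apply, LinearMap.id_apply, Nat.cast_smul_eq_nsmul]
    show Additive.ofMul (((x : ℕ → Additive (pt ⟶ A)) n).toMul ≫ h ≫ g) = d • (x : ℕ → Additive (pt ⟶ A)) n
    rw [hhg, MonObj.comp_pow, Category.comp_id]
    rfl
  have hdet : G.det * M.det = (d : ℤ_[l]) ^ (2 * r) := by
    rw [← Matrix.det_mul, ← LinearMap.toMatrix_comp bA bB bA, hcompT, map_smul, LinearMap.toMatrix_id,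
      Matrix.det_smul, Matrix.det_one, _root_.mul_one, Fintype.card_fin]
  have hv := congrArg PadicInt.valuation hdet
  have hvd : ((d : ℤ_[l])).valuation = padicValNat l d := by
    have h := Padic.valuation_natCast (p := l) d
    rw [← PadicInt.coe_natCast, PadicInt.valuation_coe] at h
    exact_mod_cast h
  rw [PadicInt.valuation_mul hG0 hM0, PadicInt.valuation_pow, hvd] at hv
  have hv2 : padicValNat l d + padicValNat l e = 2 * r * padicValNat l d := by
    rw [← padicValNat.mul (by omega) he0, hde, padicValNat.pow]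
  show padicValNat l d = (LinearMap.toMatrix bA bB (AbDual.tateMapₗ (l := l) (T := pt) h)).det.valuation
  omega

end Groth.Agent.AbVarLib.DegDet
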