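import Groth.Agent.AbVarLib.PadicRoots
import Groth.Agent.AbVarLib.DegDet
import Groth.Agent.AbVarLib.CharNorm
import Groth.Agent.AbVarLib.TatePoints
import Groth.Agent.S15671
import Groth.Agent.S15674
import Groth.Prelude.Def_EndTate

/-!
# The degree polynomial is the characteristic polynomial of the Tate representation
-/

set_option autoImplicit false
universe u

open CategoryTheory CategoryTheory.Limits MonoidalCategory CartesianMonoidalCategory MonObj AlgebraicGeometry
open Polynomial
open scoped Matrix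

noncomputable section

namespace Groth.Agent.AbVarLib.CharpolyTate

variable {K : Type u} [Field K] [IsAlgClosed K]

local notation "pt" => 𝟙_ (Over (Spec (CommRingCat.of K)))

/-- Products over the roots agree in all algebraically closed fields. -/
theorem prod_roots_transfer {E : Type*} [Field E] [IsAlgClosed E] [CharZero E] (P G : ℤ[X])
    (σ : AlgebraicClosure ℚ →+* E) :
    (((P.map (Int.castRingHom E)).roots.map fun w => aeval w G).prod) =
      σ ((P.map (Int.castRingHom (AlgebraicClosure ℚ))).roots.map fun w => aeval w G).prod := by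
  rw [map_multiset_prod, Multiset.map_map]
  have e : P.map (Int.castRingHom E) = (P.map (Int.castRingHom (AlgebraicClosure ℚ))).map σ := by
    rw [Polynomial.map_map, RingHom.ext_int (σ.comp _) (Int.castRingHom E)]
  rw [e, (IsAlgClosed.splits _).roots_map_of_injective σ.injective, Multiset.map_map]
  refine congrArg Multiset.prod (Multiset.map_congr rfl fun w _ => ?_)
  simp only [Function.comp_apply, aeval_def]
  rw [hom_eval₂, RingHom.ext_int (σ.comp (algebraMap ℤ (AlgebraicClosure ℚ))) (algebraMap ℤ E)]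

set_option synthInstance.maxHeartbeats 400000 in
/-- **Charpoly of the Tate representation.** -/
theorem charpoly_eq {A : Over (Spec (CommRingCat.of K))} [GrpObj A] [IsCommMonObj A] [IsProper A.hom]
    [GeometricallyIntegral A.hom] (l : ℕ) [Fact l.Prime] (hl : (l : K) ≠ 0) (α : A ⟶ A) [IsMonHom α] (P : ℤ[X])
    (hP : ∀ n : ℤ, (IsFinite (α * 𝟙 A ^ (-n)).left →
        ∀ a : A.left, (Scheme.Hom.finrank (α * 𝟙 A ^ (-n)).left a : ℤ) = P.eval n) ∧
      (¬ IsFinite (α * 𝟙 A ^ (-n)).left → P.eval n = 0))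
    [Module.Free ℤ_[l] (AbDual.TateMod A l pt)] [Module.Finite ℤ_[l] (AbDual.TateMod A l pt)] :
    (AbDual.tateMapₗ (l := l) (T := pt) α).charpoly = P.map (Int.castRingHom ℤ_[l]) := by
  classical
  have : IsIntegral A.left := GeometricallyIntegral.isIntegral_of_subsingleton A.hom
  obtain ⟨r, hr⟩ := HomBC.exists_dim A
  obtain ⟨P', hP'm, hP'd, hP'v⟩ := S15674.result K A r hr α
  obtain rfl : P' = P := by
    refine eq_of_infinite_eval_eq _ _ (Set.infinite_univ.mono fun n _ => ?_)
    show P'.eval n = P.eval n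
    by_cases hf : IsFinite (α * 𝟙 A ^ (-n)).left
    · rw [← (hP'v n).1 hf (Classical.arbitrary _), (hP n).1 hf (Classical.arbitrary _)]
    · rw [(hP'v n).2 hf, (hP n).2 hf]
  obtain ⟨b⟩ := TatePoints.exists_basis A l hl r hr
  set φ := EndAV.End.of α
  let ρ := EndAV.End.tateRep (A := A) l pt
  set M := LinearMap.toMatrix b b (ρ φ) with hM
  have hchar : (AbDual.tateMapₗ (l := l) (T := pt) α).charpoly = M.charpoly :=
    (LinearMap.charpoly_toMatrix (ρ φ) b).symm
  rw [hchar]
  obtain ⟨δ, hδ1, hδm, hδv⟩ := CharRoots.exists_delta hr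
  obtain ⟨N, hNm, hNc, hNint, hNR⟩ := CharNorm.exists_norm hr δ hδm hδv φ
  let Ω := PadicAlgCl l
  have : Algebra.IsAlgebraic ℚ (AlgebraicClosure ℚ) := by
    convert AlgebraicClosure.isAlgebraic ℚ
    all_goals first | rfl | exact Subsingleton.elim _ _ | apply Subsingleton.helim
  let σ₁ : AlgebraicClosure ℚ →+* ℂ := (IsAlgClosed.lift (R := ℚ) (S := AlgebraicClosure ℚ) (M := ℂ)).toRingHom
  let σ₂ : AlgebraicClosure ℚ →+* Ω := (IsAlgClosed.lift (R := ℚ) (S := AlgebraicClosure ℚ) (M := Ω)).toRingHom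
  have hN1 : N 1 = 1 := by
    have h := hNint 1
    rwa [Polynomial.map_one, map_one, hδ1, Rat.cast_one] at h
  have hPt : ∀ t : ℂ, N (X - C t) = ((P'.map (Int.castRingHom ℚ)).map (algebraMap ℚ ℂ)).eval t := fun t => by
    have h := hNR X (P'.map (Int.castRingHom ℚ)) (fun n => by
      rw [aeval_X, Polynomial.eval_map, show ((n : ℚ)) = Int.castRingHom ℚ n from rfl, eval₂_at_apply]
      have e : EndAV.End.toHom (φ - (n : EndAV.End A)) = α * 𝟙 A ^ (-n) := by
        rw [EndAV.End.toHom_sub, EndAV.End.toHom_intCast, EndAV.End.toHom_of, div_eq_mul_inv, zpow_neg]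
      have h1 := hδv (φ - (n : EndAV.End A))
      rw [e] at h1
      by_cases hf : IsFinite (α * 𝟙 A ^ (-n)).left
      · rw [← h1.1 hf (Classical.arbitrary _), ← (hP'v n).1 hf (Classical.arbitrary _)]
        simp
      · rw [h1.2 hf, (hP'v n).2 hf]
        simp) t
    rwa [Polynomial.map_X] at h
  have hnorm : ∀ G : ℤ[X],
      (((P'.map (Int.castRingHom Ω)).roots.map fun w => aeval w G).prod) = ((δ (Polynomial.aeval φ G) : ℚ) : Ω) := by
    intro G
    set z := ((P'.map (Int.castRingHom (AlgebraicClosure ℚ))).roots.map fun w => aeval w G).prod with hzdef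
    have h1 := CharNorm.norm_eq_prod hr φ δ N hNm hNc hN1 (P'.map (Int.castRingHom ℚ)) (hP'm.map _)
      (by rw [hP'm.natDegree_map, hP'd]) hPt (G.map (Int.castRingHom ℂ))
    rw [hNint, Polynomial.map_map, RingHom.ext_int ((algebraMap ℚ ℂ).comp (Int.castRingHom ℚ)) (Int.castRingHom ℂ)] at h1
    have h2 : σ₁ z = σ₁ ((δ (Polynomial.aeval φ G) : ℚ) : AlgebraicClosure ℚ) := by
      rw [map_ratCast, h1, hzdef, ← prod_roots_transfer P' G σ₁]
      refine congrArg Multiset.prod (Multiset.map_congr rfl fun w _ => ?_)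
      rw [Polynomial.eval_map, aeval_def, RingHom.ext_int (algebraMap ℤ ℂ) (Int.castRingHom ℂ)]
    exact ((prod_roots_transfer P' G σ₂).trans (congrArg σ₂ (σ₁.injective h2))).trans (map_ratCast σ₂ _)
  have hTG : ∀ G : ℤ[X], LinearMap.toMatrix b b (ρ (Polynomial.aeval φ G)) = aeval M (G.map (Int.castRingHom ℤ_[l])) := by
    intro G
    have e : ρ (Polynomial.aeval φ G) = aeval (ρ φ) (G.map (Int.castRingHom ℤ_[l])) := by
      rw [aeval_def, aeval_def, hom_eval₂, eval₂_map]
      congr 1
      exact RingHom.ext_int _ _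
    rw [e, hM]
    exact (aeval_algHom_apply (LinearMap.toMatrixAlgEquiv b).toAlgHom (ρ φ) _).symm
  have hdetnorm : ∀ G : ℤ[X], ‖((δ (Polynomial.aeval φ G) : ℚ) : ℚ_[l])‖ =
      ‖(aeval M (G.map (Int.castRingHom ℤ_[l]))).det‖ := by
    intro G
    set x := Polynomial.aeval φ G
    rw [← hTG]
    by_cases hf : IsFinite (EndAV.End.toHom x).left
    · have hv := DegDet.valuation_eq l hr hr (EndAV.End.toHom x) b b (Classical.arbitrary _)
      set d := Scheme.Hom.finrank (EndAV.End.toHom x).left (Classical.arbitrary _)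
      have hd : δ x = (d : ℚ) := ((hδv x).1 hf _).symm
      have : Surjective (EndAV.End.toHom x).left := Isogeny.surjective_of_isFinite _ rfl
      have := GrpScheme.HomFlat.flat_of_surjective (EndAV.End.toHom x)
      have : LocallyOfFinitePresentation (EndAV.End.toHom x).left := GrpdLib.GrpOver.lfp_left _
      have hd0 : d ≠ 0 := by
        obtain ⟨z, hz⟩ := (EndAV.End.toHom x).left.surjective (Classical.arbitrary _)
        have := Scheme.Hom.one_le_finrank_map (EndAV.End.toHom x).left z
        rw [hz] at this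
        omega
      obtain ⟨hne, -⟩ := DegDet.valuation_le l (EndAV.End.toHom x) hd0
        (fun y => (EndAV.End.toHom x).left.isLocallyConstant_finrank.apply_eq_of_preconnectedSpace y _) b b
      show _ = ‖((LinearMap.toMatrix b b) (AbDual.tateMapₗ (l := l) (T := pt) (EndAV.End.toHom x))).det‖
      rw [hd, Rat.cast_natCast, Padic.norm_eq_zpow_neg_valuation (Nat.cast_ne_zero.mpr hd0), Padic.valuation_natCast,
        hv, PadicInt.norm_eq_zpow_neg_valuation hne]
    · rw [(hδv x).2 hf, Rat.cast_zero, norm_zero, eq_comm, norm_eq_zero]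
      by_contra hne
      refine hf ((S15671.result K l hl A A (EndAV.End.toHom x)).mpr fun y y' hy => ?_)
      have h1 : LinearMap.toMatrix b b (ρ x) *ᵥ b.repr y = LinearMap.toMatrix b b (ρ x) *ᵥ b.repr y' := by
        rw [LinearMap.toMatrix_mulVec_repr, LinearMap.toMatrix_mulVec_repr]
        exact congrArg (fun z => ⇑(b.repr z)) hy
      exact b.repr.injective (DFunLike.coe_injective
        (sub_eq_zero.mp (Matrix.eq_zero_of_mulVec_eq_zero hne (by rw [Matrix.mulVec_sub, h1, sub_self]))))
  -- compare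
  have hinj : Function.Injective (algebraMap ℤ_[l] ℚ_[l]) := IsFractionRing.injective _ _
  refine Polynomial.map_injective _ hinj (PadicRoots.eq_of_norm _ _ ((Matrix.charpoly_monic M).map _)
    ((hP'm.map _).map _) ?_ fun G => ?_)
  · rw [(Matrix.charpoly_monic M).natDegree_map, Matrix.charpoly_natDegree_eq_dim, Fintype.card_fin,
      (hP'm.map _).natDegree_map, hP'm.natDegree_map, hP'd]
  let ι₂ : ℤ_[l] →+* Ω := (algebraMap ℚ_[l] Ω).comp (algebraMap ℤ_[l] ℚ_[l])
  have hmap : ∀ Z : Multiset Ω, (Z.map fun w => ‖aeval w G‖).prod = ‖(Z.map fun w => aeval w G).prod‖ := fun Z => by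
    induction Z using Multiset.induction_on with
    | empty => simp
    | cons w Z ih => simp [ih]
  rw [hmap, hmap, Polynomial.map_map, Polynomial.map_map, Polynomial.map_map,
    RingHom.ext_int (((algebraMap ℚ_[l] Ω).comp (algebraMap ℤ_[l] ℚ_[l])).comp (Int.castRingHom ℤ_[l])) (Int.castRingHom Ω),
    hnorm, ← Matrix.charpoly_map]
  have hdet := PadicRoots.det_aeval_eq_prod (by rw [Fintype.card_fin]; exact ⟨r, by ring⟩) (M.map ι₂) (G.map (Int.castRingHom Ω))
  have e1 : ((M.map ι₂).charpoly.roots.map fun w => aeval w G) =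
      ((M.map ι₂).charpoly.roots.map fun w => (G.map (Int.castRingHom Ω)).eval w) :=
    Multiset.map_congr rfl fun w _ => by rw [Polynomial.eval_map, aeval_def, RingHom.ext_int (algebraMap ℤ Ω) (Int.castRingHom Ω)]
  rw [e1, ← hdet]
  have e2 : aeval (M.map ι₂) (G.map (Int.castRingHom Ω)) = ι₂.mapMatrix (aeval M (G.map (Int.castRingHom ℤ_[l]))) := by
    rw [aeval_def, aeval_def, eval₂_map, eval₂_map, hom_eval₂]
    congr 1
    exact RingHom.ext_int _ _
  rw [e2, ← RingHom.map_det, ← map_ratCast (algebraMap ℚ_[l] Ω), norm_algebraMap', hdetnorm]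
  show ‖algebraMap ℚ_[l] Ω _‖ = _
  rw [norm_algebraMap']
  rfl

end Groth.Agent.AbVarLib.CharpolyTate
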