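import Groth.Agent.S2385
import Groth.Agent.S0494
import Groth.Agent.CBC.NoethThms
import Groth.Agent.ProjTwist.Pn.PointSupport
import Groth.Agent.ModShf.Flasque

/-!
# Vanishing on fibres and vanishing of cohomology

For `f : X ⟶ Y` proper, `F` coherent and flat over `Y`, with `Y` locally Noetherian and Jacobson:
* if all fibres at closed points have no cohomology, neither has `F`;
* if all fibres at closed points outside a finite set of closed points and `F` itself have no
  cohomology, then no fibre has any.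
-/

set_option autoImplicit false
universe u

open CategoryTheory CategoryTheory.Limits AlgebraicGeometry TopologicalSpace Opposite

noncomputable section

namespace Groth.Agent.AbVarLib.CohFibre

variable {X Y : Scheme.{u}} (f : X ⟶ Y) [IsProper f] [IsLocallyNoetherian Y] [JacobsonSpace Y]
  [HasInjectiveResolutions X.Modules] {F : X.Modules} (hF : Coh.IsCoh F) (hfl : FlatMod.IsFlatOver f F)

/-- A vanishing restriction has vanishing stalks. -/
theorem subsingleton_stalk_of_isZero_restrict {M : Y.Modules} {U : Y.Opens} (h : IsZero (M.restrict U.ι))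
    {y : Y} (hy : y ∈ U) : Subsingleton (M.presheaf.stalk y) := by
  refine subsingleton_of_forall_eq 0 fun t => ?_
  obtain ⟨W, hyW, s, rfl⟩ := M.presheaf.exists_germ_eq t
  let W' : U.toScheme.Opens := U.ι ⁻¹ᵁ W
  have h1 : ∀ z : Γ(M.restrict U.ι, W'), z = 0 := fun z =>
    congr($(congrArg (fun φ => Scheme.Modules.Hom.app φ W') ((IsZero.iff_id_eq_zero _).1 h)) z)
  have hy' : y ∈ U.ι ''ᵁ W' := ⟨⟨y, hy⟩, hyW, rfl⟩
  have hle : U.ι ''ᵁ W' ≤ W := by
    rintro _ ⟨z, hz, rfl⟩; exact hz
  rw [← M.presheaf.germ_res_apply (homOfLE hle) y hy' s]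
  exact (congrArg _ (h1 (M.presheaf.map (homOfLE hle).op s))).trans (map_zero _)

include hF hfl in
/-- The support of a higher direct image lies in the closed set outside of which the fibres vanish. -/
theorem support_Rpush_subset (q : ℕ) {Z : Set Y} (hZ : IsClosed Z)
    (hfib : ∀ y : Y, IsClosed ({y} : Set Y) → y ∉ Z → Subsingleton (CohIII.fiberH f F y q)) :
    CohB1.support ((Coh.Rpush f q).obj F) ⊆ Z := by
  intro x hx
  by_contra hxZ
  have hS := CohDev.isClosed_support (Groth.Agent.S0036.result f F hF q)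
  obtain ⟨y, ⟨hyS, hyZ⟩, hy⟩ := nonempty_inter_closedPoints (Z := CohB1.support ((Coh.Rpush f q).obj F) ∩ Zᶜ)
    ⟨x, hx, hxZ⟩ (hS.isLocallyClosed.inter hZ.isOpen_compl.isLocallyClosed)
  obtain ⟨U, hyU, hU⟩ := Groth.Agent.S2385.result f F hF hfl y q (hfib y hy hyZ)
  exact hyS (subsingleton_stalk_of_isZero_restrict hU hyU)

/-- The cohomology of the source, when all higher direct images have finite support of closed points. -/
theorem nonempty_equiv (hsupp : ∀ q : ℕ, (CohB1.support ((Coh.Rpush f q).obj F)).Finite)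
    (hcl : ∀ q : ℕ, ∀ x ∈ CohB1.support ((Coh.Rpush f q).obj F), IsClosed ({x} : Set Y)) (q : ℕ) :
    Nonempty (Coh.HH X F q ≃+ Γ((Coh.Rpush f q).obj F, ⊤)) := by
  let e := fun q : ℕ => (ModShf.rpushCompToAb f q).app F
  have h : ∀ p q : ℕ, Subsingleton (CohTop.H ((CohTop.Rpush f.base q).obj (Coh.toAb F)) (p + 1)) := by
    intro p q
    have hs : Subsingleton (CohTop.H (Coh.toAb ((Coh.Rpush f q).obj F)) (p + 1)) := @CohTop.Flasque.H_subsingleton Y.toTopCat _ (ProjTwist.Pn.isFlasque_of_finite_support _ (hsupp q) (hcl q)) p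
    exact ⟨fun a b => by
      have hb := hs.elim (Sheaf.H.map (e q).inv (p + 1) a) (Sheaf.H.map (e q).inv (p + 1) b)
      have hh := congrArg (Sheaf.H.map (e q).hom (p + 1)) hb
      rwa [← Sheaf.H.map_comp_apply, ← Sheaf.H.map_comp_apply, (e q).inv_hom_id, Sheaf.H.map_id_apply,
        Sheaf.H.map_id_apply] at hh⟩
  obtain ⟨a⟩ := Groth.Agent.S0494.result f.base (Coh.toAb F) h q
  exact ⟨a.trans (((sheafToPresheaf _ _).mapIso (e q).symm).app (op ⊤)).addCommGroupIsoToAddEquiv⟩

include hF hfl in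
/-- If all fibres at closed points have no cohomology, neither has the module. -/
theorem HH_vanish (hfib : ∀ y : Y, IsClosed ({y} : Set Y) → ∀ q : ℕ, Subsingleton (CohIII.fiberH f F y q))
    (q : ℕ) : Subsingleton (Coh.HH X F q) := by
  have hsupp : ∀ q : ℕ, CohB1.support ((Coh.Rpush f q).obj F) = ∅ := fun q =>
    Set.subset_empty_iff.mp (support_Rpush_subset f hF hfl q isClosed_empty fun y hy _ => hfib y hy q)
  obtain ⟨a⟩ := nonempty_equiv f (F := F) (fun q => by rw [hsupp q]; exact Set.finite_empty)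
    (fun q x hx => by rw [hsupp q] at hx; exact hx.elim) q
  have hz := CohDev.isZero_of_support_eq_empty (hsupp q)
  refine a.toEquiv.subsingleton_congr.2 (subsingleton_of_forall_eq 0 fun x => ?_)
  exact congr($(congrArg (fun φ => Scheme.Modules.Hom.app φ ⊤) ((IsZero.iff_id_eq_zero _).1 hz)) x)

include hF hfl in
/-- If the module has no cohomology and the fibres outside finitely many closed points have none, then no
fibre has any. -/
theorem fibre_vanish {Z : Set Y} (hZ : Z.Finite) (hZc : ∀ z ∈ Z, IsClosed ({z} : Set Y))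
    (hfib : ∀ y : Y, IsClosed ({y} : Set Y) → y ∉ Z → ∀ q : ℕ, Subsingleton (CohIII.fiberH f F y q))
    (hH : ∀ q : ℕ, Subsingleton (Coh.HH X F q)) (y : Y) (i : ℕ) : Subsingleton (CohIII.fiberH f F y i) := by
  have hfin : CBC.FinCoh.{u} := fun A _ _ Z _ _ M hM n => Groth.Agent.S0002.result A Z M hM n
  have hZcl : IsClosed Z := by
    rw [← Set.biUnion_of_singleton Z]
    exact hZ.isClosed_biUnion hZc
  have hsub := fun q => support_Rpush_subset f hF hfl q hZcl fun y hy hyZ => hfib y hy hyZ q
  have hfinS := fun q => hZ.subset (hsub q)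
  have hclS := fun q x (hx : x ∈ CohB1.support ((Coh.Rpush f q).obj F)) => hZc x (hsub q hx)
  have hR : ∀ q : ℕ, IsZero ((Coh.Rpush f q).obj F) := fun q => by
    obtain ⟨a⟩ := nonempty_equiv f hfinS hclS q
    have : Subsingleton Γ((Coh.Rpush f q).obj F, ⊤) := a.toEquiv.subsingleton_congr.1 (hH q)
    have hfl' := ProjTwist.Pn.isFlasque_of_finite_support _ (hfinS q) (hclS q)
    refine CohDev.isZero_of_support_eq_empty (Set.eq_empty_iff_forall_notMem.2 fun x hx => ?_)
    refine hx (subsingleton_of_forall_eq (α := ((Coh.Rpush f q).obj F).presheaf.stalk x) 0 fun t => ?_)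
    obtain ⟨W, hxW, s, rfl⟩ := ((Coh.Rpush f q).obj F).presheaf.exists_germ_eq t
    obtain ⟨g, rfl⟩ := (AddCommGrpCat.epi_iff_surjective _).1
      (hfl'.epi (homOfLE (le_top : W ≤ ⊤)).op) s
    exact (congrArg _ ((congrArg _ (Subsingleton.elim (α := Γ((Coh.Rpush f q).obj F, ⊤)) g 0)).trans
      (map_zero _))).trans (map_zero _)
  have : F.IsQuasicoherent := hF.1
  obtain ⟨_, ⟨V, hV, rfl⟩, hy, -⟩ :=
    Y.isBasis_affineOpens.exists_subset_of_mem_open (Set.mem_univ y) isOpen_univ
  obtain ⟨D, hD⟩ := CBC.exists_model_win hF hfl hfin hV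
  obtain ⟨w⟩ := hD i
  have := w.fp
  have hflat : ∀ (V : Y.Opens), IsAffineOpen V → ∀ (D : CBC.Model f V), ∀ j, 0 ≤ j →
      ∀ w : (D.K F).Win j, Module.Flat Γ(Y, V) (LinearMap.ker w.u) := fun V hV D j _ w => by
    have := CBC.subsingleton_ker_of_isZero hV D w (hR j)
    infer_instance
  have := (CBC.good_of_flat_ker hF hfl hfin hflat (Nat.zero_le i) V hV D w).2
  let x := hV.primeIdealOf ⟨y, hy⟩
  have := CBC.subsingleton_ker_of_isZero hV D w (hR i)
  have : Subsingleton (LinearMap.ker (w.u.baseChange x.asIdeal.ResidueField)) :=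
    (CBC.kerBC_bijective_of_flat w.u x.asIdeal.ResidueField).2.subsingleton
  rw [CBC.subsingleton_fiberH_iff hV y hy D w, CBC.fiberRank_eq hV y hy D w]
  exact Module.finrank_zero_of_subsingleton

example (X : Scheme.{u}) : HasInjectiveResolutions X.Modules := inferInstance

end Groth.Agent.AbVarLib.CohFibre
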