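import Groth.Agent.VarDim.Scheme
import Mathlib.RingTheory.Ideal.KrullsHeightTheorem
import Mathlib.RingTheory.Ideal.MinimalPrime.Noetherian

/-!
# A curve through a closed point leaving a closed subset
-/

set_option autoImplicit false
universe u

open CategoryTheory AlgebraicGeometry

namespace Groth.Agent.AbVarLib.CurveAvoid

/-- Between the zero ideal and a prime of height at least two there is a prime avoiding a given
nonzero ideal. -/
theorem exists_prime_between {D : Type*} [CommRing D] [IsDomain D] [IsNoetherianRing D] {M P₁ I : Ideal D}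
    [M.IsPrime] [P₁.IsPrime] (h₁ : P₁ ≠ ⊥) (h₂ : P₁ < M) (hI : I ≠ ⊥) :
    ∃ Q : Ideal D, Q.IsPrime ∧ Q ≠ ⊥ ∧ Q < M ∧ ¬ I ≤ Q := by
  classical
  have key : ∀ {Q Q₀ : Ideal D} [Q.IsPrime] [Q₀.IsPrime], Q.height ≤ 1 → Q₀ < Q → Q₀ = ⊥ := by
    intro Q Q₀ _ _ hQ hlt
    have h0 : Q₀.height < ((1 : ℕ) : ℕ∞) := Ideal.height_le_iff.mp (by exact_mod_cast hQ) Q₀ inferInstance hlt
    by_contra hne
    have h1 : Q₀.height ≤ ((0 : ℕ) : ℕ∞) := by
      rw [Nat.cast_one, ENat.lt_one_iff_eq_zero] at h0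
      rw [h0]; rfl
    have h3 := Ideal.height_le_iff.mp h1 ⊥ Ideal.isPrime_bot (bot_lt_iff_ne_bot.mpr hne)
    simp at h3
  let S : Finset (Ideal D) := insert ⊥ ((I.finite_minimalPrimes_of_isNoetherianRing D).toFinset.filter (fun q => q < M))
  have hS : ∀ q ∈ S, q.IsPrime ∧ q < M := by
    intro q hq
    rcases Finset.mem_insert.mp hq with rfl | hq
    · exact ⟨Ideal.isPrime_bot, (bot_lt_iff_ne_bot.mpr h₁).trans h₂⟩
    · obtain ⟨hq, hlt⟩ := Finset.mem_filter.mp hq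
      rw [Set.Finite.mem_toFinset] at hq
      exact ⟨hq.1.1, hlt⟩
  obtain ⟨x, hxM, hxS⟩ : ∃ x ∈ M, ∀ q ∈ S, x ∉ q := by
    by_contra h
    simp only [not_exists, not_and, not_forall] at h
    have hsub : (M : Set D) ⊆ ⋃ q ∈ (↑S : Set (Ideal D)), (q : Set D) := fun x hx => by
      obtain ⟨q, hq, hxq⟩ := h x hx
      exact Set.mem_biUnion hq (not_not.mp hxq)
    obtain ⟨q, hq, hle⟩ := (Ideal.subset_union_prime (f := id) (⊥ : Ideal D) ⊥
      fun q hq _ _ => (hS q hq).1).mp hsub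
    exact (hS q hq).2.not_ge hle
  have hx0 : x ≠ 0 := fun h0 => hxS ⊥ (Finset.mem_insert_self _ _) (h0 ▸ zero_mem _)
  obtain ⟨Q, hQ, hQM⟩ := Ideal.exists_minimalPrimes_le (I := Ideal.span {x}) (J := M)
    ((Ideal.span_singleton_le_iff_mem M).mpr hxM)
  have : Q.IsPrime := hQ.1.1
  have hxQ : x ∈ Q := hQ.1.2 (Ideal.mem_span_singleton_self x)
  have hh := Ideal.height_le_one_of_isPrincipal_of_mem_minimalPrimes (Ideal.span {x}) Q hQ
  have hQbot : Q ≠ ⊥ := fun h => hx0 (by rw [h] at hxQ; exact hxQ)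
  have hQlt : Q < M := lt_of_le_of_ne hQM fun h => h₁ (key hh (h ▸ h₂))
  refine ⟨Q, inferInstance, hQbot, hQlt, fun hIQ => ?_⟩
  obtain ⟨Q₀, hQ₀, hle⟩ := Ideal.exists_minimalPrimes_le hIQ
  have : Q₀.IsPrime := hQ₀.1.1
  rcases hle.lt_or_eq with h | h
  · exact hI (le_bot_iff.mp (key hh h ▸ hQ₀.1.2))
  · refine hxS Q₀ (Finset.mem_insert_of_mem (Finset.mem_filter.mpr ⟨?_, h ▸ hQlt⟩)) (h ▸ hxQ)
    rwa [Set.Finite.mem_toFinset]

variable (k : Type u) [Field k] {X : Scheme.{u}} [X.Over (Spec (CommRingCat.of k))]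
  [LocallyOfFiniteType (X ↘ Spec (CommRingCat.of k))]

include k in
/-- A point of dimension one specialising to a given closed point and outside a closed set. -/
theorem exists_height_one {e ξ : X} (hle : e ≤ ξ) {K : Set X} (hK : IsClosed K) (heK : e ∈ K) (hξK : ξ ∉ K) :
    ∃ w : X, e ≤ w ∧ w ∉ K ∧ VarDim.dimPt k X w ≤ VarDim.dimPt k X e + 1 ∧ w ≠ e := by
  classical
  let P : ℕ → Prop := fun n => ∃ w : X, e ≤ w ∧ w ∉ K ∧ VarDim.dimPt k X w = n
  have hP : ∃ n, P n := ⟨_, ξ, hle, hξK, rfl⟩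
  obtain ⟨w, hew, hwK, hw⟩ := Nat.find_spec hP
  have hne : w ≠ e := fun h => hwK (h ▸ heK)
  refine ⟨w, hew, hwK, ?_, hne⟩
  by_contra hbig
  obtain ⟨-, l, hl1, hl2, hl3⟩ := VarDim.exists_ltSeries_of_le k hew
  have hlen : 2 ≤ l.length := by omega
  set y := l ⟨1, by omega⟩
  have hey : e < y := hl1 ▸ l.strictMono (show (0 : Fin (l.length + 1)) < ⟨1, by omega⟩ from Nat.zero_lt_one)
  have hyw : y < w := (l.strictMono (show (⟨1, by omega⟩ : Fin (l.length + 1)) < Fin.last _ from hlen)).trans_le hl2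
  obtain ⟨U, hU, he, -⟩ := exists_isAffineOpen_mem_and_subset (X := X) (x := e) (U := ⊤) trivial
  have hwU : w ∈ U := hew.mem_open U.2 he
  have hyU : y ∈ U := hey.le.mem_open U.2 he
  have := VarDim.finiteType_sections k hU
  have : IsNoetherianRing Γ(X, U) :=
    letI := VarDim.secAlgebra k X U
    Algebra.FiniteType.isNoetherianRing k _
  set p := (hU.primeIdealOf ⟨w, hwU⟩).asIdeal
  have hp : p.IsPrime := (hU.primeIdealOf ⟨w, hwU⟩).isPrime
  let J := PrimeSpectrum.vanishingIdeal (hU.fromSpec ⁻¹' K)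
  have hJ : ∀ (z : X) (hz : z ∈ U), J ≤ (hU.primeIdealOf ⟨z, hz⟩).asIdeal → z ∈ K := by
    intro z hz h
    have h1 : hU.primeIdealOf ⟨z, hz⟩ ∈ closure (hU.fromSpec ⁻¹' K) := by
      exact (Set.ext_iff.mp (PrimeSpectrum.zeroLocus_vanishingIdeal_eq_closure (hU.fromSpec ⁻¹' K)) _).mp h
    have h2 := (hK.preimage hU.fromSpec.continuous).closure_eq.subset h1
    exact (congrArg (· ∈ K) (hU.fromSpec_primeIdealOf ⟨z, hz⟩)).mp h2
  have hle' := fun (a b : X) (ha : a ∈ U) (hb : b ∈ U) => VarDim.primeIdealOf_le_iff hU a b ha hb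
  let π := Ideal.Quotient.mk p
  have hker : ∀ {q : Ideal Γ(X, U)}, p ≤ q → (q.map π).comap π = q := fun {q} hq => by
    rw [Ideal.comap_map_of_surjective _ Ideal.Quotient.mk_surjective, ← RingHom.ker_eq_comap_bot, Ideal.mk_ker,
      sup_eq_left.mpr hq]
  have hpe : p ≤ (hU.primeIdealOf ⟨e, he⟩).asIdeal := (hle' w e hwU he).mpr hew
  have hpy : p ≤ (hU.primeIdealOf ⟨y, hyU⟩).asIdeal := (hle' w y hwU hyU).mpr hyw.le
  have hye : (hU.primeIdealOf ⟨y, hyU⟩).asIdeal ≤ (hU.primeIdealOf ⟨e, he⟩).asIdeal := (hle' y e hyU he).mpr hey.le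
  have hMp : ((hU.primeIdealOf ⟨e, he⟩).asIdeal.map π).IsPrime :=
    Ideal.map_isPrime_of_surjective Ideal.Quotient.mk_surjective (by rwa [Ideal.mk_ker])
  have hYp : ((hU.primeIdealOf ⟨y, hyU⟩).asIdeal.map π).IsPrime :=
    Ideal.map_isPrime_of_surjective Ideal.Quotient.mk_surjective (by rwa [Ideal.mk_ker])
  obtain ⟨Q, hQ, hQbot, hQM, hJQ⟩ := exists_prime_between (D := Γ(X, U) ⧸ p)
    (M := (hU.primeIdealOf ⟨e, he⟩).asIdeal.map π) (P₁ := (hU.primeIdealOf ⟨y, hyU⟩).asIdeal.map π) (I := J.map π)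
    (fun h => hyw.not_ge ((hle' y w hyU hwU).mp (by
      have := congrArg (Ideal.comap π) h
      rw [hker hpy, ← RingHom.ker_eq_comap_bot, Ideal.mk_ker] at this
      exact this.le)))
    (lt_of_le_of_ne (Ideal.map_mono hye) fun h => hey.not_ge ((hle' e y he hyU).mp (by
      have := congrArg (Ideal.comap π) h
      rw [hker hpy, hker hpe] at this
      exact this.ge)))
    (fun h => hwK (hJ w hwU (by rwa [Ideal.map_eq_bot_iff_le_ker, Ideal.mk_ker] at h)))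
  have : (Q.comap π).IsPrime := Ideal.IsPrime.comap π
  obtain ⟨z, hz, hzQ⟩ := VarDim.exists_eq_primeIdealOf hU ⟨Q.comap π, inferInstance⟩
  have hzQ' : (hU.primeIdealOf ⟨z, hz⟩).asIdeal = Q.comap π := congrArg PrimeSpectrum.asIdeal hzQ
  have hez : e ≤ z := (hle' z e hz he).mp (by
    show (hU.primeIdealOf ⟨z, hz⟩).asIdeal ≤ (hU.primeIdealOf ⟨e, he⟩).asIdeal
    rw [hzQ', ← hker hpe]; exact Ideal.comap_mono hQM.le)
  have hzw : z < w := by
    refine lt_iff_le_not_ge.mpr ⟨(hle' w z hwU hz).mp (show p ≤ (hU.primeIdealOf ⟨z, hz⟩).asIdeal by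
      rw [hzQ']; exact fun a ha => by rw [Ideal.mem_comap, Ideal.Quotient.eq_zero_iff_mem.mpr ha]; exact zero_mem _), fun h => hQbot ?_⟩
    have h1 : (hU.primeIdealOf ⟨z, hz⟩).asIdeal ≤ p := (hle' z w hz hwU).mpr h
    rw [hzQ'] at h1
    rw [← Ideal.map_comap_of_surjective π Ideal.Quotient.mk_surjective Q, Ideal.map_eq_bot_iff_le_ker, Ideal.mk_ker]
    exact h1
  have hzK : z ∉ K := fun h => hJQ (by
    rw [← Ideal.map_comap_of_surjective π Ideal.Quotient.mk_surjective Q, ← hzQ']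
    refine Ideal.map_mono fun a ha => ?_
    exact (PrimeSpectrum.mem_vanishingIdeal _ _).mp ha _ (show hU.fromSpec _ ∈ K by rwa [hU.fromSpec_primeIdealOf]))
  exact Nat.find_min hP (hw ▸ VarDim.dimPt_lt_of_lt k hzw) ⟨z, hez, hzK, rfl⟩

end Groth.Agent.AbVarLib.CurveAvoid
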