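import Groth.Agent.AbVarLib.CurveAvoid
import Groth.Agent.AbVarLib.AbSub
import Groth.Agent.AbVarLib.Defect
import Groth.Agent.AbVarLib.CubeCons
import Groth.Agent.EulerChar.AmpleCurve
import Groth.Agent.VarDim.Curve
import Groth.Agent.CycLib.FibreDim
import Groth.Agent.AmpleLib.Functorial
import Groth.Agent.AmpleFam.Pullback
import Groth.Agent.GrpScheme.AVAmple
import Groth.Agent.RedSub.Basic

/-!
# Homomorphisms of abelian varieties are separated by integral functionals

For a homomorphism `φ ≠ 1` there is a curve `C` on which it is not constant; the degree on `C` of the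
pairing with `φ⁻¹` of the class of an ample module is a linear functional not vanishing on `φ`.
-/

set_option autoImplicit false
universe u

open CategoryTheory CategoryTheory.Limits MonoidalCategory CartesianMonoidalCategory MonObj AlgebraicGeometry
open TopologicalSpace

noncomputable section

namespace Groth.Agent.AbVarLib.CurveFunctional

open scoped Groth.Agent.PicLaw
open PicLaw.Mumford (op)

variable {K : Type u} [Field K] [IsAlgClosed K]

local notation "pt" => 𝟙_ (Over (Spec (CommRingCat.of K)))

/-- Two morphisms to a separated scheme agreeing on rational points are equal. -/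
theorem ext_points {A B : Over (Spec (CommRingCat.of K))} [LocallyOfFiniteType A.hom] [IsReduced A.left]
    [IsSeparated B.hom] [LocallyOfFiniteType B.hom] {f g : A ⟶ B} (h : ∀ a : pt ⟶ A, a ≫ f = a ≫ g) : f = g := by
  have : LocallyOfFiniteType (f.left ≫ B.hom) := by rw [Over.w f]; infer_instance
  refine Over.OverMorphism.ext (ext_of_apply_eq B.hom Set.univ isClosed_univ.isLocallyClosed dense_univ
    (fun x _ hx => ?_) (by rw [Over.w f, Over.w g]))
  have e := congrArg (fun m : pt ⟶ B => m.left (IsLocalRing.closedPoint K)) (h (TransInv.ptAt A x hx))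
  have ex : (TransInv.ptAt A x hx).left (IsLocalRing.closedPoint K) = x := pointOfClosedPoint_apply _ _ _ _
  change f.left ((TransInv.ptAt A x hx).left _) = g.left ((TransInv.ptAt A x hx).left _) at e
  rwa [ex] at e

variable {B : Over (Spec (CommRingCat.of K))} [IsProper B.hom]
  {C : Over (Spec (CommRingCat.of K))} [IsProper C.hom] [IsIntegral C.left]
  (hdim : topologicalKrullDim C.left = 1)

include hdim in
/-- A nonconstant morphism from a proper curve is finite. -/
theorem isFinite_of_ne (x : C ⟶ B) {a b : pt ⟶ C} (hab : a ≫ x ≠ b ≫ x) : IsFinite x.left := by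
  have : IsProper (x.left ≫ B.hom) := by rw [Over.w x]; infer_instance
  have : IsProper x.left := IsProper.of_comp x.left B.hom
  have := LocallyOfFiniteType.jacobsonSpace C.hom
  let : C.left.Over (Spec (CommRingCat.of K)) := ⟨C.hom⟩
  have : LocallyOfFiniteType (C.left ↘ Spec (CommRingCat.of K)) := inferInstanceAs (LocallyOfFiniteType C.hom)
  have : CompactSpace C.left := QuasiCompact.compactSpace_of_compactSpace C.hom
  have hclosed : ∀ z : C.left, z ≠ genericPoint C.left → IsClosed ({z} : Set C.left) := fun z hz =>
    VarDim.isClosed_singleton_of_ne_genericPoint K hdim hz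
  have := LocallyQuasiFinite.of_finite_preimage_singleton x.left fun y => by
    by_cases hy : IsClosed ({y} : Set B.left)
    · refine VarDim.finite_of_isClosed K hdim (hy.preimage x.left.continuous) fun hξ => hab ?_
      have hall : ∀ z, x.left z = y := fun z =>
        closure_minimal (t := x.left ⁻¹' {y}) (Set.singleton_subset_iff.mpr hξ) (hy.preimage x.left.continuous)
          ((genericPoint_spec C.left).def.ge (Set.mem_univ z))
      exact AbSub.apply_inj ((hall _).trans (hall _).symm)
    · refine (Set.finite_singleton (genericPoint C.left)).subset fun z hz => ?_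
      by_contra hne
      refine hy ?_
      rw [← show x.left z = y from hz, ← Set.image_singleton]
      exact x.left.isClosedMap _ (hclosed z hne)
  exact IsFinite.of_isProper_of_locallyQuasiFinite _

/-- The degree on the curve of a class. -/
def degC (C : Over (Spec (CommRingCat.of K))) (c : PicLoc.PicSet C.left) : ℤ :=
  letI : C.left.Over (Spec (CommRingCat.of K)) := ⟨C.hom⟩
  Curv2.deg K C.left (PicGrp.exists_eq_cls c).choose 1

theorem degC_cls (N : C.left.Modules) (hN : PicF.IsInvertible N) :
    letI : C.left.Over (Spec (CommRingCat.of K)) := ⟨C.hom⟩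
    degC C (PicGrp.cls N hN) = Curv2.deg K C.left N 1 := by
  let : C.left.Over (Spec (CommRingCat.of K)) := ⟨C.hom⟩
  obtain ⟨hM, e⟩ := (PicGrp.exists_eq_cls (PicGrp.cls N hN)).choose_spec
  obtain ⟨φ⟩ := (PicLaw.iso_iff hN hM).mpr e
  have : IsProper (C.left ↘ Spec (CommRingCat.of K)) := inferInstanceAs (IsProper C.hom)
  exact (EulerChar.deg_iso K φ).symm

include hdim in
theorem degC_mul (c d : PicLoc.PicSet C.left) : degC C (c * d) = degC C c + degC C d := by
  let : C.left.Over (Spec (CommRingCat.of K)) := ⟨C.hom⟩
  have : IsProper (C.left ↘ Spec (CommRingCat.of K)) := inferInstanceAs (IsProper C.hom)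
  obtain ⟨M, hM, rfl⟩ := PicGrp.exists_eq_cls c
  obtain ⟨N, hN, rfl⟩ := PicGrp.exists_eq_cls d
  rw [← PicLaw.cls_tensor hM hN, degC_cls, degC_cls, degC_cls]
  have h : Curv2.deg K C.left (CohB1.tensorMod M N) (1 * 1) =
      (1 : ℕ) * Curv2.deg K C.left N 1 + (1 : ℕ) * Curv2.deg K C.left M 1 :=
    EulerChar.deg_tens K (ProjTwist.isFinLocFreeOfRank_one hM) hdim.le (ProjTwist.isFinLocFreeOfRank_one hN)
  refine h.trans ?_
  push_cast; ring

include hdim in
theorem degC_pos (x : C ⟶ B) {a b : pt ⟶ C} (hab : a ≫ x ≠ b ≫ x) {L : B.left.Modules} (hL : CohB1.IsAmple L) :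
    0 < degC C (op x (PicGrp.cls L hL.1)) := by
  let : C.left.Over (Spec (CommRingCat.of K)) := ⟨C.hom⟩
  have : IsProper (C.left ↘ Spec (CommRingCat.of K)) := inferInstanceAs (IsProper C.hom)
  have := isFinite_of_ne hdim x hab
  have h := AmpleLib.isAmple_pullback_of_qaMor x.left (AmpleFam.Pullback.qaMor_of_isAffineHom x.left) hL
  rw [PicLaw.Mumford.op, ← PicLaw.cls_pullback _ hL.1, degC_cls]
  exact EulerChar.deg_pos_of_isAmple K hdim h

/-- **The functional.** -/
theorem exists_functional {A B : Over (Spec (CommRingCat.of K))} [GrpObj A] [IsProper A.hom]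
    [GeometricallyIntegral A.hom] [GrpObj B] [IsCommMonObj B] [IsProper B.hom] [GeometricallyIntegral B.hom]
    (φ : A ⟶ B) [IsMonHom φ] (hφ : φ ≠ 1) :
    ∃ Λ : (A ⟶ B) →* Multiplicative ℤ, Λ φ ≠ 1 := by
  let : A.left.Over (Spec (CommRingCat.of K)) := ⟨A.hom⟩
  have : LocallyOfFiniteType (A.left ↘ Spec (CommRingCat.of K)) := inferInstanceAs (LocallyOfFiniteType A.hom)
  have : IsIntegral A.left := GeometricallyIntegral.isIntegral_of_subsingleton A.hom
  have := LocallyOfFiniteType.jacobsonSpace A.hom
  let e : pt ⟶ A := 1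
  let p := e.left (IsLocalRing.closedPoint K)
  have hp : IsClosed ({p} : Set A.left) := Slices.isClosed_point e
  let Z : Set A.left := φ.left ⁻¹' {φ.left p}
  have hy : IsClosed ({φ.left p} : Set B.left) := Slices.isClosed_point (e ≫ φ)
  have hZ : IsClosed Z := hy.preimage φ.left.continuous
  have hξ : genericPoint A.left ∉ Z := by
    intro h
    refine hφ (ext_points fun a => ?_)
    have hall : ∀ z, φ.left z = φ.left p := fun z =>
      closure_minimal (t := Z) (Set.singleton_subset_iff.mpr h) hZ
        ((genericPoint_spec A.left).def.ge (Set.mem_univ z))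
    rw [MonObj.comp_one, ← (MonObj.one_comp φ : (1 : pt ⟶ A) ≫ φ = 1)]
    exact AbSub.apply_inj ((hall _).trans (hall _).symm)
  obtain ⟨w, hpw, hwZ, hwd, hwp⟩ := CurveAvoid.exists_height_one K
    (show p ≤ genericPoint A.left from genericPoint_specializes p) hZ rfl hξ
  have hp0 : VarDim.dimPt K A.left p = 0 := by
    have h := VarDim.height_eq_dimPt K p
    rw [show Order.height p = 0 from Order.height_eq_zero.mpr fun y hy => by
      have : y = p := by simpa [hp.closure_eq] using specializes_iff_mem_closure.mp (show p ⤳ y from hy)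
      rw [this]] at h
    exact_mod_cast h.symm
  have hw1 : VarDim.dimPt K A.left w = 1 := by
    have := VarDim.dimPt_lt_of_lt K (lt_of_le_not_ge hpw fun h => hwp (by simpa [hp.closure_eq] using specializes_iff_mem_closure.mp (show p ⤳ w from h)))
    omega
  let W : Closeds A.left := ⟨closure {w}, isClosed_closure⟩
  let I := Scheme.IdealSheafData.vanishingIdeal W
  let C : Over (Spec (CommRingCat.of K)) := Over.mk (I.subschemeι ≫ A.hom)
  let jC : C ⟶ A := Over.homMk I.subschemeι rfl
  have : IsClosedImmersion jC.left := inferInstanceAs (IsClosedImmersion I.subschemeι)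
  have hr : Set.range jC.left = closure {w} := RedSub.range_vanishingIdeal_subschemeι W
  have : IsReduced C.left := RedSub.isReduced_vanishingIdeal W
  have : IrreducibleSpace C.left := by
    have hi : IsIrreducible (Set.range jC.left) := hr ▸ isIrreducible_singleton.closure
    have : IrreducibleSpace (Set.range jC.left) := Subtype.irreducibleSpace hi
    exact jC.left.isEmbedding.toHomeomorph.symm.surjective.irreducibleSpace (Homeomorph.continuous _)
  have : IsIntegral C.left := isIntegral_of_irreducibleSpace_of_isReduced _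
  have : IsProper C.hom := inferInstanceAs (IsProper (I.subschemeι ≫ A.hom))
  have hdim : topologicalKrullDim C.left = 1 := by
    rw [IsHomeomorph.topologicalKrullDim_eq _ jC.left.isEmbedding.toHomeomorph.isHomeomorph, hr,
      CycLib.topologicalKrullDim_closure, VarDim.height_eq_dimPt K w, hw1]
    rfl
  have hne : ∃ a b : pt ⟶ C, a ≫ jC ≫ φ ≠ b ≫ jC ≫ φ := by
    by_contra h
    simp only [not_exists, not_not] at h
    obtain ⟨c, hc⟩ : p ∈ Set.range jC.left := hr ▸ specializes_iff_mem_closure.mp (show w ⤳ p from hpw)
    have hcc : IsClosed ({c} : Set C.left) := by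
      rw [← jC.left.isClosedEmbedding.injective.preimage_image {c}, Set.image_singleton, hc]
      exact hp.preimage jC.left.continuous
    have := LocallyOfFiniteType.jacobsonSpace C.hom
    have hsub : closedPoints C.left ⊆ jC.left ⁻¹' Z := fun z hz => by
      have e' := congrArg (fun m : pt ⟶ B => m.left (IsLocalRing.closedPoint K))
        (h (TransInv.ptAt C z hz) (TransInv.ptAt C c hcc))
      change φ.left (jC.left (pointOfClosedPoint C.hom z hz _)) = φ.left (jC.left (pointOfClosedPoint C.hom c hcc _)) at e'
      rw [pointOfClosedPoint_apply, pointOfClosedPoint_apply, hc] at e'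
      exact e'
    obtain ⟨d, hd⟩ : w ∈ Set.range jC.left := hr ▸ subset_closure rfl
    refine hwZ (hd ▸ closure_minimal hsub (hZ.preimage jC.left.continuous) ?_)
    rw [closure_closedPoints]; trivial
  obtain ⟨a, b, hab⟩ := hne
  obtain ⟨L, hL⟩ := GrpScheme.AVAmple.exists_isAmple B
  let l := PicGrp.cls L hL.1
  let y : C ⟶ B := (jC ≫ φ)⁻¹
  refine ⟨MonoidHom.mk' (fun f => Multiplicative.ofAdd (degC C (Defect.pair l y (jC ≫ f)))) fun f g => ?_, ?_⟩
  · show Multiplicative.ofAdd _ = Multiplicative.ofAdd _
    rw [MonObj.comp_mul, Defect.pair_mul_right, degC_mul hdim]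
    rfl
  · intro h
    change degC C (Defect.pair l y (jC ≫ φ)) = 0 at h
    have h2 := degC_mul hdim (Defect.pair l y (jC ≫ φ)) (op y l * op (jC ≫ φ) l)
    rw [show Defect.pair l y (jC ≫ φ) * (op y l * op (jC ≫ φ) l) = op (y * (jC ≫ φ)) l from div_mul_cancel _ _,
      inv_mul_cancel, CubeCons.op_one, h, zero_add, degC_mul hdim] at h2
    have h1 : degC C (1 : PicLoc.PicSet C.left) = 0 := by
      have := degC_mul hdim (1 : PicLoc.PicSet C.left) 1
      rw [_root_.mul_one] at this; omega
    have p1 : 0 < degC C (op (jC ≫ φ) l) := degC_pos hdim (jC ≫ φ) hab hL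
    have p2 : 0 < degC C (op y l) := degC_pos hdim y (a := a) (b := b) (fun h => hab (by
      simpa [y, GrpObj.comp_inv] using h)) hL
    omega

end Groth.Agent.AbVarLib.CurveFunctional
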