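import Groth.Agent.AbVarLib.Defect
import Groth.Agent.AbVarLib.Rigidity
import Groth.Agent.AbVarLib.H0Field
import Groth.Agent.Cube.Seesaw
import Groth.Agent.GrModLib.RpushVan
import Groth.Agent.AmpCrit.AffineHom
import Mathlib.LinearAlgebra.TensorProduct.Basis

/-!
# Cohomology of a nontrivial primitive invertible module vanishes

For an abelian variety and a class `c` with `(x y)^* c = x^* c · y^* c`, a representative which is not
trivial has no cohomology. The Künneth formula enters as a hypothesis (`Kunneth`).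
-/

set_option autoImplicit false
universe u

open CategoryTheory CategoryTheory.Limits MonoidalCategory CartesianMonoidalCategory MonObj AlgebraicGeometry TensorProduct

noncomputable section

namespace Groth.Agent.AbVarLib.Vanish

open scoped Groth.Agent.PicLaw
open PicLaw.Mumford (op)

variable {k : Type u} [Field k] {A : Over (Spec (CommRingCat.of k))}

/-- What is used of the Künneth formula. -/
def Kunneth (A : Over (Spec (CommRingCat.of k))) : Prop :=
  ∀ (F G : A.left.Modules), PicF.IsInvertible F → PicF.IsInvertible G → ∀ n : ℕ,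
    ((∀ p ≤ n, Subsingleton (Coh.HH A.left F p) ∨ Subsingleton (Coh.HH A.left G (n - p))) →
      Subsingleton (Coh.HH (A ⊗ A).left (CohB1.tensorMod ((Scheme.Modules.pullback (fst A A).left).obj F)
        ((Scheme.Modules.pullback (snd A A).left).obj G)) n)) ∧
    (Nontrivial (Coh.HH A.left F n) → Nontrivial (Coh.HH A.left G 0) →
      Nontrivial (Coh.HH (A ⊗ A).left (CohB1.tensorMod ((Scheme.Modules.pullback (fst A A).left).obj F)
        ((Scheme.Modules.pullback (snd A A).left).obj G)) n))

/-- Vanishing of cohomology passes through pullback along an isomorphism. -/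
theorem subsingleton_HH_pullback_iso {W W' : Scheme.{u}} (e : W ≅ W') {N : W'.Modules}
    (hN : PicF.IsInvertible N) (i : ℕ) (h : Subsingleton (Coh.HH W' N i)) :
    Subsingleton (Coh.HH W ((Scheme.Modules.pullback e.hom).obj N) i) := by
  let M := (Scheme.Modules.pushforward e.inv).obj N
  obtain ⟨a⟩ := GrModLib.nonempty_push_inv_iso e N
  let b : M ≅ (Scheme.Modules.pullback e.hom).obj N :=
    a ≪≫ (Scheme.Modules.restrictFunctorIsoPullback e.hom).app N
  have : M.IsQuasicoherent :=
    (SheafOfModules.isQuasicoherent W.ringCatSheaf).prop_of_iso b.symm (Cube.Seesaw.isCoh_of_invertible (PicLoc.isInvertible_pullback _ hN)).1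
  let c : (Coh.push e.hom).obj M ≅ N :=
    (Scheme.Modules.pushforwardComp e.inv e.hom).app N ≪≫
      (Scheme.Modules.pushforwardCongr e.inv_hom_id).app N ≪≫ (Scheme.Modules.pushforwardId (X := W')).app N
  have := AmpCrit.subsingleton_HH_of_iso c.symm i
  have := GrModLib.subsingleton_HH_of_push e.hom M i
  exact AmpCrit.subsingleton_HH_of_iso b i

section

variable [GrpObj A] [IsProper A.hom] [GeometricallyIntegral A.hom]

theorem isField_Γ : IsField Γ(A.left, ⊤) := by
  have := Rigidity.isIso_appTop A.hom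
  exact ((asIso A.hom.appTop).symm.commRingCatIsoToRingEquiv).toMulEquiv.isField (Rigidity.isField_gammaSpec (K := k))

/-- `H⁰` of the structure module is not zero. -/
theorem nontrivial_H0 : Nontrivial (Coh.HH A.left (Coh.structureModule A.left) 0) := by
  have : IsIntegral A.left := GeometricallyIntegral.isIntegral_of_subsingleton A.hom
  have : Nontrivial (Coh.Γtop A.left) := inferInstanceAs (Nontrivial Γ(A.left, ⊤))
  exact (H0Field.h0Equiv A.left).toEquiv.nontrivial

variable {M : A.left.Modules} (hM : PicF.IsInvertible M)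
  (hprim : op (fst A A * snd A A) (PicGrp.cls M hM) =
    op (fst A A) (PicGrp.cls M hM) * op (snd A A) (PicGrp.cls M hM))

include hM hprim in
theorem op_mul {V : Over (Spec (CommRingCat.of k))} (a b : V ⟶ A) :
    op (a * b) (PicGrp.cls M hM) = op a (PicGrp.cls M hM) * op b (PicGrp.cls M hM) := by
  have h := congrArg (op (lift a b)) hprim
  simpa only [map_mul, ← PicLaw.Mumford.op_comp, MonObj.comp_mul, lift_fst, lift_snd] using h

include hM hprim in
theorem op_inv : op (𝟙 A)⁻¹ (PicGrp.cls M hM) = (PicGrp.cls M hM)⁻¹ := by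
  refine eq_inv_of_mul_eq_one_left ?_
  have h := op_mul hM hprim (𝟙 A)⁻¹ (𝟙 A)
  rw [inv_mul_cancel, CubeCons.op_one] at h
  rw [show op (𝟙 A) (PicGrp.cls M hM) = PicGrp.cls M hM from PicLaw.pl_id _] at h
  exact h.symm

include hM hprim in
/-- A nontrivial primitive module has no nonzero section. -/
theorem subsingleton_H0 (hnt : ¬ Nonempty (M ≅ Coh.structureModule A.left)) :
    Subsingleton (Coh.HH A.left M 0) := by
  by_contra hs
  have : IsIntegral A.left := GeometricallyIntegral.isIntegral_of_subsingleton A.hom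
  have h0 : Nontrivial (Coh.HH A.left M 0) := not_subsingleton_iff_nontrivial.mp hs
  let ι' : A.left ≅ A.left := ⟨(𝟙 A)⁻¹.left, (𝟙 A)⁻¹.left,
    by rw [← Over.comp_left, GrpObj.comp_inv, Category.comp_id, inv_inv]; rfl,
    by rw [← Over.comp_left, GrpObj.comp_inv, Category.comp_id, inv_inv]; rfl⟩
  let N := (Scheme.Modules.pullback ι'.hom).obj M
  have hN : PicF.IsInvertible N := PicLoc.isInvertible_pullback _ hM
  have hNc : PicGrp.cls N hN = (PicGrp.cls M hM)⁻¹ := (PicLaw.cls_pullback _ hM).trans (op_inv hM hprim)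
  have hN0 : Nontrivial (Coh.HH A.left N 0) := by
    by_contra hN0
    have h1 : Subsingleton (Coh.HH A.left ((Scheme.Modules.pullback ι'.inv).obj N) 0) :=
      subsingleton_HH_pullback_iso ι'.symm hN 0 (not_nontrivial_iff_subsingleton.mp hN0)
    have h2 : Subsingleton (Coh.HH A.left M 0) := AmpCrit.subsingleton_HH_of_iso ((Scheme.Modules.pullbackComp ι'.inv ι'.hom).app M ≪≫
      (Scheme.Modules.pullbackCongr ι'.inv_hom_id).app M ≪≫ (Scheme.Modules.pullbackId A.left).app M) 0
      (M := (Scheme.Modules.pullback ι'.inv).obj N)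
    exact not_subsingleton _ h2
  refine hnt (Cube.Seesaw.iso_of_sections isField_Γ hM hN ?_ ?_ ?_)
  · refine (PicGrp.cls_eq_one_iff (PicLaw.isInvertible_tensor hM hN)).mp ?_
    rw [PicLaw.cls_tensor hM hN, hNc, mul_inv_cancel]
  · exact (Sheaf.H.equiv₀ (Coh.toAb M) isTerminalTop).toEquiv.symm.nontrivial
  · exact (Sheaf.H.equiv₀ (Coh.toAb N) isTerminalTop).toEquiv.symm.nontrivial

include hM hprim in
/-- **Vanishing.** -/
theorem subsingleton_HH (K : Kunneth A) (hnt : ¬ Nonempty (M ≅ Coh.structureModule A.left)) (n : ℕ) :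
    Subsingleton (Coh.HH A.left M n) := by
  induction n using Nat.strong_induction_on with
  | _ n IH => ?_
  by_contra hn
  rw [not_subsingleton_iff_nontrivial] at hn
  have : IsIntegral A.left := GeometricallyIntegral.isIntegral_of_subsingleton A.hom
  have hO : PicF.IsInvertible (Coh.structureModule A.left) := PicLoc.isInvertible_structureModule A.left
  obtain ⟨-, hB⟩ := K M (Coh.structureModule A.left) hM hO n
  obtain ⟨hA, -⟩ := K M M hM hM n
  have h0 := subsingleton_H0 hM hprim hnt
  have h1 := hA fun p hp => by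
    rcases hp.lt_or_eq with h | h
    · exact Or.inl (IH p h)
    · right; rw [h, Nat.sub_self]; exact h0
  -- the automorphism `(x, y) ↦ (x y⁻¹, y)`, undone by `(x, y) ↦ (x y, y)`
  let θ : (A ⊗ A) ⟶ A ⊗ A := lift (fst A A * (snd A A)⁻¹) (snd A A)
  let θ' : (A ⊗ A) ⟶ A ⊗ A := lift (fst A A * snd A A) (snd A A)
  let e : (A ⊗ A).left ≅ (A ⊗ A).left := ⟨θ.left, θ'.left,
    by
      rw [← Over.comp_left]
      refine congrArg CommaMorphism.left (?_ : θ ≫ θ' = 𝟙 _)
      apply CartesianMonoidalCategory.hom_ext <;> simp [θ, θ', MonObj.comp_mul, GrpObj.comp_inv],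
    by
      rw [← Over.comp_left]
      refine congrArg CommaMorphism.left (?_ : θ' ≫ θ = 𝟙 _)
      apply CartesianMonoidalCategory.hom_ext <;> simp [θ, θ', MonObj.comp_mul, GrpObj.comp_inv]⟩
  let P := fun (F G : A.left.Modules) => CohB1.tensorMod ((Scheme.Modules.pullback (fst A A).left).obj F)
    ((Scheme.Modules.pullback (snd A A).left).obj G)
  have hP : ∀ {F G : A.left.Modules}, PicF.IsInvertible F → PicF.IsInvertible G → PicF.IsInvertible (P F G) :=
    fun hF hG => PicLaw.isInvertible_tensor (PicLoc.isInvertible_pullback _ hF) (PicLoc.isInvertible_pullback _ hG)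
  have h2 := subsingleton_HH_pullback_iso e (hP hM hM) n h1
  obtain ⟨φ⟩ : Nonempty ((Scheme.Modules.pullback e.hom).obj (P M M) ≅ P M (Coh.structureModule A.left)) := by
    refine (PicLaw.iso_iff (PicLoc.isInvertible_pullback _ (hP hM hM)) (hP hM hO)).mpr ?_
    rw [PicLaw.cls_pullback _ (hP hM hM), PicLaw.cls_tensor (PicLoc.isInvertible_pullback _ hM) (PicLoc.isInvertible_pullback _ hM),
      PicLaw.cls_tensor (PicLoc.isInvertible_pullback _ hM) (PicLoc.isInvertible_pullback _ hO), PicLaw.cls_pullback _ hM,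
      PicLaw.cls_pullback _ hM, PicLaw.cls_pullback _ hO,
      (PicGrp.cls_eq_one_iff hO).mpr ⟨Iso.refl _⟩, map_one, _root_.mul_one]
    show op θ (op (fst A A) (PicGrp.cls M hM) * op (snd A A) (PicGrp.cls M hM)) = op (fst A A) (PicGrp.cls M hM)
    rw [map_mul, ← PicLaw.Mumford.op_comp, ← PicLaw.Mumford.op_comp, lift_fst, lift_snd, op_mul hM hprim,
      _root_.mul_assoc, ← op_mul hM hprim, inv_mul_cancel, CubeCons.op_one, _root_.mul_one]
  have h3 := AmpCrit.subsingleton_HH_of_iso φ n
  have := hB hn nontrivial_H0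
  exact not_subsingleton (Coh.HH (A ⊗ A).left (P M (Coh.structureModule A.left)) n) h3

end

end Groth.Agent.AbVarLib.Vanish
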