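import Groth.Agent.S2443
import Groth.Agent.AbVarLib.Vanish
import Groth.Agent.AlgSpB.FieldPoints
import Mathlib.LinearAlgebra.TensorProduct.Basis

/-!
# The Künneth formula over a field, as used for abelian varieties
-/

set_option autoImplicit false
universe u

open CategoryTheory CategoryTheory.Limits MonoidalCategory CartesianMonoidalCategory AlgebraicGeometry TensorProduct

noncomputable section

namespace Groth.Agent.AbVarLib.KunnethField

variable {k : Type u} [Field k]

open scoped DirectSum in
theorem kunneth (A : Over (Spec (CommRingCat.of k))) [IsProper A.hom] : Vanish.Kunneth A := by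
  intro F G hF hG n
  letI : A.left.Over (Spec (CommRingCat.of k)) := ⟨A.hom⟩
  have : IsSeparated (A.left ↘ Spec (CommRingCat.of k)) := inferInstanceAs (IsSeparated A.hom)
  have : QuasiCompact (A.left ↘ Spec (CommRingCat.of k)) := inferInstanceAs (QuasiCompact A.hom)
  have : Flat A.hom := (IsZariskiLocalAtSource.iff_of_openCover (P := @Flat) A.left.affineCover).2 fun i =>
    AlgSpB.flat_of_field (A.left.affineCover.f i ≫ A.hom)
  have : Coh.IsQCoh F := (Cube.Seesaw.isCoh_of_invertible hF).1
  have : Coh.IsQCoh G := (Cube.Seesaw.isCoh_of_invertible hG).1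
  obtain ⟨e⟩ := Groth.Agent.S2443.result k A.left A.left F G (Cube.Seesaw.isFlatOver_of_invertible A.hom hF)
    (fun _ => inferInstance) n
  refine ⟨fun h => ?_, fun h1 h2 => ?_⟩
  · refine @Equiv.subsingleton _ _ e.toEquiv ⟨fun a b => DFinsupp.ext fun pq => ?_⟩
    have hle : pq.1.1 ≤ n := Finset.HasAntidiagonal.antidiagonal.fst_le pq.2
    have heq : n - pq.1.1 = pq.1.2 := by
      have := Finset.HasAntidiagonal.mem_antidiagonal.mp pq.2
      omega
    rcases h pq.1.1 hle with h | h
    · exact (inferInstance : Subsingleton _).elim _ _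
    · rw [heq] at h
      exact (inferInstance : Subsingleton _).elim _ _
  · let pq : Finset.HasAntidiagonal.antidiagonal n := ⟨(n, 0), Finset.HasAntidiagonal.mem_antidiagonal.mpr rfl⟩
    obtain ⟨x, hx⟩ := exists_ne (0 : Coh.HH A.left F n)
    obtain ⟨y, hy⟩ := exists_ne (0 : Coh.HH A.left G 0)
    refine ⟨e.symm (DirectSum.of (fun pq : Finset.HasAntidiagonal.antidiagonal n =>
      Coh.HH A.left F pq.1.1 ⊗[k] Coh.HH A.left G pq.1.2) pq (x ⊗ₜ[k] y)), 0, fun h => ?_⟩
    have h0 := (e.symm.injective (h.trans (map_zero e.symm).symm))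
    have h1 : x ⊗ₜ[k] y = (0 : Coh.HH A.left F n ⊗[k] Coh.HH A.left G 0) := by
      have := DirectSum.of_injective (β := fun pq : Finset.HasAntidiagonal.antidiagonal n =>
        Coh.HH A.left F pq.1.1 ⊗[k] Coh.HH A.left G pq.1.2) pq (h0.trans (map_zero _).symm)
      exact this
    obtain ⟨φ, hφ⟩ := Module.Projective.exists_dual_ne_zero k hx
    obtain ⟨ψ, hψ⟩ := Module.Projective.exists_dual_ne_zero k hy
    have h2 := congrArg (TensorProduct.lift ((LinearMap.mul k k).compl₁₂ φ ψ)) h1
    simp [TensorProduct.lift.tmul, hφ, hψ] at h2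

end Groth.Agent.AbVarLib.KunnethField
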