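import Groth.Agent.AbVarLib.MumfordSurj
import Groth.Agent.AbVarLib.KerAmple
import Groth.Agent.AbVarLib.KunnethField
import Groth.Agent.GrpScheme.AVAmple
import Groth.Prelude.Def_Pic13

/-!
# The classes `φ_l(a)` are algebraically equivalent to zero, and exhaust the primitive classes
-/

set_option autoImplicit false
universe u

open CategoryTheory MonoidalCategory CartesianMonoidalCategory MonObj AlgebraicGeometry

noncomputable section

namespace Groth.Agent.AbVarLib.PhiFamily

open scoped Groth.Agent.PicLaw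
open PicLaw (pl)
open PicLaw.Mumford (op)

variable {K : Type u} [Field K] [IsAlgClosed K]
  {A : Over (Spec (CommRingCat.of K))} [GrpObj A] [IsProper A.hom] [GeometricallyIntegral A.hom]

/-- A module of class `φ_l(u)` is algebraically equivalent to zero. -/
theorem isAlgEquivZero (l : PicLoc.PicSet A.left) (u : 𝟙_ (Over (Spec (CommRingCat.of K))) ⟶ A)
    {N : A.left.Modules} (hN : PicF.IsInvertible N) (h : PicGrp.cls N hN = MumfordSurj.phi l u) :
    @Pic13.IsAlgEquivZero K _ A.left ⟨A.hom⟩ N := by
  let : A.left.Over (Spec (CommRingCat.of K)) := ⟨A.hom⟩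
  obtain ⟨P, hP, hPc⟩ := PicGrp.exists_eq_cls (Defect.pair l (fst A A) (snd A A))
  have hslice : ∀ (t : 𝟙_ (Over (Spec (CommRingCat.of K))) ⟶ A) (ht : t.left ≫ A.hom = 𝟙 _),
      PicGrp.cls (Pic13.fibreMod K A.left A.hom t.left ht P) (PicLoc.isInvertible_pullback _ hP) =
        MumfordSurj.phi l t := fun t ht => by
    have key : (lift (𝟙 A) (toUnit A ≫ t)).left = Pic13.sliceAt K A.left A.hom t.left ht := by
      refine Limits.pullback.hom_ext ?_ ?_
      · exact (congrArg CommaMorphism.left (lift_fst (𝟙 A) (toUnit A ≫ t))).trans (Limits.pullback.lift_fst _ _ _).symm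
      · exact (congrArg CommaMorphism.left (lift_snd (𝟙 A) (toUnit A ≫ t))).trans (Limits.pullback.lift_snd _ _ _).symm
    refine ((PicLaw.cls_pullback _ hP).trans (congrArg (fun q => PicLaw.pl q (PicGrp.cls P hP)) key.symm)).trans ?_
    show PicLaw.Mumford.op (lift (𝟙 A) (toUnit A ≫ t)) _ = _
    rw [← hPc, Defect.op_pair, lift_fst, lift_snd, MumfordSurj.pair_const]
  have : IsIntegral A.left := GeometricallyIntegral.isIntegral_of_subsingleton A.hom
  refine ⟨A.left, A.hom, inferInstance, inferInstance, inferInstance, P, hP, u.left, (η[A]).left, Over.w u,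
    Over.w η[A], ?_, ?_⟩
  · exact (PicLaw.iso_iff (PicLoc.isInvertible_pullback _ hP) hN).mpr ((hslice u (Over.w u)).trans h.symm)
  · refine (PicGrp.cls_eq_one_iff (PicLoc.isInvertible_pullback _ hP)).mp ((hslice η[A] (Over.w η[A])).trans ?_)
    rw [MumfordSurj.phi, div_eq_one, ← Hom.one_def, _root_.mul_one]
    exact PicLaw.pl_id _

/-- For an ample `L` every primitive class is a `φ_L(a)`. -/
theorem exists_phi_of_isAmple {L : A.left.Modules} (hL : CohB1.IsAmple L) (m : PicLoc.PicSet A.left)
    (hm : op (fst A A * snd A A) m = op (fst A A) m * op (snd A A) m) :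
    ∃ a : 𝟙_ (Over (Spec (CommRingCat.of K))) ⟶ A, MumfordSurj.phi (PicGrp.cls L hL.1) a = m := by
  obtain ⟨a, ha⟩ := MumfordSurj.exists_phi (PicGrp.cls L hL.1) (KunnethField.kunneth A)
    ((KerAmple.finite_ker hL).subset fun a ha => show Defect.pair _ _ _ = 1 from
      (MumfordSurj.pair_const _ a).trans (div_eq_one.mpr ha)) m hm
  exact ⟨a, div_eq_iff_eq_mul.mpr ha⟩

/-- A homomorphism carries translations to translations. -/
theorem op_phi {B : Over (Spec (CommRingCat.of K))} [GrpObj B] [IsProper B.hom] [GeometricallyIntegral B.hom]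
    (α : A ⟶ B) [IsMonHom α] (l : PicLoc.PicSet B.left) (a : 𝟙_ (Over (Spec (CommRingCat.of K))) ⟶ A) :
    op α (MumfordSurj.phi l (a ≫ α)) = MumfordSurj.phi (op α l) a := by
  rw [← MumfordSurj.pair_const, ← MumfordSurj.pair_const, Defect.op_pair, Category.comp_id, ← Category.assoc,
    toUnit_unique (α ≫ toUnit B) (toUnit A), ← Category.assoc]
  simp only [Defect.pair, ← PicLaw.Mumford.op_comp, MonObj.mul_comp, Category.id_comp]

end Groth.Agent.AbVarLib.PhiFamily
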