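import Groth.Agent.AbVarLib.AbSub
import Groth.Agent.AbVarLib.PhiFamily
import Groth.Agent.AbVarLib.KunnethField
import Groth.Agent.EulerFam.AlgEquiv

/-!
# A degenerate class has Euler characteristic zero

If infinitely many translations fix `l`, an abelian subvariety `Y` pairs trivially with the variety; for a
primitive `m` nontrivial on `Y` the class `l·m` then has no cohomology.
-/

set_option autoImplicit false
universe u

open CategoryTheory CategoryTheory.Limits MonoidalCategory CartesianMonoidalCategory MonObj AlgebraicGeometry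
open TensorProduct

noncomputable section

namespace Groth.Agent.AbVarLib.Degenerate

open scoped Groth.Agent.PicLaw
open PicLaw (pl)
open PicLaw.Mumford (op)

variable {K : Type u} [Field K]

local notation "pt" => 𝟙_ (Over (Spec (CommRingCat.of K)))

/-- A class with trivial slices over the points of the second factor and on one horizontal section is
trivial. -/
theorem eq_one_of_slices [IsAlgClosed K] {X Y : Over (Spec (CommRingCat.of K))} [IsProper X.hom]
    [GeometricallyIntegral X.hom] [LocallyOfFiniteType Y.hom] [IsReduced Y.left]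
    (c : PicLoc.PicSet (X ⊗ Y).left) (x₀ : pt ⟶ X)
    (hs : ∀ y : pt ⟶ Y, op (lift (𝟙 X) (toUnit X ≫ y)) c = 1)
    (h0 : op (lift (toUnit Y ≫ x₀) (𝟙 Y)) c = 1) : c = 1 := by
  let π := (snd X Y).left
  have : IsProper π := Cube.Local.isProper_snd X Y
  have : Flat π := Cube.Local.flat_snd X Y
  have : GeometricallyIntegral π := show GeometricallyIntegral (pullback.snd X.hom Y.hom) from inferInstance
  have : GeometricallyConnected π := FBase.BC.geometricallyConnected_of_geometricallyIrreducible π
  have : IsLocallyNoetherian Y.left := LocallyOfFiniteType.isLocallyNoetherian Y.hom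
  have : JacobsonSpace Y.left := LocallyOfFiniteType.jacobsonSpace Y.hom
  obtain ⟨N, hN, hNc⟩ := PicGrp.exists_eq_cls c
  have hclosed := Cube.Seesaw.isClosed_trivial π hN fun w => inferInstance
  have hfib : ∀ w : Y.left, Nonempty (CohIII.fiberMod π N w ≅ Coh.structureModule (π.fiber w)) := by
    intro w
    have hsub : closedPoints Y.left ⊆ {w | Nonempty (CohIII.fiberMod π N w ≅ Coh.structureModule (π.fiber w))} :=
      fun w hw => by
        refine (PicGrp.cls_eq_one_iff (PicLoc.isInvertible_pullback _ hN)).mp ?_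
        rw [PicLaw.cls_pullback _ hN, ← hNc]
        exact (Slices.fibre_iff_slice c w hw).mpr (hs _)
    have := hclosed.closure_subset_iff.mpr hsub
    rw [closure_closedPoints] at this
    exact this (Set.mem_univ w)
  obtain ⟨N', hN', hNN'⟩ := (Cube.Seesaw.pullback_iff_fibres π
    (Cube.Seesaw.finrank_eq_one_of_geometrically π) hN).mpr hfib
  have hcn : c = op (snd X Y) (PicGrp.cls N' hN') := by
    rw [hNc, PicLaw.Mumford.op, ← PicLaw.cls_pullback _ hN', PicGrp.cls_eq_cls_iff]
    exact ⟨hNN'.some.symm⟩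
  rw [hcn, ← PicLaw.Mumford.op_comp, lift_snd] at h0
  rw [hcn, (PicLaw.pl_id _).symm.trans h0, map_one]

/-- What is used of the Künneth formula, for two factors. -/
theorem kunneth₂ (X Y : Over (Spec (CommRingCat.of K))) [IsProper X.hom] [IsProper Y.hom]
    {F : X.left.Modules} {G : Y.left.Modules} (hF : PicF.IsInvertible F) (hG : PicF.IsInvertible G) (n : ℕ) :
    ((∀ p ≤ n, Subsingleton (Coh.HH X.left F p) ∨ Subsingleton (Coh.HH Y.left G (n - p))) →
      Subsingleton (Coh.HH (X ⊗ Y).left (CohB1.tensorMod ((Scheme.Modules.pullback (fst X Y).left).obj F)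
        ((Scheme.Modules.pullback (snd X Y).left).obj G)) n)) ∧
    (Nontrivial (Coh.HH X.left F 0) → Nontrivial (Coh.HH Y.left G n) →
      Nontrivial (Coh.HH (X ⊗ Y).left (CohB1.tensorMod ((Scheme.Modules.pullback (fst X Y).left).obj F)
        ((Scheme.Modules.pullback (snd X Y).left).obj G)) n)) := by
  let : X.left.Over (Spec (CommRingCat.of K)) := ⟨X.hom⟩
  let : Y.left.Over (Spec (CommRingCat.of K)) := ⟨Y.hom⟩
  have : IsSeparated (X.left ↘ Spec (CommRingCat.of K)) := inferInstanceAs (IsSeparated X.hom)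
  have : QuasiCompact (X.left ↘ Spec (CommRingCat.of K)) := inferInstanceAs (QuasiCompact X.hom)
  have : IsSeparated (Y.left ↘ Spec (CommRingCat.of K)) := inferInstanceAs (IsSeparated Y.hom)
  have : QuasiCompact (Y.left ↘ Spec (CommRingCat.of K)) := inferInstanceAs (QuasiCompact Y.hom)
  have : Flat X.hom := (IsZariskiLocalAtSource.iff_of_openCover (P := @Flat) X.left.affineCover).2 fun i =>
    AlgSpB.flat_of_field (X.left.affineCover.f i ≫ X.hom)
  have : Coh.IsQCoh F := (Cube.Seesaw.isCoh_of_invertible hF).1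
  have : Coh.IsQCoh G := (Cube.Seesaw.isCoh_of_invertible hG).1
  obtain ⟨e⟩ := Groth.Agent.S2443.result K X.left Y.left F G (Cube.Seesaw.isFlatOver_of_invertible X.hom hF)
    (fun _ => inferInstance) n
  refine ⟨fun h => ?_, fun h1 h2 => ?_⟩
  · refine @Equiv.subsingleton _ _ e.toEquiv ⟨fun a b => DFinsupp.ext fun pq => ?_⟩
    have hle : pq.1.1 ≤ n := Finset.HasAntidiagonal.antidiagonal.fst_le pq.2
    have heq : n - pq.1.1 = pq.1.2 := by
      have := Finset.HasAntidiagonal.mem_antidiagonal.mp pq.2
      omega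
    rcases h pq.1.1 hle with h | h
    · exact (inferInstance : Subsingleton _).elim _ _
    · rw [heq] at h
      exact (inferInstance : Subsingleton _).elim _ _
  · let pq : Finset.HasAntidiagonal.antidiagonal n := ⟨(0, n), Finset.HasAntidiagonal.mem_antidiagonal.mpr (Nat.zero_add n)⟩
    obtain ⟨x, hx⟩ := exists_ne (0 : Coh.HH X.left F 0)
    obtain ⟨y, hy⟩ := exists_ne (0 : Coh.HH Y.left G n)
    refine ⟨e.symm (DirectSum.of (fun pq : Finset.HasAntidiagonal.antidiagonal n =>
      Coh.HH X.left F pq.1.1 ⊗[K] Coh.HH Y.left G pq.1.2) pq (x ⊗ₜ[K] y)), 0, fun h => ?_⟩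
    have h0 := (e.symm.injective (h.trans (map_zero e.symm).symm))
    have h1 : x ⊗ₜ[K] y = (0 : Coh.HH X.left F 0 ⊗[K] Coh.HH Y.left G n) :=
      DirectSum.of_injective (β := fun pq : Finset.HasAntidiagonal.antidiagonal n =>
        Coh.HH X.left F pq.1.1 ⊗[K] Coh.HH Y.left G pq.1.2) pq (h0.trans (map_zero _).symm)
    obtain ⟨φ, hφ⟩ := Module.Projective.exists_dual_ne_zero K hx
    obtain ⟨ψ, hψ⟩ := Module.Projective.exists_dual_ne_zero K hy
    have h2 := congrArg (TensorProduct.lift ((LinearMap.mul K K).compl₁₂ φ ψ)) h1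
    simp [TensorProduct.lift.tmul, hφ, hψ] at h2

variable [IsAlgClosed K] {X : Over (Spec (CommRingCat.of K))} [GrpObj X] [IsProper X.hom] [GeometricallyIntegral X.hom]

set_option maxHeartbeats 1000000 in
/-- **Degenerate classes have Euler characteristic zero.** -/
theorem euler_eq_zero {L : X.left.Modules} (hL : PicF.IsInvertible L)
    (hinf : Set.Infinite {a : pt ⟶ X | MumfordSurj.phi (PicGrp.cls L hL) a = 1}) :
    @Curv2.euler K _ X.left ⟨X.hom⟩ L = 0 := by
  set l := PicGrp.cls L hL with hl
  let : X.left.Over (Spec (CommRingCat.of K)) := ⟨X.hom⟩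
  have : IsProper (X.left ↘ Spec (CommRingCat.of K)) := inferInstanceAs (IsProper X.hom)
  have hphi : ∀ a b : pt ⟶ X, MumfordSurj.phi l (a * b) = MumfordSurj.phi l a * MumfordSurj.phi l b := fun a b => by
    rw [← MumfordSurj.pair_const, MonObj.comp_mul, Defect.pair_mul_right, MumfordSurj.pair_const, MumfordSurj.pair_const]
  have hphi1 : MumfordSurj.phi l 1 = 1 := by rw [← MumfordSurj.pair_const, MonObj.comp_one, Defect.pair_one_right]
  let S : Subgroup (pt ⟶ X) :=
    { carrier := {a | MumfordSurj.phi l a = 1}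
      mul_mem' := fun {a b} ha hb => by
        show MumfordSurj.phi l (a * b) = 1
        rw [hphi, show MumfordSurj.phi l a = 1 from ha, show MumfordSurj.phi l b = 1 from hb, _root_.one_mul]
      one_mem' := hphi1
      inv_mem' := fun {a} ha => by
        have h := hphi a a⁻¹
        rw [mul_inv_cancel, hphi1, show MumfordSurj.phi l a = 1 from ha, _root_.one_mul] at h
        exact h.symm }
  obtain ⟨Y, _, i, hi, hci, hYp, hYi, hYinf, hYS⟩ := AbSub.exists_abelian S hinf
  have : IsIntegral Y.left := GeometricallyIntegral.isIntegral_of_subsingleton Y.hom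
  have : IsIntegral X.left := GeometricallyIntegral.isIntegral_of_subsingleton X.hom
  obtain ⟨Z, hZ, hmem⟩ := Slices.exists_closed (X := X) (Y := X) (Defect.pair l (fst X X) (snd X X))
  have hker : ∀ a, a.left (IsLocalRing.closedPoint K) ∈ Z ↔ MumfordSurj.phi l a = 1 := fun a => by
    rw [hmem a, Defect.op_pair, lift_fst, lift_snd, MumfordSurj.pair_const]
  have hy : ∀ y : pt ⟶ Y, MumfordSurj.phi l (y ≫ i) = 1 := fun y => (hker _).mp (by
    refine closure_minimal ?_ hZ (hYS y)
    rintro _ ⟨a, ha, rfl⟩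
    exact (hker a).mpr ha)
  -- `l` pairs trivially with `Y`
  have hE : Defect.pair l (fst X Y) (snd X Y ≫ i) = 1 := by
    refine eq_one_of_slices _ (1 : pt ⟶ X) (fun y => ?_) ?_
    · rw [Defect.op_pair, lift_fst, lift_snd_assoc, Category.assoc, MumfordSurj.pair_const, hy]
    · rw [Defect.op_pair, lift_fst, MonObj.comp_one, Defect.pair_comm, Defect.pair_one_right]
  -- a primitive class not trivial on `Y`
  obtain ⟨H, hH⟩ := GrpScheme.AVAmple.exists_isAmple X
  set h := PicGrp.cls H hH.1 with hh
  obtain ⟨a, ha⟩ : ∃ a : pt ⟶ X, op i (MumfordSurj.phi h a) ≠ 1 := by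
    by_contra hall
    simp only [not_exists, not_not] at hall
    have hF : Defect.pair h (fst Y X ≫ i) (snd Y X) = 1 := by
      refine eq_one_of_slices _ (1 : pt ⟶ Y) (fun x => ?_) ?_
      · have h1 := hall x
        rw [← MumfordSurj.pair_const, Defect.op_pair, Category.comp_id, ← Category.assoc,
          toUnit_unique (i ≫ toUnit X) (toUnit Y)] at h1
        rw [Defect.op_pair, lift_fst_assoc, Category.id_comp, lift_snd]
        exact h1
      · rw [Defect.op_pair, lift_fst_assoc, MonObj.comp_one, MonObj.one_comp, Defect.pair_comm, Defect.pair_one_right]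
    have hsub : Function.Injective fun y : pt ⟶ Y =>
        (⟨y ≫ i, by
          have h1 := congrArg (op (lift (toUnit X ≫ y) (𝟙 X))) hF
          rw [Defect.op_pair, lift_fst_assoc, lift_snd, map_one, Defect.pair_comm, Category.assoc] at h1
          exact h1⟩ : KerAmple.ker h) := fun y y' e => by
      have : Mono i.left := inferInstance
      have : Mono i := Over.mono_of_mono_left _
      exact (cancel_mono i).mp (congrArg Subtype.val e)
    have := (KerAmple.finite_ker hH).to_subtype
    exact not_finite_iff_infinite.mpr hYinf (Finite.of_injective _ hsub)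
  obtain ⟨a, ha'⟩ : ∃ a : pt ⟶ X, op i l * op i (MumfordSurj.phi h a) ≠ 1 := by
    by_cases hc : op i l = 1
    · exact ⟨a, by rwa [hc, _root_.one_mul]⟩
    · refine ⟨1, ?_⟩
      rwa [show MumfordSurj.phi h 1 = 1 by rw [← MumfordSurj.pair_const, MonObj.comp_one, Defect.pair_one_right],
        map_one, _root_.mul_one]
  obtain ⟨M, hM, hMc⟩ := PicGrp.exists_eq_cls (MumfordSurj.phi h a)
  have hmp : op (fst X X * snd X X) (PicGrp.cls M hM) =
      op (fst X X) (PicGrp.cls M hM) * op (snd X X) (PicGrp.cls M hM) := by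
    rw [← hMc]; exact MumfordSurj.phi_primitive h a
  have hLM := PicLaw.isInvertible_tensor hL hM
  have hc' : PicGrp.cls _ hLM = l * MumfordSurj.phi h a := by rw [PicLaw.cls_tensor hL hM, ← hMc]
  set L' := CohB1.tensorMod L M with hL'
  -- restriction to `Y`
  let LY := (Scheme.Modules.pullback i.left).obj L'
  have hLY : PicF.IsInvertible LY := PicLoc.isInvertible_pullback _ hLM
  have hLYc : PicGrp.cls LY hLY = op i l * op i (MumfordSurj.phi h a) := by
    rw [PicLaw.cls_pullback _ hLM, hc', map_mul]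
  have hEab : ∀ {V : Over (Spec (CommRingCat.of K))} (x : V ⟶ X) (y : V ⟶ Y), Defect.pair l x (y ≫ i) = 1 :=
    fun x y => by
      have h1 := congrArg (op (lift x y)) hE
      rwa [Defect.op_pair, lift_fst, lift_snd_assoc, map_one] at h1
  have hmul : ∀ {V : Over (Spec (CommRingCat.of K))} (x : V ⟶ X) (y : V ⟶ Y),
      op (x * (y ≫ i)) (PicGrp.cls _ hLM) = op x (PicGrp.cls _ hLM) * op (y ≫ i) (PicGrp.cls _ hLM) := fun {V} x y => by
    have h1 := div_eq_one.mp (show op (x * (y ≫ i)) l / (op x l * op (y ≫ i) l) = 1 from hEab x y)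
    have h2 := Vanish.op_mul hM hmp x (y ≫ i)
    rw [← hMc] at h2
    rw [hc', map_mul, map_mul, map_mul, h1, h2, _root_.mul_mul_mul_comm]
  have hYprim : op (fst Y Y * snd Y Y) (PicGrp.cls LY hLY) =
      op (fst Y Y) (PicGrp.cls LY hLY) * op (snd Y Y) (PicGrp.cls LY hLY) := by
    rw [PicLaw.cls_pullback _ hLM]
    show op _ (op i _) = op _ (op i _) * op _ (op i _)
    rw [← PicLaw.Mumford.op_comp, ← PicLaw.Mumford.op_comp, ← PicLaw.Mumford.op_comp, MonObj.mul_comp]
    exact hmul (fst Y Y ≫ i) (snd Y Y)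
  -- two cases
  have hvan : (¬ Nonempty (LY ≅ Coh.structureModule Y.left)) → ∀ n, Subsingleton (Coh.HH X.left L' n) := by
    intro hnt n
    induction n using Nat.strong_induction_on with
    | _ n IH => ?_
    by_contra hn
    rw [not_subsingleton_iff_nontrivial] at hn
    have hO : PicF.IsInvertible (Coh.structureModule Y.left) := PicLoc.isInvertible_structureModule Y.left
    have hzero := fun p => Vanish.subsingleton_HH hLY hYprim (KunnethField.kunneth Y) hnt p
    have h1 := (kunneth₂ Y X hLY hLM n).1 fun p _ => Or.inl (hzero p)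
    have h2 := (kunneth₂ Y X hO hLM n).2 Vanish.nontrivial_H0 hn
    let θ : Y ⊗ X ⟶ Y ⊗ X := lift (fst Y X) ((fst Y X ≫ i) * snd Y X)
    let θ' : Y ⊗ X ⟶ Y ⊗ X := lift (fst Y X) ((fst Y X ≫ i)⁻¹ * snd Y X)
    let e : (Y ⊗ X).left ≅ (Y ⊗ X).left := ⟨θ'.left, θ.left,
      by
        rw [← Over.comp_left]
        refine congrArg CommaMorphism.left (?_ : θ' ≫ θ = 𝟙 _)
        apply CartesianMonoidalCategory.hom_ext <;> simp [θ, θ', MonObj.comp_mul],
      by
        rw [← Over.comp_left]
        refine congrArg CommaMorphism.left (?_ : θ ≫ θ' = 𝟙 _)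
        apply CartesianMonoidalCategory.hom_ext <;> simp [θ, θ', MonObj.comp_mul, GrpObj.comp_inv]⟩
    let P := fun (F : Y.left.Modules) => CohB1.tensorMod ((Scheme.Modules.pullback (fst Y X).left).obj F)
      ((Scheme.Modules.pullback (snd Y X).left).obj L')
    have hP : ∀ {F : Y.left.Modules}, PicF.IsInvertible F → PicF.IsInvertible (P F) := fun hF =>
      PicLaw.isInvertible_tensor (PicLoc.isInvertible_pullback _ hF) (PicLoc.isInvertible_pullback _ hLM)
    have h3 := Vanish.subsingleton_HH_pullback_iso e (hP hLY) n h1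
    obtain ⟨φ⟩ : Nonempty ((Scheme.Modules.pullback e.hom).obj (P LY) ≅ P (Coh.structureModule Y.left)) := by
      refine (PicLaw.iso_iff (PicLoc.isInvertible_pullback _ (hP hLY)) (hP hO)).mpr ?_
      rw [PicLaw.cls_pullback _ (hP hLY), PicLaw.cls_tensor (PicLoc.isInvertible_pullback _ hLY) (PicLoc.isInvertible_pullback _ hLM),
        PicLaw.cls_tensor (PicLoc.isInvertible_pullback _ hO) (PicLoc.isInvertible_pullback _ hLM),
        PicLaw.cls_pullback _ hLY, PicLaw.cls_pullback _ hLM, PicLaw.cls_pullback _ hLM, PicLaw.cls_pullback _ hO,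
        (PicGrp.cls_eq_one_iff hO).mpr ⟨Iso.refl _⟩, map_one, _root_.one_mul]
      show op θ' (op (fst Y X) (op i (PicGrp.cls _ hLM)) * op (snd Y X) (PicGrp.cls _ hLM)) =
        op (snd Y X) (PicGrp.cls _ hLM)
      rw [map_mul, ← PicLaw.Mumford.op_comp, ← PicLaw.Mumford.op_comp, ← PicLaw.Mumford.op_comp, lift_fst, lift_snd,
        _root_.mul_comm, ← hmul]
      have hcomm := GrpScheme.AVComm.isCommMonObj X
      rw [_root_.mul_comm (fst Y X ≫ i)⁻¹, _root_.mul_assoc, inv_mul_cancel, _root_.mul_one]
    have h4 := @AmpCrit.subsingleton_HH_of_iso _ _ _ φ n h3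
    exact not_subsingleton (Coh.HH (Y ⊗ X).left (P (Coh.structureModule Y.left)) n) h4
  have heuler : ∀ (N : X.left.Modules), (∀ n, Subsingleton (Coh.HH X.left N n)) → Curv2.euler K X.left N = 0 :=
    fun N hN => finsum_eq_zero_of_forall_eq_zero fun n => by
      have := hN n
      simp [Module.finrank_zero_of_subsingleton]
  have hnt : ¬ Nonempty (LY ≅ Coh.structureModule Y.left) := fun e => by
    have h1 := (PicGrp.cls_eq_one_iff hLY).mpr e
    rw [hLYc] at h1
    exact ha' h1
  rw [← EulerFam.euler_tensor_of_isAlgEquivZero (PhiFamily.isAlgEquivZero h a hM hMc.symm)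
    (Cube.Seesaw.isCoh_of_invertible hL)]
  exact heuler _ (hvan hnt)

end Groth.Agent.AbVarLib.Degenerate
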