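import Mathlib.LinearAlgebra.FreeModule.Finite.Quotient
import Mathlib.LinearAlgebra.Determinant
import Mathlib.NumberTheory.Padics.RingHoms

/-!
# The index of the image of an injective map of lattices
-/

set_option autoImplicit false

noncomputable section

namespace Groth.Agent.AbVarLib.DetCard

variable {l : ℕ} [Fact l.Prime]

theorem card_quot_span {x : ℤ_[l]} (hx : x ≠ 0) :
    Nat.card (ℤ_[l] ⧸ Ideal.span ({x} : Set ℤ_[l])) = l ^ x.valuation := by
  have h : Ideal.span ({x} : Set ℤ_[l]) = RingHom.ker (PadicInt.toZModPow (p := l) x.valuation) := by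
    rw [PadicInt.ker_toZModPow]
    conv_lhs => rw [PadicInt.unitCoeff_spec hx]
    exact Ideal.span_singleton_mul_left_unit (Units.isUnit _) _
  rw [h]
  rw [Nat.card_congr (RingHom.quotientKerEquivOfSurjective (ZMod.ringHom_surjective
    (PadicInt.toZModPow (p := l) x.valuation))).toEquiv, Nat.card_zmod]

theorem card_quot_range {M N ι : Type*} [AddCommGroup M] [AddCommGroup N] [Module ℤ_[l] M] [Module ℤ_[l] N]
    [Fintype ι] [DecidableEq ι] (bM : Module.Basis ι ℤ_[l] M) (bN : Module.Basis ι ℤ_[l] N)
    (f : M →ₗ[ℤ_[l]] N) (hf : Function.Injective f) :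
    Matrix.det (LinearMap.toMatrix bM bN f) ≠ 0 ∧
      Nat.card (N ⧸ LinearMap.range f) = l ^ (Matrix.det (LinearMap.toMatrix bM bN f)).valuation := by
  classical
  let R := LinearMap.range f
  let e : M ≃ₗ[ℤ_[l]] R := LinearEquiv.ofInjective f hf
  have h : Module.finrank ℤ_[l] R = Module.finrank ℤ_[l] N := by
    rw [← e.finrank_eq, Module.finrank_eq_card_basis bM, Module.finrank_eq_card_basis bN]
  let bot := Submodule.smithNormalFormBotBasis bN h
  let top := Submodule.smithNormalFormTopBasis bN h
  let a := Submodule.smithNormalFormCoeffs bN h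
  let b' := bot.map e.symm
  have hb' : ∀ i, f (b' i) = a i • top i := fun i => by
    have h1 : ((e (b' i) : R) : N) = a i • top i := by
      rw [show e (b' i) = bot i by simp [b']]
      exact Submodule.smithNormalFormBotBasis_def bN h i
    exact h1
  have hdiag : LinearMap.toMatrix b' top f = Matrix.diagonal a := by
    ext i j
    rw [LinearMap.toMatrix_apply, hb', map_smul, Finsupp.smul_apply, Module.Basis.repr_self, Finsupp.single_apply,
      smul_eq_mul]
    rcases eq_or_ne i j with rfl | hij
    · simp
    · rw [Matrix.diagonal_apply_ne _ hij, if_neg (Ne.symm hij), mul_zero]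
  have hprod := basis_toMatrix_mul_linearMap_toMatrix_mul_basis_toMatrix (b := bM) (b' := b') (c := bN) (c' := top) f
  have hdet := congrArg Matrix.det hprod
  rw [Matrix.det_mul, Matrix.det_mul, hdiag, Matrix.det_diagonal] at hdet
  have hu1 : IsUnit (bN.toMatrix top).det :=
    IsUnit.of_mul_eq_one (top.toMatrix bN).det (by rw [← Matrix.det_mul, Module.Basis.toMatrix_mul_toMatrix_flip, Matrix.det_one])
  have hu2 : IsUnit (b'.toMatrix bM).det :=
    IsUnit.of_mul_eq_one (bM.toMatrix b').det (by rw [← Matrix.det_mul, Module.Basis.toMatrix_mul_toMatrix_flip, Matrix.det_one])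
  have hne : ∀ i, a i ≠ 0 := Submodule.smithNormalFormCoeffs_ne_zero bN h
  have hp0 : ∏ i, a i ≠ 0 := Finset.prod_ne_zero_iff.mpr fun i _ => hne i
  have hD : Matrix.det (LinearMap.toMatrix bM bN f) ≠ 0 := by
    rw [← hdet]; exact mul_ne_zero (mul_ne_zero hu1.ne_zero hp0) hu2.ne_zero
  refine ⟨hD, ?_⟩
  have hval : (Matrix.det (LinearMap.toMatrix bM bN f)).valuation = ∑ i, (a i).valuation := by
    have hu : ∀ {u : ℤ_[l]}, IsUnit u → u.valuation = 0 := fun {u} hu => by
      obtain ⟨v, hv⟩ := hu.exists_right_inv
      have h1 := congrArg PadicInt.valuation hv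
      rw [PadicInt.valuation_mul hu.ne_zero (fun hv0 => one_ne_zero (α := ℤ_[l]) (by rw [← hv, hv0, mul_zero])),
        PadicInt.valuation_one] at h1
      omega
    rw [← hdet, PadicInt.valuation_mul (mul_ne_zero hu1.ne_zero hp0) hu2.ne_zero,
      PadicInt.valuation_mul hu1.ne_zero hp0, hu hu1, hu hu2, zero_add, add_zero]
    have : ∀ s : Finset ι, (∏ i ∈ s, a i).valuation = ∑ i ∈ s, (a i).valuation := fun s => by
      induction s using Finset.induction_on with
      | empty => simp
      | insert j s hj ih =>
        rw [Finset.prod_insert hj, Finset.sum_insert hj,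
          PadicInt.valuation_mul (hne j) (Finset.prod_ne_zero_iff.mpr fun i _ => hne i), ih]
    exact this _
  rw [Nat.card_congr (Submodule.quotientEquivPiSpan R bN h).toEquiv, Nat.card_pi, hval,
    ← Finset.prod_pow_eq_pow_sum]
  exact Finset.prod_congr rfl fun i _ => card_quot_span (hne i)

end Groth.Agent.AbVarLib.DetCard
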