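import Groth.Agent.AbVarLib.EffAmple
import Groth.Agent.AbVarLib.Basics
import Groth.Agent.GrpScheme.AVComm
import Groth.Agent.GrpScheme.DivSection
import Groth.Agent.PerfSch.DescSec
import Groth.Agent.CurveDVR.Stalk
import Groth.Agent.RegLoc.UFD
import Groth.Agent.S1684
import Groth.Agent.S16188
import Groth.Agent.AbVarLib.AbSub

/-!
# A curve disjoint from a prime divisor: translations by differences of its points fix the divisor
-/

set_option autoImplicit false
universe u

open CategoryTheory CategoryTheory.Limits MonoidalCategory CartesianMonoidalCategory MonObj AlgebraicGeometry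
open TopologicalSpace

noncomputable section

namespace Groth.Agent.AbVarLib.DivisorCurve

open scoped Groth.Agent.PicLaw
open PicLaw.Mumford (op)
open Groth.Agent.QCoh Groth.Agent.Props.GenLocus Groth.Agent.Props.GenPull

variable {K : Type u} [Field K] [IsAlgClosed K]
  {A : Over (Spec (CommRingCat.of K))} [GrpObj A] [IsProper A.hom] [GeometricallyIntegral A.hom]

local notation "pt" => 𝟙_ (Over (Spec (CommRingCat.of K)))

/-- The point of a `K`-point. -/
abbrev ev {V : Over (Spec (CommRingCat.of K))} (q : pt ⟶ V) : V.left := q.left (IsLocalRing.closedPoint K)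

/-- If `L²` is trivial on a proper integral `B` and some translate of `B` meets the vanishing locus of a section
of `L`, then that translate lies in it. -/
theorem mem_of_mem {B : Over (Spec (CommRingCat.of K))} [IsProper B.hom] [IsIntegral B.left]
    (j : B ⟶ A) {L : A.left.Modules} (hL : PicF.IsInvertible L) (s : Coh.structureModule A.left ⟶ CohB1.tensorPow L 1)
    (hU : (CohB1.genLocus (CohB1.tensorPow L 1) s : Set A.left).Nonempty)
    (hj : op j (PicGrp.cls L hL) * op j (PicGrp.cls L hL) = 1) (b b' : pt ⟶ B) (q : pt ⟶ A)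
    (h : ev ((b ≫ j) * q) ∉ CohB1.genLocus _ s) : ev ((b' ≫ j) * q) ∉ CohB1.genLocus _ s := by
  obtain ⟨hP, eP⟩ := GrpScheme.PowPullback.cls_tensorPow hL 1
  rw [pow_one] at eP
  let g : B ⟶ A := j * (toUnit B ≫ q)
  have hg : op g (PicGrp.cls _ hP) = 1 :=
    EffAmple.op_translate_eq_one hP s hU j (by rw [eP]; exact hj) b q
  rw [eP, PicLaw.Mumford.op, ← PicLaw.cls_pullback _ hL] at hg
  have hL' := PicLoc.isInvertible_pullback g.left hL
  obtain ⟨s', hs', -⟩ := exists_pull g.left hL s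
  obtain ⟨hP', eP'⟩ := GrpScheme.PowPullback.cls_tensorPow hL' 1
  rw [pow_one, hg] at eP'
  obtain ⟨φ⟩ := (PicGrp.cls_eq_one_iff hP').mp eP'
  obtain ⟨e, he⟩ := PerfSch.DescSec.exists_isGen_of_iso φ.symm
  obtain ⟨f, hf, -⟩ := he.exists_eq le_rfl (sec s' ⊤)
  rw [res_self] at hf
  have hgen := genLocus_inf he s' (f := f) hf
  rw [inf_top_eq, hs'] at hgen
  have hev : ∀ x : pt ⟶ B, ev ((x ≫ j) * q) = g.left (ev x) := fun x => by
    have e : x ≫ g = (x ≫ j) * q := by
      rw [MonObj.comp_mul, ← Category.assoc x (toUnit B), toUnit_unique (x ≫ toUnit B) (𝟙 _), Category.id_comp]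
    rw [← e]; rfl
  rw [hev] at h ⊢
  by_cases hf0 : f = 0
  · rw [hf0, Scheme.basicOpen_zero] at hgen
    exact fun h' => (hgen.le h').elim
  · exfalso
    obtain ⟨f', hf'⟩ := (isField_of_universallyClosed (K := K) B.hom).mul_inv_cancel hf0
    rw [B.left.basicOpen_of_isUnit ⟨⟨f, f', hf', by rw [mul_comm]; exact hf'⟩, rfl⟩] at hgen
    exact h (hgen.ge trivial)

/-- A section generating along `B` trivialises its module there. -/
theorem op_eq_one {B : Over (Spec (CommRingCat.of K))}
    (j : B ⟶ A) {L : A.left.Modules} (hL : PicF.IsInvertible L) (s : Coh.structureModule A.left ⟶ CohB1.tensorPow L 1)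
    (hdisj : ∀ w, j.left w ∈ CohB1.genLocus _ s) : op j (PicGrp.cls L hL) = 1 := by
  obtain ⟨hP, eP⟩ := GrpScheme.PowPullback.cls_tensorPow hL 1
  rw [pow_one] at eP
  rw [← eP, PicLaw.Mumford.op, ← PicLaw.cls_pullback _ hP, PicGrp.cls_eq_one_iff]
  obtain ⟨σ, hσ⟩ := EffAmple.exists_sec_pullback j.left s
  have htop : j.left ⁻¹ᵁ CohB1.genLocus _ s = ⊤ := top_le_iff.mp fun w _ => hdisj w
  rw [htop, res_self] at hσ
  exact ⟨(PerfSch.DescSec.nonempty_iso_of_isGen hσ).some.symm⟩

/-- Translation by a difference of points of a curve disjoint from a prime divisor fixes it. -/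
theorem mul_mem [Smooth A.hom] {Δ : Set A.left} (hΔ : IsClosed Δ) {ξ : A.left} (hξ : closure {ξ} = Δ)
    (hcodim : ringKrullDim (A.left.presheaf.stalk ξ) = 1)
    {C : Set A.left} (hC : IsClosed C) (hCirr : IsIrreducible C) (hdisj : Disjoint C Δ)
    (x y z : pt ⟶ A) (hx : ev x ∈ C) (hy : ev y ∈ C) (hz : ev z ∈ Δ) : ev (x * y⁻¹ * z) ∈ Δ := by
  have : IsIntegral A.left := GeometricallyIntegral.isIntegral_of_subsingleton A.hom
  have : IsLocallyNoetherian A.left := LocallyOfFiniteType.isLocallyNoetherian A.hom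
  let D : A.left.IdealSheafData := Scheme.IdealSheafData.vanishingIdeal ⟨Δ, hΔ⟩
  have hΔirr : IsIrreducible Δ := hξ ▸ isIrreducible_singleton.closure
  have : IsIntegral D.subscheme := S16188.isIntegral_subscheme _ hΔirr
  have hDr : Set.range D.subschemeι = Δ := RedSub.range_vanishingIdeal_subschemeι _
  have hgp : D.subschemeι (genericPoint ↥D.subscheme) = ξ := by
    have h1 := (genericPoint_spec ↥D.subscheme).image D.subschemeι.continuous
    rw [Set.image_univ, hDr, hΔ.closure_eq] at h1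
    exact h1.eq (isGenericPoint_def.mpr hξ)
  have hCart : BlowUp.IsEffCartierIdeal D := S1684.result A.left D (hgp.symm ▸ hcodim) fun w _ => by
    have := CurveDVR.isRegularLocalRing_stalk A.hom w
    exact ⟨inferInstance, RegLoc.UFD.uniqueFactorizationMonoid _⟩
  obtain ⟨L, s, hL, hs⟩ := GrpScheme.DivSection.exists_section D hCart
  have hmem : ∀ w, w ∈ CohB1.genLocus _ s ↔ w ∉ Δ := fun w => by
    rw [← SetLike.mem_coe, hs, Set.mem_compl_iff, Scheme.IdealSheafData.coe_support_vanishingIdeal]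
    exact Iff.rfl
  let I : A.left.IdealSheafData := Scheme.IdealSheafData.vanishingIdeal ⟨C, hC⟩
  let B : Over (Spec (CommRingCat.of K)) := Over.mk (I.subschemeι ≫ A.hom)
  let j : B ⟶ A := Over.homMk I.subschemeι rfl
  have : IsIntegral B.left := S16188.isIntegral_subscheme _ hCirr
  have : IsProper B.hom := inferInstanceAs (IsProper (I.subschemeι ≫ A.hom))
  have hr : Set.range j.left = C := RedSub.range_vanishingIdeal_subschemeι _
  have hd : ∀ w, j.left w ∈ CohB1.genLocus _ s := fun w =>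
    (hmem _).mpr (Set.disjoint_left.mp hdisj (hr.subset ⟨w, rfl⟩))
  have hlift : ∀ p : pt ⟶ A, ev p ∈ C → ∃ b : pt ⟶ B, b ≫ j = p := fun p hp => by
    obtain ⟨w, hw⟩ := hr.symm.subset hp
    have hwc : IsClosed ({w} : Set B.left) := by
      have hinj : Function.Injective j.left := I.subschemeι.isClosedEmbedding.injective
      rw [← hinj.preimage_image {w}, Set.image_singleton]
      exact (hw.symm ▸ Slices.isClosed_point p : IsClosed ({j.left w} : Set A.left)).preimage j.left.continuous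
    exact ⟨TransInv.ptAt B w hwc, AbSub.apply_inj ((congrArg j.left (pointOfClosedPoint_apply B.hom w hwc _)).trans hw)⟩
  obtain ⟨bx, hbx⟩ := hlift x hx
  obtain ⟨by', hby⟩ := hlift y hy
  have := mem_of_mem j hL s ⟨_, hd (ev bx)⟩ (by rw [op_eq_one j hL s hd, _root_.one_mul]) by' bx (y⁻¹ * z) (by rw [hby, mul_inv_cancel_left, hmem, not_not]; exact hz)
  rw [hbx, hmem, not_not, ← _root_.mul_assoc] at this
  exact this

theorem ev_comp {V W : Over (Spec (CommRingCat.of K))} (p : pt ⟶ V) (f : V ⟶ W) : ev (p ≫ f) = f.left (ev p) := by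
  exact Scheme.Hom.comp_apply p.left f.left _

omit [GrpObj A] [IsProper A.hom] [GeometricallyIntegral A.hom] in
theorem preimage_eq_of_inverse [LocallyOfFiniteType A.hom] {Δ : Set A.left} (hΔ : IsClosed Δ) (f g : A ⟶ A)
    (hfg : f ≫ g = 𝟙 A) (hf : ∀ p : pt ⟶ A, ev p ∈ Δ → ev (p ≫ f) ∈ Δ) (hg : ∀ p : pt ⟶ A, ev p ∈ Δ → ev (p ≫ g) ∈ Δ) :
    f.left.base ⁻¹' Δ = Δ := by
  have : JacobsonSpace A.left := LocallyOfFiniteType.jacobsonSpace A.hom
  have hsub : ∀ f : A ⟶ A, (∀ p : pt ⟶ A, ev p ∈ Δ → ev (p ≫ f) ∈ Δ) → Δ ⊆ f.left ⁻¹' Δ := by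
    intro f hf
    refine (closure_inter_closedPoints hΔ).superset.trans ((hΔ.preimage f.left.continuous).closure_subset_iff.mpr ?_)
    rintro w ⟨hw, hwc⟩
    have hp : ev (TransInv.ptAt A w hwc) = w := pointOfClosedPoint_apply _ _ _ _
    have h := hf (TransInv.ptAt A w hwc) (hp.symm ▸ hw)
    rw [ev_comp, hp] at h
    exact h
  refine Set.Subset.antisymm (fun w hw => ?_) (hsub f hf)
  have h : g.left (f.left w) ∈ Δ := hsub g hg hw
  rw [← Scheme.Hom.comp_apply, ← Over.comp_left, hfg] at h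
  exact h

/-- The preimage form. -/
theorem preimage_eq [Smooth A.hom] {Δ : Set A.left} (hΔ : IsClosed Δ) {ξ : A.left} (hξ : closure {ξ} = Δ)
    (hcodim : ringKrullDim (A.left.presheaf.stalk ξ) = 1)
    {C : Set A.left} (hC : IsClosed C) (hCirr : IsIrreducible C) (hdisj : Disjoint C Δ)
    (x y : pt ⟶ A) (hx : ev x ∈ C) (hy : ev y ∈ C) :
    (𝟙 A * (toUnit A ≫ (x * y⁻¹))).left.base ⁻¹' Δ = Δ := by
  have := GrpScheme.AVComm.isCommMonObj A
  have hev : ∀ p q : pt ⟶ A, p ≫ (𝟙 A * (toUnit A ≫ q)) = p * q := fun p q => by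
    rw [MonObj.comp_mul, Category.comp_id, ← Category.assoc, toUnit_unique (p ≫ toUnit A) (𝟙 _), Category.id_comp]
  refine preimage_eq_of_inverse hΔ _ (𝟙 A * (toUnit A ≫ (y * x⁻¹))) ?_ (fun p hp => ?_) (fun p hp => ?_)
  · rw [MonObj.comp_mul, Category.comp_id, ← Category.assoc,
      toUnit_unique ((𝟙 A * (toUnit A ≫ (x * y⁻¹))) ≫ toUnit A) (toUnit A), _root_.mul_assoc, ← MonObj.comp_mul,
      _root_.mul_assoc x, inv_mul_cancel_left, mul_inv_cancel, MonObj.comp_one, _root_.mul_one]
  · rw [hev, mul_comm]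
    exact mul_mem hΔ hξ hcodim hC hCirr hdisj x y p hx hy hp
  · rw [hev, mul_comm]
    exact mul_mem hΔ hξ hcodim hC hCirr hdisj y x p hy hx hp

end Groth.Agent.AbVarLib.DivisorCurve
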