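import Groth.Agent.Props.GenLocus

/-!
# A nonzero section of an invertible module on an integral scheme generates somewhere
-/

set_option autoImplicit false
universe u

open CategoryTheory Limits AlgebraicGeometry Opposite TopologicalSpace

noncomputable section

namespace Groth.Agent.AbVarLib.GenNonempty

open Groth.Agent.QCoh Groth.Agent.Props.GenLocus Groth.Agent.PullStalk.Sky

theorem genLocus_nonempty {X : Scheme.{u}} [IsIntegral X] {L : X.Modules} (hL : PicF.IsInvertible L)
    {σ : Γ(L, ⊤)} (hσ : σ ≠ 0) : (CohB1.genLocus L (homOfSec σ) : Set X).Nonempty := by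
  by_contra h
  refine hσ (eq_of_locally_eq L (U := fun x : X => (exists_isGen hL x).choose) (fun _ => le_top)
    (fun x _ => Opens.mem_iSup.mpr ⟨x, (exists_isGen hL x).choose_spec.choose_spec.1⟩) σ 0 fun x => ?_)
  obtain ⟨e, -, he⟩ := (exists_isGen hL x).choose_spec
  set U := (exists_isGen hL x).choose
  obtain ⟨f, hf, -⟩ := he.exists_eq le_rfl (res L (le_top : U ≤ ⊤) σ)
  rw [res_self] at hf
  have hb := genLocus_inf he (homOfSec σ) (f := f) (by rw [sec_homOfSec, hf])
  have hbot : X.basicOpen f = ⊥ := by
    rw [← hb, show CohB1.genLocus L (homOfSec σ) = ⊥ from Opens.ext (Set.not_nonempty_iff_eq_empty.mp h), bot_inf_eq]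
  rw [AlgebraicGeometry.basicOpen_eq_bot_iff] at hbot
  show res L _ σ = res L _ 0
  rw [hf, hbot, zero_smul]
  exact (map_zero _).symm

end Groth.Agent.AbVarLib.GenNonempty
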