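import Groth.Agent.AbVarLib.CurveFunctional
import Groth.Agent.AbVarLib.TatePoints
import Groth.Agent.GrpScheme.EtaleEndo
import Groth.Agent.GrpScheme.HomFlat
import Mathlib.AlgebraicGeometry.Sites.Fpqc

/-!
# A homomorphism killing the rational `N`-torsion factors through multiplication by `N`
-/

set_option autoImplicit false
universe u

open CategoryTheory CategoryTheory.Limits MonoidalCategory CartesianMonoidalCategory MonObj AlgebraicGeometry

noncomputable section

namespace Groth.Agent.AbVarLib.HomFactor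

open CurveFunctional (ext_points)

variable {K : Type u} [Field K] [IsAlgClosed K] {A B : Over (Spec (CommRingCat.of K))}
  [GrpObj A] [IsCommMonObj A] [IsProper A.hom] [GeometricallyIntegral A.hom]
  [GrpObj B] [IsCommMonObj B] [IsProper B.hom]

local notation "pt" => 𝟙_ (Over (Spec (CommRingCat.of K)))

/-- There is no torsion among homomorphisms. -/
theorem eq_one_of_pow (φ : A ⟶ B) [IsMonHom φ] {N : ℕ} (hN : 1 ≤ N) (h : φ ^ N = 1) : φ = 1 := by
  have : IsIntegral A.left := GeometricallyIntegral.isIntegral_of_subsingleton A.hom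
  refine ext_points fun a => ?_
  obtain ⟨b, rfl⟩ := TorsPoints.exists_root A N hN a
  rw [MonObj.pow_comp, ← MonObj.comp_pow, h, MonObj.comp_one, MonObj.comp_one]

theorem pow_id_comp (ψ : A ⟶ B) [IsMonHom ψ] (N : ℕ) : (𝟙 A ^ N) ≫ ψ = ψ ^ N := by
  rw [MonObj.pow_comp, Category.id_comp]

/-- **Factorisation through multiplication by `N`.** -/
theorem exists_factor (φ : A ⟶ B) [IsMonHom φ] (N : ℕ) (hN : (N : K) ≠ 0)
    (h : ∀ a : pt ⟶ A, a ^ N = 1 → a ≫ φ = 1) : ∃ ψ : A ⟶ B, IsMonHom ψ ∧ φ = (𝟙 A ^ N) ≫ ψ := by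
  have : IsIntegral A.left := GeometricallyIntegral.isIntegral_of_subsingleton A.hom
  have := Basics.smooth A
  have hN1 : 1 ≤ N := Nat.pos_of_ne_zero fun h => hN (by rw [h, Nat.cast_zero])
  let f : A ⟶ A := 𝟙 A ^ N
  have het : Etale f.left := by
    have := GrpScheme.EtaleEndo.etale_zpow A (N : ℤ) (by exact_mod_cast hN)
    rwa [zpow_natCast] at this
  obtain ⟨hfin, hsurj⟩ := GrpScheme.AVPow.isFinite_surjective_pow A (n := N) hN1
  have : IsFinite f.left := hfin
  have : Surjective f.left := hsurj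
  have : Etale f.left := het
  have : EffectiveEpi f.left := inferInstance
  -- the kernel pair
  let P : Over (Spec (CommRingCat.of K)) := Over.mk (pullback.fst f.left f.left ≫ A.hom)
  let p₁ : P ⟶ A := Over.homMk (pullback.fst f.left f.left) rfl
  let p₂ : P ⟶ A := Over.homMk (pullback.snd f.left f.left) (by
    show pullback.snd f.left f.left ≫ A.hom = pullback.fst f.left f.left ≫ A.hom
    conv_lhs => rw [← Over.w f, ← Category.assoc, ← pullback.condition, Category.assoc, Over.w f])
  have hp : p₁ ≫ f = p₂ ≫ f := Over.OverMorphism.ext pullback.condition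
  have : Smooth P.hom := inferInstanceAs (Smooth (pullback.fst f.left f.left ≫ A.hom))
  have : IsReduced P.left := GrpScheme.HomFlat.isReduced_of_smooth (K := K) P.hom
  have hpt : p₁ ≫ φ = p₂ ≫ φ := by
    refine ext_points fun q => ?_
    have e := congrArg (q ≫ ·) hp
    simp only [f, MonObj.comp_pow, Category.comp_id, ← Category.assoc] at e
    have hk : ((q ≫ p₁) * (q ≫ p₂)⁻¹) ^ N = 1 := by rw [mul_pow, inv_pow, e, mul_inv_cancel]
    have h' := h _ hk
    rw [MonObj.mul_comp, GrpObj.inv_comp, mul_inv_eq_one] at h'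
    simpa only [Category.assoc] using h'
  have hco : ∀ {Z : Scheme.{u}} (g₁ g₂ : Z ⟶ A.left), g₁ ≫ f.left = g₂ ≫ f.left → g₁ ≫ φ.left = g₂ ≫ φ.left :=
    fun {Z} g₁ g₂ e => by
      have h0 : pullback.fst f.left f.left ≫ φ.left = pullback.snd f.left f.left ≫ φ.left :=
        congrArg CommaMorphism.left hpt
      have h1 := congrArg (pullback.lift g₁ g₂ e ≫ ·) h0
      simpa only [pullback.lift_fst_assoc, pullback.lift_snd_assoc] using h1
  let ψl : A.left ⟶ B.left := EffectiveEpi.desc f.left φ.left hco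
  have hψ : f.left ≫ ψl = φ.left := EffectiveEpi.fac f.left φ.left hco
  let ψ : A ⟶ B := Over.homMk ψl (by
    rw [← cancel_epi f.left, ← Category.assoc, hψ, Over.w φ, Over.w f])
  have e : f ≫ ψ = φ := Over.OverMorphism.ext hψ
  have hev : ∀ b : pt ⟶ A, (b ^ N) ≫ ψ = b ≫ φ := fun b => by
    rw [← e, ← Category.assoc]; simp only [f, MonObj.comp_pow, Category.comp_id]
  have : Smooth (A ⊗ A).hom := inferInstanceAs (Smooth (pullback.fst A.hom A.hom ≫ A.hom))
  have : IsReduced (A ⊗ A).left := GrpScheme.HomFlat.isReduced_of_smooth (K := K) (A ⊗ A).hom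
  have hψhom : IsMonHom ψ := by
    refine ⟨?_, ?_⟩
    · have h1 := hev 1
      rw [one_pow, MonObj.one_comp φ, Hom.one_def, Hom.one_def, toUnit_unique (toUnit pt) (𝟙 _), Category.id_comp,
        Category.id_comp] at h1
      exact h1
    · refine ext_points fun q => ?_
      obtain ⟨b₁, hb₁⟩ := TorsPoints.exists_root A N hN1 (q ≫ fst A A)
      obtain ⟨b₂, hb₂⟩ := TorsPoints.exists_root A N hN1 (q ≫ snd A A)
      have hq : q = lift (b₁ ^ N) (b₂ ^ N) := by
        refine CartesianMonoidalCategory.hom_ext _ _ ?_ ?_ <;> simp [hb₁, hb₂]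
      rw [hq, ← Category.assoc, ← Hom.mul_def, lift_map_assoc, ← Hom.mul_def, hev, hev, ← mul_pow, hev,
        MonObj.mul_comp]
  exact ⟨ψ, hψhom, e.symm⟩

end Groth.Agent.AbVarLib.HomFactor
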