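import Groth.Agent.AbVarLib.Vanish
import Groth.Agent.AbVarLib.CohFibre
import Groth.Agent.AbVarLib.Slices

/-!
# Surjectivity of `φ_L` onto the translation invariant classes (Mumford)

For an abelian variety over an algebraically closed field and a class `l` fixed by finitely many
translations only, every primitive class is `t_x^* l / l` for a rational point `x`.
-/

set_option autoImplicit false
universe u

open CategoryTheory CategoryTheory.Limits MonoidalCategory CartesianMonoidalCategory MonObj AlgebraicGeometry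

noncomputable section

namespace Groth.Agent.AbVarLib.MumfordSurj

open scoped Groth.Agent.PicLaw
open PicLaw (pl)
open PicLaw.Mumford (op)
open TransInv (ptAt)

variable {K : Type u} [Field K] [IsAlgClosed K]

section

variable {X Y : Over (Spec (CommRingCat.of K))} [LocallyOfFiniteType Y.hom]

/-- The fibre over a closed point is the slice. -/
theorem exists_fibreIso (z : Y.left) (hz : IsClosed {z}) :
    ∃ e : (snd X Y).left.fiber z ≅ X.left,
      e.inv ≫ (snd X Y).left.fiberι z = (lift (𝟙 X) (toUnit X ≫ ptAt Y z hz)).left := by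
  let π := (snd X Y).left
  let s := lift (𝟙 X) (toUnit X ≫ ptAt Y z hz)
  let θ : X.left ⟶ π.fiber z := pullback.lift s.left
    (X.hom ≫ Spec.map (residueFieldIsoBase Y.hom z hz).hom) (by
      refine Eq.trans ?_ (Category.assoc _ _ _).symm
      exact congrArg CommaMorphism.left (lift_snd (𝟙 X) (toUnit X ≫ ptAt Y z hz)))
  have e : θ ≫ π.fiberι z = s.left := pullback.lift_fst _ _ _
  let F : Over (Spec (CommRingCat.of K)) := Over.mk (π.fiberι z ≫ (X ⊗ Y).hom)
  let i : F ⟶ X ⊗ Y := Over.homMk (π.fiberι z) rfl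
  have hi : i = (i ≫ fst X Y) ≫ s := by
    have hsnd : π.fiberι z ≫ π = (π.fiberToSpecResidueField z ≫
        Spec.map (residueFieldIsoBase Y.hom z hz).inv) ≫ pointOfClosedPoint Y.hom z hz := by
      rw [show π.fiberι z ≫ π = π.fiberToSpecResidueField z ≫ Y.left.fromSpecResidueField z from pullback.condition,
        pointOfClosedPoint, Category.assoc, ← Spec.map_comp_assoc, Iso.hom_inv_id, Spec.map_id, Category.id_comp]
    apply CartesianMonoidalCategory.hom_ext
    · simp [s]
    · rw [Category.assoc, lift_snd, ← Category.assoc, toUnit_unique ((i ≫ fst X Y) ≫ toUnit X) (toUnit F)]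
      apply Over.OverMorphism.ext
      show π.fiberι z ≫ π = (π.fiberι z ≫ (X ⊗ Y).hom) ≫ pointOfClosedPoint Y.hom z hz
      rw [← Over.w (snd X Y)]
      show π.fiberι z ≫ π = (π.fiberι z ≫ π ≫ Y.hom) ≫ _
      rw [← Category.assoc (π.fiberι z) π Y.hom, hsnd]
      simp only [Category.assoc, pointOfClosedPoint_comp_assoc]
  have hi' : (π.fiberι z ≫ (fst X Y).left) ≫ s.left = π.fiberι z := (congrArg CommaMorphism.left hi).symm
  refine ⟨⟨π.fiberι z ≫ (fst X Y).left, θ, ?_, ?_⟩, e⟩
  · rw [← cancel_mono (π.fiberι z), Category.assoc, e, hi', Category.id_comp]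
  · rw [← Category.assoc, e, ← Over.comp_left, lift_fst]
    rfl

/-- Cohomology of a fibre is that of the slice. -/
theorem subsingleton_fiberH_iff_slice {L : (X ⊗ Y).left.Modules} (hL : PicF.IsInvertible L) (z : Y.left)
    (hz : IsClosed {z}) (i : ℕ) :
    Subsingleton (CohIII.fiberH (snd X Y).left L z i) ↔
      Subsingleton (Coh.HH X.left ((Scheme.Modules.pullback (lift (𝟙 X) (toUnit X ≫ ptAt Y z hz)).left).obj L) i) := by
  obtain ⟨e, he⟩ := exists_fibreIso (X := X) z hz
  have he' : e.hom ≫ (lift (𝟙 X) (toUnit X ≫ ptAt Y z hz)).left = (snd X Y).left.fiberι z := by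
    rw [← he, Iso.hom_inv_id_assoc]
  constructor <;> intro h
  · have := Vanish.subsingleton_HH_pullback_iso e.symm (PicLoc.isInvertible_pullback _ hL) i h
    exact @AmpCrit.subsingleton_HH_of_iso _ _ _ ((Scheme.Modules.pullbackComp e.inv _).app L ≪≫
      (Scheme.Modules.pullbackCongr he).app L) i this
  · have := Vanish.subsingleton_HH_pullback_iso e (PicLoc.isInvertible_pullback _ hL) i h
    exact @AmpCrit.subsingleton_HH_of_iso _ _ _ ((Scheme.Modules.pullbackComp e.hom _).app L ≪≫
      (Scheme.Modules.pullbackCongr he').app L) i this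

end

variable {A : Over (Spec (CommRingCat.of K))} [GrpObj A] [IsProper A.hom] [GeometricallyIntegral A.hom]
  (l : PicLoc.PicSet A.left)

/-- `φ_l(a) = t_a^* l / l`. -/
def phi (a : 𝟙_ (Over (Spec (CommRingCat.of K))) ⟶ A) : PicLoc.PicSet A.left :=
  op (𝟙 A * (toUnit A ≫ a)) l / l

theorem pair_const (a : 𝟙_ (Over (Spec (CommRingCat.of K))) ⟶ A) :
    Defect.pair l (𝟙 A) (toUnit A ≫ a) = phi l a := by
  rw [Defect.pair, phi, PicLaw.Mumford.op_comp (toUnit A) a, TransInv.pic_unit (op a l), map_one, _root_.mul_one]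
  exact congrArg (op (𝟙 A * (toUnit A ≫ a)) l / ·) (PicLaw.pl_id l)

/-- The class `φ_l(a)` is primitive. -/
theorem phi_primitive (a : 𝟙_ (Over (Spec (CommRingCat.of K))) ⟶ A) :
    op (fst A A * snd A A) (phi l a) = op (fst A A) (phi l a) * op (snd A A) (phi l a) := by
  simp only [← pair_const, Defect.op_pair, Category.comp_id, ← Category.assoc,
    toUnit_unique ((fst A A * snd A A) ≫ toUnit A) (toUnit (A ⊗ A)),
    toUnit_unique (fst A A ≫ toUnit A) (toUnit (A ⊗ A)), toUnit_unique (snd A A ≫ toUnit A) (toUnit (A ⊗ A))]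
  rw [Defect.pair_comm l (fst A A * snd A A), Defect.pair_mul_right, Defect.pair_comm l _ (fst A A),
    Defect.pair_comm l _ (snd A A)]

set_option maxHeartbeats 1000000 in
/-- **Mumford's surjectivity.** -/
theorem exists_phi (hK : Vanish.Kunneth A)
    (hfin : Set.Finite {a : 𝟙_ (Over (Spec (CommRingCat.of K))) ⟶ A | op (𝟙 A * (toUnit A ≫ a)) l = l})
    (m : PicLoc.PicSet A.left) (hm : op (fst A A * snd A A) m = op (fst A A) m * op (snd A A) m) :
    ∃ a : 𝟙_ (Over (Spec (CommRingCat.of K))) ⟶ A, op (𝟙 A * (toUnit A ≫ a)) l = m * l := by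
  by_contra hne
  simp only [not_exists] at hne
  have : IsIntegral A.left := GeometricallyIntegral.isIntegral_of_subsingleton A.hom
  have : IsLocallyNoetherian A.left := LocallyOfFiniteType.isLocallyNoetherian A.hom
  have : JacobsonSpace A.left := LocallyOfFiniteType.jacobsonSpace A.hom
  have : IsProper (snd A A).left := Cube.Local.isProper_snd A A
  have : Flat (snd A A).left := Cube.Local.flat_snd A A
  -- vanishing for primitive classes
  have hvan : ∀ (N : A.left.Modules) (hN : PicF.IsInvertible N),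
      op (fst A A * snd A A) (PicGrp.cls N hN) =
        op (fst A A) (PicGrp.cls N hN) * op (snd A A) (PicGrp.cls N hN) →
      PicGrp.cls N hN ≠ 1 → ∀ i, Subsingleton (Coh.HH A.left N i) := fun N hN hp hn i =>
    Vanish.subsingleton_HH hN hp hK (fun h => hn ((PicGrp.cls_eq_one_iff hN).mpr h)) i
  let c : PicLoc.PicSet (A ⊗ A).left := Defect.pair l (fst A A) (snd A A) / op (fst A A) m
  obtain ⟨L, hL, hc⟩ := PicGrp.exists_eq_cls c
  -- slices in the first direction
  have hslice : ∀ a : 𝟙_ (Over (Spec (CommRingCat.of K))) ⟶ A,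
      op (lift (𝟙 A) (toUnit A ≫ a)) c = phi l a / m := fun a => by
    simp only [c, map_div, Defect.op_pair, lift_fst, lift_snd, ← PicLaw.Mumford.op_comp, pair_const]
    exact congrArg (phi l a / ·) (PicLaw.pl_id m)
  have hsm : ∀ a : 𝟙_ (Over (Spec (CommRingCat.of K))) ⟶ A, ∀ i,
      Subsingleton (Coh.HH A.left ((Scheme.Modules.pullback (lift (𝟙 A) (toUnit A ≫ a)).left).obj L) i) := by
    intro a
    have hcl : PicGrp.cls _ (PicLoc.isInvertible_pullback (lift (𝟙 A) (toUnit A ≫ a)).left hL) = phi l a / m := by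
      rw [PicLaw.cls_pullback _ hL, ← hc]; exact hslice a
    refine hvan _ (PicLoc.isInvertible_pullback _ hL) ?_ ?_
    · rw [hcl, map_div, map_div, map_div, phi_primitive, hm, div_mul_div_comm]
    · rw [hcl, Ne, div_eq_one, phi, div_eq_iff_eq_mul]
      exact hne a
  have hH : ∀ i, Subsingleton (Coh.HH (A ⊗ A).left L i) :=
    CohFibre.HH_vanish (snd A A).left (Cube.Seesaw.isCoh_of_invertible hL) (Cube.Seesaw.isFlatOver_of_invertible _ hL)
      fun y hy i => (subsingleton_fiberH_iff_slice hL y hy i).mpr (hsm (ptAt A y hy) i)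
  -- swap the factors
  let σ : (A ⊗ A).left ≅ (A ⊗ A).left :=
    ⟨(lift (snd A A) (fst A A)).left, (lift (snd A A) (fst A A)).left,
      by rw [← Over.comp_left, comp_lift, lift_snd, lift_fst, lift_fst_snd]; rfl,
      by rw [← Over.comp_left, comp_lift, lift_snd, lift_fst, lift_fst_snd]; rfl⟩
  let L' := (Scheme.Modules.pullback σ.hom).obj L
  have hL' : PicF.IsInvertible L' := PicLoc.isInvertible_pullback _ hL
  have hH' : ∀ i, Subsingleton (Coh.HH (A ⊗ A).left L' i) := fun i =>
    Vanish.subsingleton_HH_pullback_iso σ hL i (hH i)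
  have hcl : ∀ a : 𝟙_ (Over (Spec (CommRingCat.of K))) ⟶ A,
      PicGrp.cls _ (PicLoc.isInvertible_pullback (lift (𝟙 A) (toUnit A ≫ a)).left hL') = phi l a := fun a => by
    rw [PicLaw.cls_pullback _ hL', PicLaw.cls_pullback _ hL, ← hc]
    show op (lift (𝟙 A) (toUnit A ≫ a)) (op (lift (snd A A) (fst A A)) c) = _
    rw [← PicLaw.Mumford.op_comp, comp_lift, lift_fst, lift_snd]
    simp only [c, map_div, Defect.op_pair, lift_fst, lift_snd, ← PicLaw.Mumford.op_comp]
    rw [Defect.pair_comm, pair_const, PicLaw.Mumford.op_comp (toUnit A) a, TransInv.pic_unit (op a m), map_one, div_one]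
  let Z : Set A.left := (fun a : 𝟙_ (Over (Spec (CommRingCat.of K))) ⟶ A => a.left (IsLocalRing.closedPoint K)) ''
    {a | op (𝟙 A * (toUnit A ≫ a)) l = l}
  have hfib := CohFibre.fibre_vanish (snd A A).left (Cube.Seesaw.isCoh_of_invertible hL')
    (Cube.Seesaw.isFlatOver_of_invertible _ hL') (Z := Z) (hfin.image _)
    (by rintro _ ⟨a, -, rfl⟩; exact Slices.isClosed_point a)
    (fun y hy hyZ i => (subsingleton_fiberH_iff_slice hL' y hy i).mpr (by
      refine hvan _ (PicLoc.isInvertible_pullback _ hL') ?_ ?_ i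
      · rw [hcl]; exact phi_primitive l _
      · rw [hcl, Ne, phi, div_eq_one]
        exact fun h => hyZ ⟨ptAt A y hy, h, pointOfClosedPoint_apply A.hom y hy _⟩))
    hH'
  -- at the origin the fibre has the constants
  let o : A.left := η[A].left (IsLocalRing.closedPoint K)
  have h0 := (subsingleton_fiberH_iff_slice hL' o (Slices.isClosed_point η[A]) 0).mp (hfib o 0)
  rw [← Slices.eq_ptAt η[A]] at h0
  obtain ⟨φ⟩ : Nonempty ((Scheme.Modules.pullback (lift (𝟙 A) (toUnit A ≫ η[A])).left).obj L' ≅
      Coh.structureModule A.left) := by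
    refine (PicGrp.cls_eq_one_iff (PicLoc.isInvertible_pullback _ hL')).mp ?_
    rw [hcl, phi, div_eq_one, ← Hom.one_def, _root_.mul_one]
    exact PicLaw.pl_id l
  have := AmpCrit.subsingleton_HH_of_iso φ 0
  have := Vanish.nontrivial_H0 (A := A)
  exact not_subsingleton (Coh.HH A.left (Coh.structureModule A.left) 0) ‹_›

end Groth.Agent.AbVarLib.MumfordSurj
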