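import Mathlib.NumberTheory.Padics.Complex
import Mathlib.RingTheory.Localization.Integral
import Mathlib.FieldTheory.Minpoly.Field
import Mathlib.LinearAlgebra.Matrix.Charpoly.Eigs

/-!
# Monic polynomials with the same norm of all integral polynomials at their roots
-/

set_option autoImplicit false

open Polynomial

noncomputable section

namespace Groth.Agent.AbVarLib.PadicRoots

variable {l : ℕ} [Fact l.Prime]

local notation "Ω" => PadicAlgCl l

/-- The values of a `p`-adic polynomial at finitely many non-roots have the norms of those of a rational one. -/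
theorem exists_rat_norm_eq (F : ℚ_[l][X]) (s : Multiset Ω) (hs : ∀ w ∈ s, aeval w F ≠ 0) :
    ∃ G : ℚ[X], ∀ w ∈ s, ‖aeval w G‖ = ‖aeval w F‖ := by
  classical
  set N := F.natDegree + 1
  obtain ⟨ε, hε, hsmall⟩ : ∃ ε : ℝ, 0 < ε ∧ ∀ w ∈ s, ∀ i < N, ε * (‖w‖ ^ i * N) < ‖aeval w F‖ := by
    induction s using Multiset.induction_on with
    | empty => exact ⟨1, one_pos, by simp⟩
    | cons w s ih =>
      obtain ⟨ε, hε, h⟩ := ih fun v hv => hs v (Multiset.mem_cons_of_mem hv)
      have hw : 0 < ‖aeval w F‖ := norm_pos_iff.mpr (hs w (Multiset.mem_cons_self _ _))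
      set B : ℝ := (∑ j ∈ Finset.range N, ‖w‖ ^ j * N) + 1
      have hB : 0 < B := add_pos_of_nonneg_of_pos (Finset.sum_nonneg fun j _ => by positivity) one_pos
      refine ⟨min ε (‖aeval w F‖ / B), lt_min hε (div_pos hw hB), fun v hv i hi => ?_⟩
      rcases Multiset.mem_cons.mp hv with rfl | hv
      · have h1 : ‖v‖ ^ i * N < B :=
          (Finset.single_le_sum (f := fun j => ‖v‖ ^ j * (N : ℝ)) (fun j _ => by positivity) (Finset.mem_range.mpr hi)).trans_lt
            (lt_add_one _)
        calc min ε (‖aeval v F‖ / B) * (‖v‖ ^ i * N) ≤ (‖aeval v F‖ / B) * (‖v‖ ^ i * N) :=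
              mul_le_mul_of_nonneg_right (min_le_right _ _) (by positivity)
          _ < (‖aeval v F‖ / B) * B := mul_lt_mul_of_pos_left h1 (div_pos hw hB)
          _ = ‖aeval v F‖ := div_mul_cancel₀ _ hB.ne'
      · exact lt_of_le_of_lt (mul_le_mul_of_nonneg_right (min_le_left _ _) (by positivity)) (h v hv i hi)
  choose q hq using fun i => Padic.rat_dense l (F.coeff i) hε
  refine ⟨∑ i ∈ Finset.range N, C (q i) * X ^ i, fun w hw => ?_⟩
  have e1 : aeval w (∑ i ∈ Finset.range N, C (q i) * X ^ i) - aeval w F =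
      ∑ i ∈ Finset.range N, algebraMap ℚ_[l] Ω ((q i : ℚ_[l]) - F.coeff i) * w ^ i := by
    rw [aeval_eq_sum_range (p := F), map_sum, ← Finset.sum_sub_distrib]
    refine Finset.sum_congr rfl fun i _ => ?_
    rw [map_mul, map_pow, aeval_C, aeval_X, map_sub, Algebra.smul_def, sub_mul, map_ratCast, eq_ratCast]
  have hlt : ‖aeval w (∑ i ∈ Finset.range N, C (q i) * X ^ i) - aeval w F‖ < ‖aeval w F‖ := by
    rw [e1]
    refine (norm_sum_le _ _).trans_lt ?_
    calc ∑ i ∈ Finset.range N, ‖algebraMap ℚ_[l] Ω ((q i : ℚ_[l]) - F.coeff i) * w ^ i‖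
        ≤ ∑ i ∈ Finset.range N, ε * ‖w‖ ^ i := Finset.sum_le_sum fun i _ => by
          rw [norm_mul, norm_pow, norm_algebraMap', norm_sub_rev]
          exact mul_le_mul_of_nonneg_right (hq i).le (by positivity)
      _ < ‖aeval w F‖ := by
          have hN : (0 : ℝ) < N := by positivity
          have h1 : ∀ i ∈ Finset.range N, ε * ‖w‖ ^ i < ‖aeval w F‖ / N := fun i hi => by
            rw [lt_div_iff₀ hN, mul_assoc]
            exact hsmall w hw i (Finset.mem_range.mp hi)
          refine (Finset.sum_lt_sum_of_nonempty (Finset.nonempty_range_iff.mpr (Nat.succ_ne_zero _)) h1).trans_le ?_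
          rw [Finset.sum_const, Finset.card_range, nsmul_eq_mul, mul_div_cancel₀ _ hN.ne']
  set a := aeval w F
  set c := aeval w (∑ i ∈ Finset.range N, C (q i) * X ^ i) - a with hc
  have hna := PadicAlgCl.isNonarchimedean (p := l)
  have h1 : ‖c + a‖ ≤ max ‖c‖ ‖a‖ := hna c a
  have h2 : ‖a‖ ≤ max ‖c + a‖ ‖-c‖ := by
    have := hna (c + a) (-c)
    rwa [add_neg_cancel_comm] at this
  rw [norm_neg] at h2
  rw [hc, sub_add_cancel] at h1 h2
  rw [max_eq_right hlt.le] at h1
  rcases le_max_iff.mp h2 with h2 | h2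
  · exact le_antisymm h1 h2
  · exact absurd h2 (not_le.mpr hlt)

/-- The roots of `g` among those of `P`. -/
def cnt (g P : ℚ_[l][X]) : ℕ :=
  open Classical in Multiset.countP (fun w => aeval w g = 0) (P.map (algebraMap ℚ_[l] Ω)).roots

theorem eq_of_cnt : ∀ (n : ℕ) (P₁ P₂ : ℚ_[l][X]), P₁.Monic → P₂.Monic → P₁.natDegree = n → P₂.natDegree = n →
    (∀ g : ℚ_[l][X], g.Monic → Irreducible g → cnt g P₁ = cnt g P₂) → P₁ = P₂ := by
  intro n
  induction n using Nat.strong_induction_on with
  | _ n IH =>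
    intro P₁ P₂ h₁ h₂ d₁ d₂ hcnt
    classical
    rcases Nat.eq_zero_or_pos n with rfl | hn
    · rw [h₁.natDegree_eq_zero.mp d₁, h₂.natDegree_eq_zero.mp d₂]
    obtain ⟨g, hgm, hgi, Q₁, rfl⟩ := exists_monic_irreducible_factor P₁ (fun h => by
      have := natDegree_eq_zero_of_isUnit h; omega)
    have hQ₁ : Q₁.Monic := hgm.of_mul_monic_left h₁
    obtain ⟨w, hw⟩ : ∃ w : Ω, aeval w g = 0 := IsAlgClosed.exists_aeval_eq_zero Ω g
      (fun h => by
        have := hgi.natDegree_pos
        rw [natDegree_eq_of_degree_eq_some h] at this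
        exact lt_irrefl 0 this)
    have hsplit : ∀ Q : ℚ_[l][X], Q.Monic → ((g * Q).map (algebraMap ℚ_[l] Ω)).roots =
        (g.map (algebraMap ℚ_[l] Ω)).roots + (Q.map (algebraMap ℚ_[l] Ω)).roots := fun Q hQ => by
      rw [Polynomial.map_mul, roots_mul (mul_ne_zero (hgm.map _).ne_zero (hQ.map _).ne_zero)]
    have hpos : 0 < cnt g (g * Q₁) := Multiset.countP_pos.mpr ⟨w, by
      rw [hsplit Q₁ hQ₁, Multiset.mem_add, mem_roots (hgm.map _).ne_zero, IsRoot, eval_map_algebraMap]
      exact Or.inl hw, hw⟩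
    rw [hcnt g hgm hgi] at hpos
    obtain ⟨v, hv, hv'⟩ := Multiset.countP_pos.mp hpos
    rw [mem_roots (h₂.map _).ne_zero, IsRoot, eval_map_algebraMap] at hv
    obtain ⟨Q₂, rfl⟩ : g ∣ P₂ := by
      rw [minpoly.eq_of_irreducible_of_monic hgi hv' hgm]
      exact minpoly.dvd _ _ hv
    have hQ₂ : Q₂.Monic := hgm.of_mul_monic_left h₂
    rw [hgm.natDegree_mul hQ₁] at d₁
    rw [hgm.natDegree_mul hQ₂] at d₂
    have := hgi.natDegree_pos
    rw [IH Q₁.natDegree (by omega) Q₁ Q₂ hQ₁ hQ₂ rfl (by omega) fun f hf hfi => by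
      have h := hcnt f hf hfi
      rw [cnt, cnt, hsplit Q₁ hQ₁, hsplit Q₂ hQ₂, Multiset.countP_add, Multiset.countP_add] at h
      exact Nat.add_left_cancel h]

/-- **Criterion for equality.** -/
theorem eq_of_norm (P₁ P₂ : ℚ_[l][X]) (h₁ : P₁.Monic) (h₂ : P₂.Monic) (hd : P₁.natDegree = P₂.natDegree)
    (hG : ∀ G : ℤ[X], ((P₁.map (algebraMap ℚ_[l] Ω)).roots.map fun w => ‖aeval w G‖).prod =
      ((P₂.map (algebraMap ℚ_[l] Ω)).roots.map fun w => ‖aeval w G‖).prod) : P₁ = P₂ := by
  classical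
  set Z₁ := (P₁.map (algebraMap ℚ_[l] Ω)).roots with hZ₁
  set Z₂ := (P₂.map (algebraMap ℚ_[l] Ω)).roots with hZ₂
  have hcard : Z₁.card = Z₂.card := by
    rw [hZ₁, hZ₂, ← (IsAlgClosed.splits _).natDegree_eq_card_roots, ← (IsAlgClosed.splits _).natDegree_eq_card_roots,
      natDegree_map, natDegree_map, hd]
  have hQ : ∀ G : ℚ[X], (Z₁.map fun w => ‖aeval w G‖).prod = (Z₂.map fun w => ‖aeval w G‖).prod := by
    intro G
    obtain ⟨b, hb⟩ := IsLocalization.integerNormalization_map_to_map (nonZeroDivisors ℤ) G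
    set H := IsLocalization.integerNormalization (nonZeroDivisors ℤ) G
    have hb0 : ((b : ℤ) : Ω) ≠ 0 := Int.cast_ne_zero.mpr (nonZeroDivisors.coe_ne_zero b)
    have e : ∀ w : Ω, ‖aeval w G‖ = ‖((b : ℤ) : Ω)‖⁻¹ * ‖aeval w H‖ := fun w => by
      have h := congrArg (aeval w) hb
      rw [aeval_map_algebraMap, map_zsmul, zsmul_eq_mul] at h
      rw [h, norm_mul, ← mul_assoc, inv_mul_cancel₀ (norm_ne_zero_iff.mpr hb0), one_mul]
    simp only [e, Multiset.prod_map_mul, Multiset.map_const', Multiset.prod_replicate, hcard, hG H]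
  refine eq_of_cnt _ P₁ P₂ h₁ h₂ rfl hd.symm fun g hgm hgi => ?_
  have hM : P₁ * P₂ ≠ 0 := mul_ne_zero h₁.ne_zero h₂.ne_zero
  obtain ⟨e, h, hh, heq⟩ := WfDvdMonoid.max_power_factor hM hgi
  obtain ⟨a, b, hab⟩ := (hgi.coprime_iff_not_dvd.mpr hh).pow_left (m := e)
  obtain ⟨a', b', hab'⟩ := hgi.coprime_iff_not_dvd.mpr hh
  let F : ℚ_[l][X] := 1 + C ((l : ℚ_[l]) - 1) * (b * h)
  have hval : ∀ w ∈ Z₁ + Z₂, aeval w F = if aeval w g = 0 then (l : Ω) else 1 := by
    intro w hw
    have hM0 : aeval w (P₁ * P₂) = 0 := by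
      rw [Multiset.mem_add] at hw
      rcases hw with hw | hw
      · rw [hZ₁, mem_roots (h₁.map _).ne_zero, IsRoot, eval_map_algebraMap] at hw
        rw [map_mul, hw, zero_mul]
      · rw [hZ₂, mem_roots (h₂.map _).ne_zero, IsRoot, eval_map_algebraMap] at hw
        rw [map_mul, hw, mul_zero]
    rw [heq, map_mul, map_pow] at hM0
    have hFw : aeval w F = 1 + ((l : Ω) - 1) * (aeval w b * aeval w h) := by
      simp only [F, map_add, map_one, map_mul, aeval_C, map_sub, map_natCast]
    split_ifs with hgw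
    · have he : e ≠ 0 := fun he => by
        subst he
        rw [pow_zero, one_mul] at hM0
        have h1 := congrArg (aeval w) hab'
        rw [map_add, map_mul, map_mul, hgw, hM0, mul_zero, mul_zero, add_zero, map_one] at h1
        exact zero_ne_one h1
      have h1 := congrArg (aeval w) hab
      rw [map_add, map_mul, map_mul, map_pow, hgw, zero_pow he, mul_zero, zero_add, map_one] at h1
      rw [hFw, h1]; ring
    · rw [hFw, (mul_eq_zero.mp hM0).resolve_left (pow_ne_zero _ hgw)]; ring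
  obtain ⟨G, hGF⟩ := exists_rat_norm_eq F (Z₁ + Z₂) fun w hw => by
    rw [hval w hw]
    split_ifs
    · exact Nat.cast_ne_zero.mpr (Fact.out : l.Prime).ne_zero
    · exact one_ne_zero
  have hprod : ∀ Z : Multiset Ω, (∀ w ∈ Z, w ∈ Z₁ + Z₂) →
      (Z.map fun w => ‖aeval w G‖).prod = ‖(l : Ω)‖ ^ Multiset.countP (fun w => aeval w g = 0) Z := by
    intro Z
    induction Z using Multiset.induction_on with
    | empty => simp
    | cons w Z ih =>
      intro hmem
      rw [Multiset.map_cons, Multiset.prod_cons, ih fun v hv => hmem v (Multiset.mem_cons_of_mem hv),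
        hGF w (hmem w (Multiset.mem_cons_self _ _)), hval w (hmem w (Multiset.mem_cons_self _ _)), Multiset.countP_cons]
      split_ifs
      · rw [pow_succ, mul_comm]
      · rw [norm_one, one_mul, add_zero]
  have h := hQ G
  rw [hprod Z₁ fun w hw => Multiset.mem_add.mpr (Or.inl hw), hprod Z₂ fun w hw => Multiset.mem_add.mpr (Or.inr hw)] at h
  have hl : ‖(l : Ω)‖ = (l : ℝ)⁻¹ := by
    rw [← map_natCast (algebraMap ℚ_[l] Ω), norm_algebraMap', Padic.norm_p]
  refine pow_right_injective₀ (a := ‖(l : Ω)‖) ?_ ?_ h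
  · rw [hl]; exact inv_pos.mpr (by exact_mod_cast (Fact.out : l.Prime).pos)
  · rw [hl]; exact inv_ne_one.mpr (by exact_mod_cast (Fact.out : l.Prime).ne_one)

/-- The determinant of a polynomial in a matrix. -/
theorem det_aeval_eq_prod {F : Type*} [Field F] [IsAlgClosed F] {n : Type*} [Fintype n] [DecidableEq n]
    (hn : Even (Fintype.card n)) (A : Matrix n n F) (G : F[X]) :
    (aeval A G).det = (A.charpoly.roots.map fun w => G.eval w).prod := by
  classical
  have hcard : A.charpoly.roots.card = Fintype.card n := by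
    rw [← (IsAlgClosed.splits _).natDegree_eq_card_roots, Matrix.charpoly_natDegree_eq_dim]
  have hlin : ∀ t, (aeval A (X - C t)).det = (A.charpoly.roots.map fun w => w - t).prod := fun t => by
    have h1 := Matrix.eval_charpoly A t
    rw [(IsAlgClosed.splits A.charpoly).eq_prod_roots, (Matrix.charpoly_monic A).leadingCoeff, C_1, one_mul,
      eval_multiset_prod, Multiset.map_map] at h1
    simp only [Function.comp_def, eval_sub, eval_X, eval_C] at h1
    rw [map_sub, aeval_X, aeval_C, show A - algebraMap F (Matrix n n F) t = -(Matrix.scalar n t - A) by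
      rw [neg_sub]; rfl, Matrix.det_neg, hn.neg_one_pow, one_mul, ← h1,
      show (A.charpoly.roots.map fun w => t - w) = (A.charpoly.roots.map fun w => w - t).map Neg.neg by simp [Multiset.map_map],
      Multiset.prod_map_neg, Multiset.card_map, hcard, hn.neg_one_pow, one_mul]
  have key : ∀ S : Multiset F, (aeval A ((S.map fun t => X - C t).prod)).det =
      (A.charpoly.roots.map fun w => ((S.map fun t => X - C t).prod).eval w).prod := by
    intro S
    induction S using Multiset.induction_on with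
    | empty => simp
    | cons t S ih =>
      simp only [Multiset.map_cons, Multiset.prod_cons, eval_mul, Multiset.prod_map_mul, map_mul, Matrix.det_mul]
      rw [ih, hlin]
      simp
  have h1 := (IsAlgClosed.splits G).eq_prod_roots
  conv_lhs => rw [h1]
  rw [map_mul, Matrix.det_mul, key, aeval_C]
  conv_rhs => rw [h1]
  simp only [eval_mul, eval_C, Multiset.prod_map_mul]
  rw [Multiset.map_const', Multiset.prod_replicate, hcard]
  congr 1
  rw [Matrix.algebraMap_eq_diagonal, Matrix.det_diagonal]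
  simp

end Groth.Agent.AbVarLib.PadicRoots
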