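import Groth.Agent.AbVarLib.ExtendCurve
import Mathlib.AlgebraicGeometry.Group.Abelian
import Mathlib.RingTheory.PowerSeries.Inverse
import Mathlib.RingTheory.Jacobson.Ideal
import Mathlib.Algebra.Polynomial.Laurent
import Mathlib.FieldTheory.RatFunc.Basic
import Mathlib.RingTheory.Algebraic.Integral

/-!
# No rational curves in group schemes: two charts of the projective line

A pair of morphisms from the two standard charts of the projective line to a separated group scheme
over a field agreeing on the overlap is constant. The proof compares the formal translates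
`f (x + y) * (f x)⁻¹` in the two charts; no projective line has to be constructed.
-/

set_option autoImplicit false
universe u
open CategoryTheory MonoidalCategory CartesianMonoidalCategory MonObj AlgebraicGeometry Polynomial

namespace Groth.Agent.AbVarLib.RatLine

variable {k : Type u} [Field k]

/-- The spectrum of a `k`-algebra over `Spec k`. -/
noncomputable abbrev O (k : Type u) [Field k] (R : Type u) [CommRing R] [Algebra k R] :
    Over (Spec (CommRingCat.of k)) :=
  Over.mk (Spec.map (CommRingCat.ofHom (algebraMap k R)))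

/-- The morphism of spectra of an algebra map. -/
noncomputable def sp {R S : Type u} [CommRing R] [Algebra k R] [CommRing S] [Algebra k S]
    (φ : R →ₐ[k] S) : O k S ⟶ O k R :=
  Over.homMk (Spec.map (CommRingCat.ofHom φ.toRingHom)) (by
    show Spec.map _ ≫ Spec.map _ = Spec.map _
    rw [← Spec.map_comp, ← CommRingCat.ofHom_comp]
    congr 2
    exact φ.comp_algebraMap)

theorem sp_comp {R S T : Type u} [CommRing R] [Algebra k R] [CommRing S] [Algebra k S] [CommRing T]
    [Algebra k T] (φ : R →ₐ[k] S) (ψ : S →ₐ[k] T) : sp (ψ.comp φ) = sp ψ ≫ sp φ := by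
  apply Over.OverMorphism.ext
  show Spec.map _ = Spec.map _ ≫ Spec.map _
  rw [← Spec.map_comp, ← CommRingCat.ofHom_comp]
  rfl

theorem sp_ofId_comp {R : Type u} [CommRing R] [Algebra k R] {G : Over (Spec (CommRingCat.of k))}
    (c : 𝟙_ (Over (Spec (CommRingCat.of k))) ⟶ G) :
    (toUnit (O k R) ≫ c).left = Spec.map (CommRingCat.ofHom (algebraMap k R)) ≫ c.left := rfl

variable (k) in
/-- Power series over the affine line. -/
abbrev R₂ : Type u := PowerSeries (Polynomial k)

noncomputable def ι₂ : Polynomial k →ₐ[k] R₂ k :=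
  { (PowerSeries.C : Polynomial k →+* R₂ k) with
    commutes' := fun r => by simp [PowerSeries.algebraMap_apply] }

noncomputable def cc : R₂ k →ₐ[k] Polynomial k :=
  { (PowerSeries.constantCoeff : R₂ k →+* Polynomial k) with
    commutes' := fun r => PowerSeries.constantCoeff_C _ }

@[simp]
theorem cc_apply (a : R₂ k) : cc a = PowerSeries.constantCoeff a := rfl

@[simp]
theorem ι₂_apply (p : Polynomial k) : ι₂ p = PowerSeries.C p := rfl

/-- Coefficientwise algebra map on power series. -/
noncomputable def mapA {R S : Type u} [CommRing R] [Algebra k R] [CommRing S] [Algebra k S]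
    (f : R →ₐ[k] S) : PowerSeries R →ₐ[k] PowerSeries S :=
  { PowerSeries.map (f : R →+* S) with
    commutes' := fun r => by simp [PowerSeries.algebraMap_apply] }

@[simp]
theorem mapA_apply {R S : Type u} [CommRing R] [Algebra k R] [CommRing S] [Algebra k S]
    (f : R →ₐ[k] S) (a : PowerSeries R) : mapA f a = PowerSeries.map (f : R →+* S) a := rfl

/-- The inverse of `1 + x y`. -/
noncomputable def den : R₂ k :=
  PowerSeries.invOfUnit (1 + PowerSeries.C (Polynomial.X : Polynomial k) * PowerSeries.X) 1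

theorem den_mul : (1 + PowerSeries.C (Polynomial.X : Polynomial k) * PowerSeries.X) * den = 1 :=
  PowerSeries.mul_invOfUnit _ _ (by simp)

/-- `x ↦ x + y`. -/
noncomputable def σ₀ : Polynomial k →ₐ[k] R₂ k :=
  Polynomial.aeval (PowerSeries.C (Polynomial.X : Polynomial k) + PowerSeries.X)

/-- `u ↦ u / (1 + u y)`. -/
noncomputable def σi : Polynomial k →ₐ[k] R₂ k :=
  Polynomial.aeval (PowerSeries.C (Polynomial.X : Polynomial k) * den)

noncomputable def j₀ : Polynomial k →ₐ[k] LaurentPolynomial k := Polynomial.toLaurentAlg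

noncomputable def ji : Polynomial k →ₐ[k] LaurentPolynomial k :=
  (LaurentPolynomial.invert (R := k)).toAlgHom.comp Polynomial.toLaurentAlg

theorem coeff_toLaurent_nat (P : Polynomial k) (i : ℕ) : (Polynomial.toLaurent P).coeff (i : ℤ) = P.coeff i := by
  rw [LaurentPolynomial.coeff_toLaurent]
  exact Finsupp.mapDomain_apply Nat.castEmbedding.injective _ i

theorem coeff_toLaurent_of_neg (P : Polynomial k) (m : ℤ) (hm : m < 0) : (Polynomial.toLaurent P).coeff m = 0 := by
  rw [LaurentPolynomial.coeff_toLaurent]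
  refine Finsupp.mapDomain_of_notMem_range _ _ ?_
  rintro ⟨n, rfl⟩
  exact absurd hm (by simp)

variable {G : Over (Spec (CommRingCat.of k))} [GrpObj G]

/-- The formal translate `f (σ) * (f)⁻¹`. -/
noncomputable def hh (σ : Polynomial k →ₐ[k] R₂ k) (F : O k (Polynomial k) ⟶ G) : O k (R₂ k) ⟶ G :=
  (sp σ ≫ F) * (sp ι₂ ≫ F)⁻¹

theorem cc_hh (σ : Polynomial k →ₐ[k] R₂ k) (hσ : cc.comp σ = AlgHom.id k _) (F : O k (Polynomial k) ⟶ G) :
    sp cc ≫ hh σ F = 1 := by
  have hι : cc.comp (ι₂ (k := k)) = AlgHom.id k _ := AlgHom.ext fun p =>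
    (show PowerSeries.constantCoeff (PowerSeries.C p) = p from PowerSeries.constantCoeff_C p)
  rw [hh, MonObj.comp_mul, GrpObj.comp_inv, ← Category.assoc, ← Category.assoc, ← sp_comp, ← sp_comp,
    hσ, hι, mul_inv_cancel]

theorem range_hh (σ : Polynomial k →ₐ[k] R₂ k) (hσ : cc.comp σ = AlgHom.id k _)
    (F : O k (Polynomial k) ⟶ G) (U : G.left.Opens) (hU : ∀ w, η[G].left w ∈ U) :
    Set.range (hh σ F).left ⊆ U := by
  rintro _ ⟨p, rfl⟩
  let P : PrimeSpectrum (R₂ k) := p
  obtain ⟨m, hm, hPm⟩ := Ideal.exists_le_maximal P.asIdeal P.isPrime.ne_top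
  have hker : ∀ a : R₂ k, cc a = 0 → a ∈ m := by
    intro a ha
    by_contra h
    obtain ⟨c, i, hi, hc⟩ := hm.exists_inv h
    have hiu : IsUnit i := PowerSeries.isUnit_iff_constantCoeff.mpr (by
      have hca := congrArg (PowerSeries.constantCoeff : R₂ k →+* Polynomial k) hc
      rw [map_add, map_mul, show PowerSeries.constantCoeff a = 0 from ha, mul_zero, zero_add, map_one] at hca
      rw [hca]
      exact isUnit_one)
    exact hm.ne_top (Ideal.eq_top_of_isUnit_mem _ hi hiu)
  have hsurj : Function.Surjective (cc (k := k)).toRingHom :=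
    fun q => ⟨PowerSeries.C q, PowerSeries.constantCoeff_C q⟩
  have hmem : (⟨m, hm.isPrime⟩ : PrimeSpectrum (R₂ k)) ∈
      Set.range (PrimeSpectrum.comap (cc (k := k)).toRingHom) := by
    rw [range_comap_of_surjective _ _ hsurj]
    exact fun a ha => hker a ha
  obtain ⟨m', hm'⟩ := hmem
  have hs : P ⤳ (⟨m, hm.isPrime⟩ : PrimeSpectrum (R₂ k)) := (PrimeSpectrum.le_iff_specializes P _).mp hPm
  refine (hs.map (hh σ F).left.continuous).mem_open U.2 ?_
  rw [← hm']
  have h := congrArg (fun g => g.left m') (cc_hh σ hσ F)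
  exact (h ▸ hU _ : (sp cc ≫ hh σ F).left m' ∈ U)

theorem eq_const_of_charts [IsSeparated G.hom] (F₀ Fi : O k (Polynomial k) ⟶ G)
    (hF : sp (j₀ (k := k)) ≫ F₀ = sp ji ≫ Fi) :
    F₀ = sp (Algebra.ofId k (Polynomial k)) ≫ sp (Polynomial.aeval (0 : k)) ≫ F₀ := by
  obtain ⟨_, ⟨U, hU, rfl⟩, heU, -⟩ := G.left.isBasis_affineOpens.exists_subset_of_mem_open
    (Set.mem_univ (η[G].left (IsLocalRing.closedPoint k))) isOpen_univ
  let U' : G.left.Opens := U
  have hU' : ∀ w, η[G].left w ∈ U' := fun w => by
    rw [Subsingleton.elim (α := PrimeSpectrum k) w (IsLocalRing.closedPoint k)]; exact heU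
  have : IsAffine U' := hU
  let iU : Spec Γ(U', ⊤) ⟶ G.left := U'.toScheme.isoSpec.inv ≫ U'.ι
  have : IsOpenImmersion iU := inferInstance
  have hiU : Set.range iU = (U' : Set G.left) := by
    simp only [iU, Scheme.Hom.comp_base, TopCat.coe_comp, Set.range_comp]
    rw [Set.range_eq_univ.mpr U'.toScheme.isoSpec.inv.surjective, Set.image_univ, Scheme.Opens.range_ι]
  -- morphisms into `U` as ring maps
  have hfac : ∀ {R : Type u} [CommRing R] (g : Spec (CommRingCat.of R) ⟶ G.left),
      Set.range g ⊆ U' → ∃ φ : Γ(U', ⊤) ⟶ CommRingCat.of R, Spec.map φ ≫ iU = g := by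
    intro R _ g hg
    refine ⟨Spec.preimage (IsOpenImmersion.lift iU g (hiU ▸ hg)), ?_⟩
    rw [Spec.map_preimage, IsOpenImmersion.lift_fac]
  have hinj : ∀ {R : Type u} [CommRing R] (φ ψ : Γ(U', ⊤) ⟶ CommRingCat.of R),
      Spec.map φ ≫ iU = Spec.map ψ ≫ iU → φ = ψ :=
    fun φ ψ h => Spec.map_injective ((cancel_mono iU).mp h)
  obtain ⟨ε, hε⟩ := hfac η[G].left (by rintro _ ⟨w, rfl⟩; exact hU' w)
  have hσ₀ : cc.comp (σ₀ (k := k)) = AlgHom.id k _ := Polynomial.algHom_ext (by simp [σ₀])
  have hσi : cc.comp (σi (k := k)) = AlgHom.id k _ := Polynomial.algHom_ext (by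
    simp [σi, den, PowerSeries.constantCoeff_invOfUnit])
  obtain ⟨φ₀, hφ₀⟩ := hfac (hh σ₀ F₀).left (range_hh σ₀ hσ₀ F₀ U' hU')
  obtain ⟨φi, hφi⟩ := hfac (hh σi Fi).left (range_hh σi hσi Fi U' hU')
  -- the Laurent series
  let a : R₂ k →ₐ[k] PowerSeries (LaurentPolynomial k) := mapA j₀
  let b : R₂ k →ₐ[k] PowerSeries (LaurentPolynomial k) := mapA ji
  let C₁ : LaurentPolynomial k →ₐ[k] PowerSeries (LaurentPolynomial k) :=
    { (PowerSeries.C : LaurentPolynomial k →+* PowerSeries (LaurentPolynomial k)) with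
      commutes' := fun r => by simp [PowerSeries.algebraMap_apply] }
  let t : PowerSeries (LaurentPolynomial k) :=
    PowerSeries.C (LaurentPolynomial.T (1 : ℤ) : LaurentPolynomial k) + PowerSeries.X
  have ht : IsUnit t := PowerSeries.isUnit_iff_constantCoeff.mpr (by
    simpa [t] using LaurentPolynomial.isUnit_T (1 : ℤ))
  let ψ : LaurentPolynomial k →ₐ[k] PowerSeries (LaurentPolynomial k) :=
    { LaurentPolynomial.eval₂ (algebraMap k _) ht.unit with
      commutes' := fun r => by
        show LaurentPolynomial.eval₂ _ _ (algebraMap k (LaurentPolynomial k) r) = _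
        rw [← LaurentPolynomial.C_eq_algebraMap, LaurentPolynomial.eval₂_C] }
  have ha₁ : a.comp σ₀ = ψ.comp (j₀ (k := k)) := Polynomial.algHom_ext (by
    simp [a, σ₀, ψ, j₀, t, LaurentPolynomial.eval₂_T])
  have hji : ji (k := k) Polynomial.X = LaurentPolynomial.T (-1) := by simp [ji]
  have hj₀ : j₀ (k := k) Polynomial.X = LaurentPolynomial.T 1 := by simp [j₀]
  have hb₁ : b.comp σi = ψ.comp (ji (k := k)) := Polynomial.algHom_ext (by
    show b (σi Polynomial.X) = ψ (ji Polynomial.X)
    have hden := congrArg b (den_mul (k := k))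
    rw [map_mul, map_one] at hden
    have hu : ψ (ji Polynomial.X) * t = 1 := by
      have : t = ψ (j₀ Polynomial.X) := by simp [ψ, j₀, t, LaurentPolynomial.eval₂_T]
      rw [this, ← map_mul, hji, hj₀, ← LaurentPolynomial.T_add]
      simp
    have hv : b (σi Polynomial.X) * t = 1 := by
      rw [← hden]
      simp only [σi, b, t, Polynomial.aeval_X, map_mul, map_add, map_one, mapA_apply, PowerSeries.map_C, PowerSeries.map_X, RingHom.coe_coe]
      have hT : PowerSeries.C (ji (Polynomial.X : Polynomial k)) * PowerSeries.C (LaurentPolynomial.T (1 : ℤ) : LaurentPolynomial k) = 1 := by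
        rw [← map_mul, hji, ← LaurentPolynomial.T_add]
        simp
      linear_combination (PowerSeries.map ((ji (k := k)) : Polynomial k →+* LaurentPolynomial k) den) * hT
    exact ht.mul_right_cancel (hv.trans hu.symm))
  have ha₂ : a.comp ι₂ = C₁.comp (j₀ (k := k)) := Polynomial.algHom_ext (by
    simp [a, ι₂, C₁, j₀])
  have hb₂ : b.comp ι₂ = C₁.comp (ji (k := k)) := Polynomial.algHom_ext (by
    simp [b, ι₂, C₁, ji])
  have hov : sp a ≫ hh σ₀ F₀ = sp b ≫ hh σi Fi := by
    simp only [hh, MonObj.comp_mul, GrpObj.comp_inv, ← Category.assoc, ← sp_comp]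
    rw [ha₁, hb₁, ha₂, hb₂, sp_comp, sp_comp, sp_comp, sp_comp]
    simp only [Category.assoc, hF]
  have hov' : φ₀ ≫ CommRingCat.ofHom a.toRingHom = φi ≫ CommRingCat.ofHom b.toRingHom :=
    hinj _ _ (by
      rw [Spec.map_comp, Spec.map_comp, Category.assoc, Category.assoc, hφ₀, hφi]
      exact congrArg CommaMorphism.left hov)
  -- at infinity
  let e0 : R₂ k →ₐ[k] PowerSeries k := mapA (Polynomial.aeval (0 : k))
  have he0 : e0.comp (σi (k := k)) = e0.comp ι₂ := Polynomial.algHom_ext (by
    simp [e0, σi, ι₂])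
  have hinf : φi ≫ CommRingCat.ofHom e0.toRingHom =
      ε ≫ CommRingCat.ofHom (algebraMap k (PowerSeries k)) := hinj _ _ (by
    rw [Spec.map_comp, Spec.map_comp, Category.assoc, Category.assoc, hφi, hε]
    have h1 : sp e0 ≫ hh σi Fi = 1 := by
      simp only [hh, MonObj.comp_mul, GrpObj.comp_inv, ← Category.assoc, ← sp_comp, he0, mul_inv_cancel]
    exact congrArg CommaMorphism.left h1)
  have hφ : φ₀ = ε ≫ CommRingCat.ofHom (algebraMap k (R₂ k)) := by
    ext s : 2
    apply PowerSeries.ext
    intro n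
    have h1 : PowerSeries.coeff n (a (φ₀.hom s)) = PowerSeries.coeff n (b (φi.hom s)) :=
      congrArg (fun g => PowerSeries.coeff n (g.hom s)) hov'
    have h2 : PowerSeries.coeff n (e0 (φi.hom s)) = PowerSeries.coeff n (algebraMap k (PowerSeries k) (ε.hom s)) :=
      congrArg (fun g => PowerSeries.coeff n (g.hom s)) hinf
    simp only [a, b, e0, mapA_apply, PowerSeries.coeff_map] at h1 h2
    set P := PowerSeries.coeff n (φ₀.hom s)
    set Q := PowerSeries.coeff n (φi.hom s)
    have hc : ∀ m : ℤ, (Polynomial.toLaurent P).coeff m = (Polynomial.toLaurent Q).coeff (-m) := fun m => by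
      have := congrArg (fun l : LaurentPolynomial k => l.coeff m) h1
      simpa [j₀, ji] using this
    have hP : P = Polynomial.C (Q.coeff 0) := by
      ext i
      have := hc (i : ℤ)
      rw [coeff_toLaurent_nat] at this
      rcases i with _ | i
      · rw [this, Polynomial.coeff_C_zero]
        exact coeff_toLaurent_nat Q 0
      · rw [this, Polynomial.coeff_C, if_neg (Nat.succ_ne_zero i)]
        exact coeff_toLaurent_of_neg _ _ (by omega)
    show P = PowerSeries.coeff n (algebraMap k (R₂ k) (ε.hom s))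
    rw [hP, PowerSeries.algebraMap_apply, PowerSeries.coeff_C]
    rw [PowerSeries.algebraMap_apply, PowerSeries.coeff_C] at h2
    simp at h2
    rw [← Polynomial.coeff_zero_eq_eval_zero] at h2
    rw [h2]
    split <;> simp
  have hone : hh σ₀ F₀ = 1 := by
    apply Over.OverMorphism.ext
    rw [← hφ₀, hφ, Spec.map_comp, Category.assoc, hε]
    rfl
  rw [hh, mul_inv_eq_one] at hone
  -- specialise `x = 0`
  have hdom : sp ((Polynomial.aeval (PowerSeries.X : PowerSeries k) : Polynomial k →ₐ[k] PowerSeries k)) ≫ F₀ =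
      sp ((Algebra.ofId k (PowerSeries k)).comp (Polynomial.aeval (0 : k))) ≫ F₀ := by
    have e1 : e0.comp (σ₀ (k := k)) = Polynomial.aeval (PowerSeries.X : PowerSeries k) :=
      Polynomial.algHom_ext (by simp [e0, σ₀])
    have e2 : e0.comp (ι₂ (k := k)) = (Algebra.ofId k (PowerSeries k)).comp (Polynomial.aeval (0 : k)) :=
      Polynomial.algHom_ext (by simp [e0, ι₂])
    rw [← e1, ← e2, sp_comp, sp_comp, Category.assoc, Category.assoc, hone]
  let ev : Polynomial k →ₐ[k] PowerSeries k := Polynomial.aeval PowerSeries.X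
  have hev : Function.Injective ev := by
    have : ∀ p, ev p = (p : PowerSeries k) := by
      intro p
      show ev p = Polynomial.coeToPowerSeries.algHom k p
      congr 1
      exact Polynomial.algHom_ext (by simp [ev, Polynomial.coeToPowerSeries.algHom_apply])
    intro p q h
    rw [this, this] at h
    exact Polynomial.coe_inj.mp h
  have : IsDominant (sp ev).left := ⟨by
    show DenseRange (PrimeSpectrum.comap ev.toRingHom)
    rw [PrimeSpectrum.denseRange_comap_iff_ker_le_nilRadical, (RingHom.injective_iff_ker_eq_bot ev.toRingHom).mp hev]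
    exact bot_le⟩
  have : IsReduced (O k (Polynomial k)).left := inferInstanceAs (IsReduced (Spec (CommRingCat.of (Polynomial k))))
  apply Over.OverMorphism.ext
  refine ext_of_isDominant_of_isSeparated G.hom (by rw [Over.w, Over.w]) (sp ev).left ?_
  refine (congrArg CommaMorphism.left hdom).trans ?_
  rw [sp_comp]
  show Spec.map _ ≫ Spec.map _ ≫ F₀.left = Spec.map _ ≫ Spec.map _ ≫ Spec.map _ ≫ F₀.left
  rw [← Spec.map_comp_assoc, ← Spec.map_comp_assoc, ← Spec.map_comp_assoc, ← CommRingCat.ofHom_comp,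
    ← CommRingCat.ofHom_comp, ← CommRingCat.ofHom_comp]
  congr 3
  exact RingHom.ext fun p => (ev.commutes _).symm

end Groth.Agent.AbVarLib.RatLine
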