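import Groth.Agent.AbVarLib.DivisorCurve
import Groth.Agent.AbSch51.InvSection

/-!
# An effective divisor whose components have finite common stabilizer is ample
-/

set_option autoImplicit false
universe u

open CategoryTheory CategoryTheory.Limits MonoidalCategory CartesianMonoidalCategory MonObj AlgebraicGeometry
open TopologicalSpace

noncomputable section

namespace Groth.Agent.AbVarLib.StabAmple

open scoped Groth.Agent.PicLaw
open PicLaw.Mumford (op)
open DivisorCurve (ev)

variable {K : Type u} [Field K] [IsAlgClosed K]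
  {A : Over (Spec (CommRingCat.of K))} [GrpObj A] [IsProper A.hom] [GeometricallyIntegral A.hom]

local notation "pt" => 𝟙_ (Over (Spec (CommRingCat.of K)))

omit [GrpObj A] [IsProper A.hom] [GeometricallyIntegral A.hom] in
theorem subset_of_closedPoints [LocallyOfFiniteType A.hom] {Z S : Set A.left} (hZ : IsLocallyClosed Z) (hS : IsClosed S)
    (h : ∀ p : pt ⟶ A, ev p ∈ Z → ev p ∈ S) : Z ⊆ S := by
  have : JacobsonSpace A.left := LocallyOfFiniteType.jacobsonSpace A.hom
  intro w hw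
  by_contra hwS
  obtain ⟨z, ⟨hzZ, hzS⟩, hz⟩ := nonempty_inter_closedPoints (Z := Z ∩ Sᶜ) ⟨w, hw, hwS⟩
    (hZ.inter hS.isOpen_compl.isLocallyClosed)
  have hp : ev (TransInv.ptAt A z hz) = z := pointOfClosedPoint_apply _ _ _ _
  exact hzS (hp ▸ h _ (hp.symm ▸ hzZ))

variable {L : A.left.Modules} (hL : PicF.IsInvertible L) (s : Coh.structureModule A.left ⟶ CohB1.tensorPow L 1)

include hL in
/-- Translation by differences of points of `B` fixes each closed piece of the vanishing locus not covered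
by another. -/
theorem image_eq (hU : (CohB1.genLocus (CohB1.tensorPow L 1) s : Set A.left).Nonempty)
    {B : Over (Spec (CommRingCat.of K))} [IsProper B.hom] [IsIntegral B.left] (j : B ⟶ A)
    (hj : op j (PicGrp.cls L hL) * op j (PicGrp.cls L hL) = 1)
    {Z O : Set A.left} (hZ : IsClosed Z) (hZi : IsIrreducible Z) (hO : IsClosed O) (hZO : ¬ Z ⊆ O)
    (hY : ∀ w, w ∉ CohB1.genLocus _ s ↔ w ∈ Z ∨ w ∈ O) (b b' : pt ⟶ B) :
    (fun w : A.left => (𝟙 A * (toUnit A ≫ ((b' ≫ j) * (b ≫ j)⁻¹))).left.base w) '' Z = Z := by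
  have := GrpScheme.AVComm.isCommMonObj A
  have hev : ∀ p q : pt ⟶ A, p ≫ (𝟙 A * (toUnit A ≫ q)) = p * q := fun p q => by
    rw [MonObj.comp_mul, Category.comp_id, ← Category.assoc, toUnit_unique (p ≫ toUnit A) (𝟙 _), Category.id_comp]
  have key : ∀ b b' : pt ⟶ B, ∀ p : pt ⟶ A, ev p ∈ Z → ev (p * ((b' ≫ j) * (b ≫ j)⁻¹)) ∈ Z := by
    intro b b'
    have hO' : ∀ p : pt ⟶ A, ev p ∈ Z ∩ Oᶜ → ev (p * ((b' ≫ j) * (b ≫ j)⁻¹)) ∈ Z := by
      rintro p ⟨hpZ, hpO⟩
      let q := (b ≫ j)⁻¹ * p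
      let g : B ⟶ A := j * (toUnit B ≫ q)
      have hg : ∀ x : pt ⟶ B, g.left (ev x) = ev ((x ≫ j) * q) := fun x => by
        rw [← DivisorCurve.ev_comp]
        congr 1
        rw [MonObj.comp_mul, ← Category.assoc x (toUnit B), toUnit_unique (x ≫ toUnit B) (𝟙 _), Category.id_comp]
      have hbq : ev ((b ≫ j) * q) = ev p := by rw [mul_inv_cancel_left]
      have hcov : (Set.univ : Set B.left) ⊆ g.left ⁻¹' Z ∪ g.left ⁻¹' O := by
        refine subset_of_closedPoints isClosed_univ.isLocallyClosed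
          ((hZ.preimage g.left.continuous).union (hO.preimage g.left.continuous)) fun x _ => ?_
        show g.left (ev x) ∈ Z ∨ g.left (ev x) ∈ O
        rw [hg, ← hY]
        exact DivisorCurve.mem_of_mem j hL s hU hj b x q (by rw [hbq, hY]; exact Or.inl hpZ)
      rcases isPreirreducible_iff_isClosed_union_isClosed.mp PreirreducibleSpace.isPreirreducible_univ _ _
        (hZ.preimage g.left.continuous) (hO.preimage g.left.continuous) hcov with h | h
      · have h1 : g.left (ev b') ∈ Z := h (Set.mem_univ _)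
        rw [hg, ← _root_.mul_assoc, mul_comm] at h1
        exact h1
      · have h1 : g.left (ev b) ∈ O := h (Set.mem_univ _)
        rw [hg, hbq] at h1
        exact absurd h1 hpO
    let f : A ⟶ A := 𝟙 A * (toUnit A ≫ ((b' ≫ j) * (b ≫ j)⁻¹))
    have h1 : Z ∩ Oᶜ ⊆ f.left ⁻¹' Z := subset_of_closedPoints (hZ.isLocallyClosed.inter hO.isOpen_compl.isLocallyClosed)
      (hZ.preimage f.left.continuous) fun p hp => by
        show f.left (ev p) ∈ Z
        rw [← DivisorCurve.ev_comp, hev]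
        exact hO' p hp
    have h2 : Z ⊆ f.left ⁻¹' Z :=
      (subset_closure_inter_of_isPreirreducible_of_isOpen hZi.isPreirreducible hO.isOpen_compl
        (Set.not_subset.mp hZO)).trans ((hZ.preimage f.left.continuous).closure_subset_iff.mpr h1)
    intro p hp
    rw [← hev, DivisorCurve.ev_comp]
    exact h2 hp
  have hinv : ∀ b b' : pt ⟶ B, (𝟙 A * (toUnit A ≫ ((b' ≫ j) * (b ≫ j)⁻¹))) ≫
      (𝟙 A * (toUnit A ≫ ((b ≫ j) * (b' ≫ j)⁻¹))) = 𝟙 A := fun b b' => by
    rw [MonObj.comp_mul, Category.comp_id, ← Category.assoc,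
      toUnit_unique ((𝟙 A * (toUnit A ≫ ((b' ≫ j) * (b ≫ j)⁻¹))) ≫ toUnit A) (toUnit A), _root_.mul_assoc,
      ← MonObj.comp_mul, _root_.mul_assoc (b' ≫ j), inv_mul_cancel_left, mul_inv_cancel, MonObj.comp_one, _root_.mul_one]
  have hpre := DivisorCurve.preimage_eq_of_inverse hZ _ _ (hinv b b') (fun p hp => by rw [hev]; exact key b b' p hp)
    (fun p hp => by rw [hev]; exact key b' b p hp)
  conv_lhs => rw [← hpre]
  refine Set.image_preimage_eq Z fun w => ⟨(𝟙 A * (toUnit A ≫ ((b ≫ j) * (b' ≫ j)⁻¹))).left w, ?_⟩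
  rw [← Scheme.Hom.comp_apply, ← Over.comp_left, hinv b' b]
  rfl

include hL in
/-- **Ampleness.** -/
theorem isAmple (hU : (CohB1.genLocus (CohB1.tensorPow L 1) s : Set A.left).Nonempty)
    (Y : Set A.left) (hY : IsClosed Y) (hYs : ∀ w, w ∉ CohB1.genLocus _ s ↔ w ∈ Y)
    (hb : Set.Finite {a : pt ⟶ A | ∀ Z ∈ irreducibleComponents ↥Y,
      (fun x : A.left => (𝟙 A * (toUnit A ≫ a)).left.base x) '' (Subtype.val '' Z) = Subtype.val '' Z}) :
    CohB1.IsAmple L := by
  have : IsLocallyNoetherian A.left := LocallyOfFiniteType.isLocallyNoetherian A.hom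
  have : CompactSpace A.left := QuasiCompact.compactSpace_of_compactSpace A.hom
  have : AlgebraicGeometry.IsNoetherian A.left := ⟨⟩
  obtain ⟨hP, eP⟩ := GrpScheme.PowPullback.cls_tensorPow hL 1
  rw [pow_one] at eP
  refine (AmpleLib.isAmple_tensorPow_iff hL (n := 1) one_pos).mp
    (EffAmple.isAmple_of_curve hP s hU fun {B} _ _ j hjinj hj b₀ => ?_)
  rw [eP] at hj
  have : JacobsonSpace B.left := LocallyOfFiniteType.jacobsonSpace B.hom
  have hm : ∀ w : closedPoints B.left, (TransInv.ptAt B w.1 w.2 ≫ j) * (b₀ ≫ j)⁻¹ ∈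
      {a : pt ⟶ A | ∀ Z ∈ irreducibleComponents ↥Y,
        (fun x : A.left => (𝟙 A * (toUnit A ≫ a)).left.base x) '' (Subtype.val '' Z) = Subtype.val '' Z} := by
    intro w Z hZ
    let S : Set (Set ↥Y) := irreducibleComponents ↥Y \ {Z}
    have hS : S.Finite := (TopologicalSpace.NoetherianSpace.finite_irreducibleComponents (α := ↥Y)).sdiff
    have hO : IsClosed (⋃₀ S) := by
      rw [Set.sUnion_eq_biUnion]
      exact hS.isClosed_biUnion fun Z' hZ' => isClosed_of_mem_irreducibleComponents Z' hZ'.1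
    refine image_eq hL s hU j hj (hY.isClosedEmbedding_subtypeVal.isClosedMap _ (isClosed_of_mem_irreducibleComponents Z hZ))
      (hZ.1.image _ continuous_subtype_val.continuousOn) (hY.isClosedEmbedding_subtypeVal.isClosedMap _ hO) ?_ ?_ b₀ _
    · intro hsub
      rw [Set.image_subset_image_iff Subtype.val_injective] at hsub
      obtain ⟨Z', hZ', hle⟩ := isIrreducible_iff_sUnion_isClosed.mp hZ.1 hS.toFinset
        (fun Z' hZ' => isClosed_of_mem_irreducibleComponents Z' (hS.mem_toFinset.mp hZ').1)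
        (by rwa [hS.coe_toFinset])
      rw [Set.Finite.mem_toFinset] at hZ'
      exact hZ'.2 (le_antisymm (hZ.2 hZ'.1.1 hle) hle)
    · intro x
      rw [hYs]
      refine ⟨fun hx => ?_, ?_⟩
      · have h1 : (⟨x, hx⟩ : ↥Y) ∈ irreducibleComponent (⟨x, hx⟩ : ↥Y) := mem_irreducibleComponent
        by_cases he : irreducibleComponent (⟨x, hx⟩ : ↥Y) = Z
        · exact Or.inl ⟨_, he ▸ h1, rfl⟩
        · exact Or.inr ⟨_, ⟨_, ⟨irreducibleComponent_mem_irreducibleComponents _, he⟩, h1⟩, rfl⟩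
      · rintro (⟨z, -, rfl⟩ | ⟨z, -, rfl⟩) <;> exact z.2
  have hinj : Function.Injective fun w : closedPoints B.left => (⟨_, hm w⟩ : Subtype fun a => a ∈ {a : pt ⟶ A |
      ∀ Z ∈ irreducibleComponents ↥Y,
        (fun x : A.left => (𝟙 A * (toUnit A ≫ a)).left.base x) '' (Subtype.val '' Z) = Subtype.val '' Z}) :=
    fun w w' h => by
      have h1 := mul_right_cancel (congrArg Subtype.val h)
      have h2 := congrArg (fun m : pt ⟶ A => m.left (IsLocalRing.closedPoint K)) h1
      refine Subtype.ext (hjinj ?_)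
      simpa [TransInv.ptAt, pointOfClosedPoint_apply] using h2
  have := hb.to_subtype
  exact Set.finite_coe_iff.mp (Finite.of_injective _ hinj)

end Groth.Agent.AbVarLib.StabAmple
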