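import Groth.Agent.S15608
import Groth.Agent.AbVarLib.AbSub
import Groth.Agent.AbVarLib.Isogeny
import Groth.Agent.Cube.Connected
import Groth.Agent.FBase.BC

/-!
# The subgroup generated by an irreducible closed subset of a proper group scheme

The images of the difference maps `W ⊗ W → A` increase and are irreducible, so they become stationary.
-/

set_option autoImplicit false
universe u

open CategoryTheory CategoryTheory.Limits MonoidalCategory CartesianMonoidalCategory MonObj GrpObj AlgebraicGeometry TopologicalSpace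

noncomputable section

namespace Groth.Agent.AbVarLib.SumStab

variable {K : Type u} [Field K] [IsAlgClosed K] (A : Over (Spec (CommRingCat.of K))) [GrpObj A] [IsProper A.hom]

local notation "pt" => 𝟙_ (Over (Spec (CommRingCat.of K)))

/-- An integral proper scheme with a map to `A` and a point over the identity. -/
structure Dat where
  W : Over (Spec (CommRingCat.of K))
  f : W ⟶ A
  w₀ : pt ⟶ W
  prop : IsProper W.hom
  int : IsIntegral W.left
  h₀ : w₀ ≫ f = 1

theorem isIntegral_tensor {X Y : Over (Spec (CommRingCat.of K))} [IsProper X.hom] [IsProper Y.hom]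
    [IsIntegral X.left] [IsIntegral Y.left] : IsIntegral (X ⊗ Y).left := by
  have := Cube.geometricallyIntegral_of_isAlgClosed X.hom
  have : IsLocallyNoetherian Y.left := LocallyOfFiniteType.isLocallyNoetherian Y.hom
  have : LocallyOfFinitePresentation X.hom := inferInstance
  have : Flat X.hom := inferInstance
  have : UniversallyOpen X.hom := inferInstance
  exact inferInstanceAs (IsIntegral (pullback X.hom Y.hom))

variable {A}

/-- The difference map. -/
def Dat.next (D : Dat A) : Dat A :=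
  have := D.prop
  have := D.int
  { W := D.W ⊗ D.W
    f := (fst D.W D.W ≫ D.f) * (snd D.W D.W ≫ D.f)⁻¹
    w₀ := lift D.w₀ D.w₀
    prop := inferInstanceAs (IsProper (pullback.fst D.W.hom D.W.hom ≫ D.W.hom))
    int := isIntegral_tensor
    h₀ := by rw [MonObj.comp_mul, GrpObj.comp_inv, lift_fst_assoc, lift_snd_assoc, D.h₀, inv_one, _root_.mul_one] }

theorem Dat.comp_next (D : Dat A) {T : Over (Spec (CommRingCat.of K))} (a b : T ⟶ D.W) :
    (lift a b : T ⟶ D.next.W) ≫ D.next.f = (a ≫ D.f) * (b ≫ D.f)⁻¹ :=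
  (MonObj.comp_mul (lift a b) (fst D.W D.W ≫ D.f) (snd D.W D.W ≫ D.f)⁻¹).trans (by
    rw [GrpObj.comp_inv, lift_fst_assoc, lift_snd_assoc])

theorem Dat.exists_pair (D : Dat A) {T : Over (Spec (CommRingCat.of K))} (w : T ⟶ D.next.W) :
    ∃ a b : T ⟶ D.W, w ≫ D.next.f = (a ≫ D.f) * (b ≫ D.f)⁻¹ :=
  ⟨(w : T ⟶ D.W ⊗ D.W) ≫ fst D.W D.W, (w : T ⟶ D.W ⊗ D.W) ≫ snd D.W D.W,
    (MonObj.comp_mul (w : T ⟶ D.W ⊗ D.W) (fst D.W D.W ≫ D.f) (snd D.W D.W ≫ D.f)⁻¹).trans (by
      rw [GrpObj.comp_inv, Category.assoc, Category.assoc])⟩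

/-- The image. -/
def Dat.im (D : Dat A) : Set A.left := Set.range D.f.left

theorem Dat.isClosed_im (D : Dat A) : IsClosed D.im := by
  have := D.prop
  have : IsProper (D.f.left ≫ A.hom) := by rw [Over.w D.f]; infer_instance
  have : IsProper D.f.left := IsProper.of_comp D.f.left A.hom
  exact D.f.left.isClosedMap.isClosed_range

theorem Dat.isIrreducible_im (D : Dat A) : IsIrreducible D.im := by
  have := D.int
  rw [Dat.im, ← Set.image_univ]
  exact (irreducibleSpace_def D.W.left).mp inferInstance |>.image _ D.f.left.continuous.continuousOn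

theorem Dat.im_subset (D : Dat A) : D.im ⊆ D.next.im := by
  rintro _ ⟨w, rfl⟩
  let g : D.W ⟶ D.next.W := lift (𝟙 D.W) (toUnit D.W ≫ D.w₀)
  have e : g ≫ D.next.f = D.f := by
    refine (D.comp_next _ _).trans ?_
    rw [Category.id_comp, Category.assoc, D.h₀, MonObj.comp_one, inv_one, _root_.mul_one]
  exact ⟨g.left w, congrArg (fun m : D.W ⟶ A => m.left w) e⟩

/-- The iterates. -/
def Dat.iter (D : Dat A) : ℕ → Dat A
  | 0 => D
  | n + 1 => (D.iter n).next

theorem Dat.im_subset_iter (D : Dat A) : ∀ n, D.im ⊆ (D.iter n).im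
  | 0 => subset_rfl
  | n + 1 => (D.im_subset_iter n).trans (D.iter n).im_subset

theorem Dat.exists_stable (D : Dat A) : ∃ n, (D.iter n).next.im ⊆ (D.iter n).im := by
  by_contra h
  simp only [not_exists] at h
  have : IsLocallyNoetherian A.left := LocallyOfFiniteType.isLocallyNoetherian A.hom
  have := LocallyOfFiniteType.jacobsonSpace A.hom
  obtain ⟨g, hg⟩ := ENat.ne_top_iff_exists.mp
    (Isogeny.coheight_lt_top ((1 : pt ⟶ A).left (IsLocalRing.closedPoint K))).ne
  have hdim : Order.krullDim (IrreducibleCloseds A.left) = ((g : ℕ∞) : WithBot ℕ∞) := by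
    rw [hg]
    exact (GrpScheme.Dimension.coheight_eq_topologicalKrullDim A _ (Slices.isClosed_point _)).symm
  let s : LTSeries (IrreducibleCloseds A.left) :=
    { length := g + 1
      toFun := fun i => ⟨(D.iter i).im, (D.iter i).isIrreducible_im, (D.iter i).isClosed_im⟩
      step := fun i => show _ < _ from lt_iff_le_not_ge.mpr ⟨(D.iter i).im_subset, h i⟩ }
  have := Order.LTSeries.length_le_krullDim s
  rw [hdim] at this
  have h2 : ((g + 1 : ℕ) : ℕ∞) ≤ (g : ℕ∞) := WithBot.coe_le_coe.mp this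
  norm_cast at h2
  omega

theorem Dat.exists_point (D : Dat A) {a : pt ⟶ A} (ha : a.left (IsLocalRing.closedPoint K) ∈ D.im) :
    ∃ w : pt ⟶ D.W, w ≫ D.f = a := by
  have := D.prop
  have := LocallyOfFiniteType.jacobsonSpace D.W.hom
  obtain ⟨w₁, hw₁⟩ := ha
  obtain ⟨w, hw, hwc⟩ := nonempty_inter_closedPoints (Z := D.f.left ⁻¹' {a.left (IsLocalRing.closedPoint K)})
    ⟨w₁, hw₁⟩ ((Slices.isClosed_point a).preimage D.f.left.continuous).isLocallyClosed
  exact ⟨TransInv.ptAt D.W w hwc, AbSub.apply_inj ((congrArg D.f.left (pointOfClosedPoint_apply D.W.hom w hwc _)).trans hw)⟩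

/-- Points of the iterates map into every subgroup containing the points of the first map. -/
theorem Dat.mem_of_iter (D : Dat A) (S : Subgroup (pt ⟶ A)) (h : ∀ w : pt ⟶ D.W, w ≫ D.f ∈ S) :
    ∀ n (w : pt ⟶ (D.iter n).W), w ≫ (D.iter n).f ∈ S
  | 0, w => h w
  | n + 1, w => by
    obtain ⟨a, b, e⟩ := (D.iter n).exists_pair (w : pt ⟶ (D.iter n).next.W)
    show w ≫ (D.iter n).next.f ∈ S
    refine e.symm ▸ ?_
    exact S.mul_mem (D.mem_of_iter S h n _) (S.inv_mem (D.mem_of_iter S h n _))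

/-- **The integral closed subgroup generated by the image.** -/
theorem exists_subgroup (D : Dat A) (S : Subgroup (pt ⟶ A)) (h : ∀ w : pt ⟶ D.W, w ≫ D.f ∈ S) :
    ∃ (B : Over (Spec (CommRingCat.of K))) (_ : GrpObj B) (i : B ⟶ A), IsMonHom i ∧ IsClosedImmersion i.left ∧
      IsIntegral B.left ∧ D.im ⊆ Set.range i.left ∧ ∀ b : pt ⟶ B, b ≫ i ∈ S := by
  have := LocallyOfFiniteType.jacobsonSpace A.hom
  obtain ⟨n, hn⟩ := D.exists_stable
  set E := D.iter n with hE
  let P : Subgroup (pt ⟶ A) :=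
    { carrier := {a | a.left (IsLocalRing.closedPoint K) ∈ E.im}
      one_mem' := by
        refine ⟨E.w₀.left (IsLocalRing.closedPoint K), ?_⟩
        show (E.w₀ ≫ E.f).left _ = _
        rw [E.h₀]
      mul_mem' := fun {a b} ha hb => by
        obtain ⟨v, rfl⟩ := E.exists_point ha
        obtain ⟨w, rfl⟩ := E.exists_point hb
        have hinv : (w ≫ E.f)⁻¹.left (IsLocalRing.closedPoint K) ∈ E.im := hn
          ⟨(lift E.w₀ w).left (IsLocalRing.closedPoint K), by
            show (lift E.w₀ w ≫ E.next.f).left _ = _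
            rw [E.comp_next, E.h₀, _root_.one_mul]⟩
        obtain ⟨w', hw'⟩ := E.exists_point hinv
        refine hn ⟨(lift v w').left (IsLocalRing.closedPoint K), ?_⟩
        show (lift v w' ≫ E.next.f).left _ = _
        rw [E.comp_next, hw', _root_.inv_inv]
      inv_mem' := fun {a} ha => by
        obtain ⟨w, rfl⟩ := E.exists_point ha
        refine hn ⟨(lift E.w₀ w).left (IsLocalRing.closedPoint K), ?_⟩
        show (lift E.w₀ w ≫ E.next.f).left _ = _
        rw [E.comp_next, E.h₀, _root_.one_mul] }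
  obtain ⟨B, gB, i, hi, hci, hred, -, hr⟩ := S15608.exists_subgroup P
  have hPS : closure (S15608.pts P) = E.im := by
    refine (closure_minimal (show S15608.pts P ⊆ E.im by rintro _ ⟨a, ha, rfl⟩; exact ha) E.isClosed_im).antisymm fun x hx => ?_
    by_contra hxc
    obtain ⟨y, hy, hyc⟩ := nonempty_inter_closedPoints (Z := E.im ∩ (closure (S15608.pts P))ᶜ) ⟨x, hx, hxc⟩
      (E.isClosed_im.isLocallyClosed.inter isClosed_closure.isOpen_compl.isLocallyClosed)
    have e : (TransInv.ptAt A y hyc).left (IsLocalRing.closedPoint K) = y := pointOfClosedPoint_apply _ _ _ _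
    exact hy.2 (subset_closure (show y ∈ S15608.pts P from ⟨TransInv.ptAt A y hyc, show _ ∈ E.im from e.symm ▸ hy.1, e⟩))
  have : IrreducibleSpace B.left := by
    rw [irreducibleSpace_def]
    have hi' : IsIrreducible (Set.range i.left) := by rw [hr, hPS]; exact E.isIrreducible_im
    refine ⟨?_, fun u v hu hv hu' hv' => ?_⟩
    · obtain ⟨_, y, -⟩ := hi'.1
      exact ⟨y, trivial⟩
    obtain ⟨u', hu'o, rfl⟩ := i.left.isClosedEmbedding.isInducing.isOpen_iff.mp hu
    obtain ⟨v', hv'o, rfl⟩ := i.left.isClosedEmbedding.isInducing.isOpen_iff.mp hv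
    obtain ⟨y, -, hy⟩ := hu'
    obtain ⟨y', -, hy'⟩ := hv'
    obtain ⟨_, ⟨w, rfl⟩, hw⟩ := hi'.2 u' v' hu'o hv'o ⟨_, ⟨y, rfl⟩, hy⟩ ⟨_, ⟨y', rfl⟩, hy'⟩
    exact ⟨w, trivial, hw⟩
  refine ⟨B, gB, i, hi, hci, isIntegral_of_irreducibleSpace_of_isReduced _, ?_, fun b => ?_⟩
  · rw [hr, hPS, hE]
    exact D.im_subset_iter n
  · obtain ⟨w, hw⟩ := E.exists_point (a := b ≫ i) (hPS ▸ hr ▸ ⟨b.left (IsLocalRing.closedPoint K), rfl⟩)
    exact hw ▸ D.mem_of_iter S h n w

end Groth.Agent.AbVarLib.SumStab
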