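import Groth.Agent.AbSch51.MulDeg
import Groth.Agent.SGA7Lib.TorsionEtale
import Groth.Agent.Unram.FiniteEtaleCard
import Groth.Agent.EtStruct.Instances
import Groth.Agent.AbVarLib.Slices
import Groth.Agent.GrpScheme.AVComm
import Groth.Prelude.Def_AbDual

/-!
# The number of `n`-torsion points of an abelian variety, `n` invertible in the field
-/

set_option autoImplicit false
universe u

open CategoryTheory CategoryTheory.Limits MonoidalCategory CartesianMonoidalCategory MonObj AlgebraicGeometry

noncomputable section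

namespace Groth.Agent.AbVarLib.TorsCount

variable {K : Type u} [Field K] [IsAlgClosed K]
  (A : Over (Spec (CommRingCat.of K))) [GrpObj A] [IsCommMonObj A] [IsProper A.hom] [GeometricallyIntegral A.hom]

/-- `#A[n](k) = n^(2g)`. -/
theorem card_torsPts (g : ℕ) (hg : topologicalKrullDim A.left = (g : WithBot ℕ∞)) (n : ℕ) (hn : (n : K) ≠ 0) :
    Nat.card (AbDual.torsPts A n (𝟙_ (Over (Spec (CommRingCat.of K))))) = n ^ (2 * g) := by
  have hn0 : n ≠ 0 := by rintro rfl; exact hn Nat.cast_zero
  have hnZ : (n : ℤ) ≠ 0 := by exact_mod_cast hn0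
  have := AbVarLib.Basics.smooth A
  have hcomm : ∀ s, IsCommMonObj (GrpSGA.Fibre.fib A s) := fun s => inferInstance
  have hfield : ∀ s : ↥(Spec (CommRingCat.of K)), (n : (Spec (CommRingCat.of K)).residueField s) ≠ 0 := fun s => by
    let ρ : K →+* (Spec (CommRingCat.of K)).residueField s := ((Spec (CommRingCat.of K)).residue s).hom.comp
      ((StructureSheaf.toStalk K s).hom : K →+* (Spec (CommRingCat.of K)).presheaf.stalk s)
    rw [← map_natCast ρ]
    exact (map_ne_zero ρ).mpr hn
  let f : A ⟶ A := (𝟙 A : A ⟶ A) ^ n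
  have : Etale f.left := SGA7Lib.etale_pow A hcomm n hfield
  obtain ⟨hfin, -, -⟩ := AbSch51.MulDeg.isFinite_flat_surjective A hnZ
  have hdeg := AbSch51.MulDeg.finrank_eq A g hg hnZ
  rw [zpow_natCast] at hfin hdeg
  rw [Int.natAbs_natCast] at hdeg
  have : IsFinite f.left := hfin
  let Kc : Over (Spec (CommRingCat.of K)) := Over.mk (pullback.snd f.left η[A].left)
  have : IsFinite Kc.hom := inferInstanceAs (IsFinite (pullback.snd f.left η[A].left))
  have : Etale Kc.hom := inferInstanceAs (Etale (pullback.snd f.left η[A].left))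
  let j : Kc ⟶ A := Over.homMk (pullback.fst f.left η[A].left) (by
    show pullback.fst f.left η[A].left ≫ A.hom = pullback.snd f.left η[A].left
    rw [← Over.w f, pullback.condition_assoc, Over.w η[A]]
    exact Category.comp_id _)
  have hKc : ENat.card ↥Kc.left = ((n ^ (2 * g) : ℕ) : ℕ∞) := by
    refine (Unram.FiniteEtaleCard.card_eq_finrank Kc.hom (IsLocalRing.closedPoint K)).trans ?_
    congr 1
    refine (Scheme.Hom.finrank_pullback_snd f.left η[A].left _).trans (hdeg _)
  have hone : ∀ a : 𝟙_ (Over (Spec (CommRingCat.of K))) ⟶ A, a ∈ AbDual.torsPts A n _ →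
      a.left ≫ f.left = 𝟙 _ ≫ η[A].left := fun a ha => by
    rw [Category.id_comp, ← Over.comp_left]
    refine congrArg CommaMorphism.left (?_ : a ≫ f = η[A])
    rw [show a ≫ f = a ^ n by simp only [f, MonObj.comp_pow, Category.comp_id], (AbDual.mem_torsPts A a).mp ha,
      Hom.one_def, toUnit_unique (toUnit (𝟙_ _)) (𝟙 _), Category.id_comp]
  let F : AbDual.torsPts A n (𝟙_ (Over (Spec (CommRingCat.of K)))) → Kc.left := fun a =>
    pullback.lift a.1.left (𝟙 _) (hone a.1 a.2) (IsLocalRing.closedPoint K)
  have hF : ∀ a, j.left (F a) = a.1.left (IsLocalRing.closedPoint K) := fun a =>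
    congrArg (fun m : Spec (CommRingCat.of K) ⟶ A.left => m (IsLocalRing.closedPoint K))
      (pullback.lift_fst a.1.left (𝟙 _) (hone a.1 a.2))
  have hbij : Function.Bijective F := by
    refine ⟨fun a b h => Subtype.ext ?_, fun z => ?_⟩
    · rw [Slices.eq_ptAt a.1, Slices.eq_ptAt b.1]
      congr 1
      rw [← hF, ← hF, h]
    · have : T1Space Kc.left := by
        have : DiscreteTopology Kc.left := by
          have hd : DiscreteTopology ↥(Kc.hom.fiber (IsLocalRing.closedPoint K)) := inferInstance
          have hs : Kc.hom ⁻¹' {IsLocalRing.closedPoint K} = Set.univ :=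
            Set.eq_univ_of_forall fun x => Subsingleton.elim (α := PrimeSpectrum K) _ _
          exact (Homeomorph.discreteTopology ((Kc.hom.fiberHomeo (IsLocalRing.closedPoint K)).trans
            ((Homeomorph.setCongr hs).trans (Homeomorph.Set.univ _))))
        infer_instance
      let p : 𝟙_ (Over (Spec (CommRingCat.of K))) ⟶ Kc := TransInv.ptAt Kc z isClosed_singleton
      have hp : p ≫ j ≫ f = η[A] := by
        apply Over.OverMorphism.ext
        show p.left ≫ pullback.fst f.left η[A].left ≫ f.left = η[A].left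
        rw [pullback.condition, ← Category.assoc]
        show (p.left ≫ Kc.hom) ≫ η[A].left = η[A].left
        rw [Over.w p]
        exact Category.id_comp _
      refine ⟨⟨p ≫ j, (AbDual.mem_torsPts A _).mpr ?_⟩, ?_⟩
      · rw [show (p ≫ j) ^ n = (p ≫ j) ≫ f by simp only [f, MonObj.comp_pow, Category.comp_id], Category.assoc, hp,
          Hom.one_def, toUnit_unique (toUnit (𝟙_ _)) (𝟙 _), Category.id_comp]
      · have e : pullback.lift (p ≫ j).left (𝟙 _) (hone _ ((AbDual.mem_torsPts A _).mpr (by
            rw [show (p ≫ j) ^ n = (p ≫ j) ≫ f by simp only [f, MonObj.comp_pow, Category.comp_id], Category.assoc, hp,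
              Hom.one_def, toUnit_unique (toUnit (𝟙_ _)) (𝟙 _), Category.id_comp]))) = p.left := by
          apply pullback.hom_ext
          · rw [pullback.lift_fst]; rfl
          · rw [pullback.lift_snd]
            exact (Over.w p).symm
        show (pullback.lift (p ≫ j).left (𝟙 _) _) (IsLocalRing.closedPoint K) = z
        rw [e]
        exact pointOfClosedPoint_apply Kc.hom z isClosed_singleton _
  rw [Nat.card_eq_of_bijective F hbij]
  have hfinK : Finite Kc.left := Set.finite_univ_iff.mp
    ((Kc.hom.finite_preimage_singleton (IsLocalRing.closedPoint K)).subset fun x _ =>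
      Subsingleton.elim (α := PrimeSpectrum K) _ _)
  have h := hKc
  rw [ENat.card_eq_coe_natCard] at h
  exact_mod_cast h

end Groth.Agent.AbVarLib.TorsCount
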