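import Groth.Agent.AbVarLib.PhiFamily
import Groth.Agent.AbVarLib.AlgEquivPrim
import Groth.Agent.Cube.Connected
import Groth.Agent.Props.GenPull

/-!
# The transpose of a surjective homomorphism has a finite kernel

For a surjective homomorphism `α : A → B` only finitely many primitive classes of `B` die on `A`.
-/

set_option autoImplicit false
universe u

open CategoryTheory CategoryTheory.Limits MonoidalCategory CartesianMonoidalCategory MonObj AlgebraicGeometry
open TopologicalSpace

noncomputable section

namespace Groth.Agent.AbVarLib.TransposeFinite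

open scoped Groth.Agent.PicLaw
open PicLaw (pl)
open PicLaw.Mumford (op)
open Groth.Agent.QCoh Groth.Agent.Props.GenLocus Groth.Agent.Props.GenTensor Groth.Agent.Props.GenPull

/-- A nonzero section of a trivial module generates everywhere when the functions form a field. -/
theorem genLocus_eq_top {W : Scheme.{u}} [IsIntegral W] (hfield : IsField Γ(W, ⊤)) {M : W.Modules}
    (φ : M ≅ Coh.structureModule W) (s : Coh.structureModule W ⟶ M) (h : (CohB1.genLocus M s : Set W).Nonempty) :
    CohB1.genLocus M s = ⊤ := by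
  obtain ⟨r, hr, -⟩ := (isGen_one (⊤ : W.Opens)).exists_eq le_rfl (φ.hom.app ⊤ (sec s ⊤))
  rw [res_self] at hr
  have hr0 : r ≠ 0 := by
    rintro rfl
    have : Nonempty (CohB1.genLocus M s) := h.to_subtype
    have hg := Cube.Seesaw.isGen_map φ (isGen_genLocus s)
    refine one_ne_zero (α := Γ(W, CohB1.genLocus M s)) (hg.injective le_rfl ?_)
    rw [← sec_res s (le_top : CohB1.genLocus M s ≤ ⊤), app_res, hr, zero_smul, map_zero, map_zero, smul_zero, smul_zero]
  let := hfield.toField
  have hgen : IsGen (Coh.structureModule W) ⊤ (φ.hom.app ⊤ (sec s ⊤)) := by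
    rw [hr]; exact (isGen_one ⊤).smul_unit (Ne.isUnit hr0)
  have h1 := Cube.Seesaw.isGen_map φ.symm hgen
  refine top_le_iff.mp (le_genLocus ?_)
  convert h1 using 1
  exact (congr($(congrArg (fun m => Scheme.Modules.Hom.app m ⊤) φ.hom_inv_id) (sec s ⊤))).symm

variable {K : Type u} [Field K] [IsAlgClosed K]

/-- A proper integral scheme with an ample class dying on a surjective proper integral cover is finite. -/
theorem finite_of_trivial_pullback {B W : Over (Spec (CommRingCat.of K))} [IsProper B.hom] [IsProper W.hom]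
    [IsIntegral W.left] (q : W ⟶ B) [Surjective q.left] {N : B.left.Modules} (hN : CohB1.IsAmple N)
    (h : op q (PicGrp.cls N hN.1) = 1) : Finite B.left := by
  have hfield : IsField Γ(W.left, ⊤) := isField_of_universallyClosed (K := K) W.hom
  obtain ⟨n, s, hx, haff⟩ := hN.2.2 (q.left (Classical.arbitrary W.left))
  obtain ⟨s', hs', -⟩ := exists_pull q.left hN.1 s
  have hi := PicLoc.isInvertible_pullback q.left hN.1
  obtain ⟨hP, eP⟩ := GrpScheme.PowPullback.cls_tensorPow hi (n + 1)
  obtain ⟨φ⟩ : Nonempty (CohB1.tensorPow ((Scheme.Modules.pullback q.left).obj N) (n + 1) ≅ Coh.structureModule W.left) := by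
    refine (PicGrp.cls_eq_one_iff hP).mp ?_
    rw [eP, PicLaw.cls_pullback _ hN.1]
    show op q _ ^ (n + 1) = 1
    rw [h, one_pow]
  have htop := genLocus_eq_top hfield φ s' ⟨Classical.arbitrary W.left, by rw [hs']; exact hx⟩
  have hB : CohB1.genLocus _ s = ⊤ := by
    refine top_le_iff.mp fun x _ => ?_
    obtain ⟨w, rfl⟩ := q.left.surjective x
    have : w ∈ CohB1.genLocus _ s' := htop ▸ trivial
    rwa [hs'] at this
  rw [hB] at haff
  have : IsAffine (⊤ : B.left.Opens).toScheme := haff
  have : IsAffine B.left := IsAffine.of_isIso B.left.topIso.inv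
  have : IsAffineHom B.hom := isAffineHom_of_isAffine B.hom
  have : IsFinite B.hom := IsFinite.iff_isProper_and_isAffineHom.mpr ⟨inferInstance, inferInstance⟩
  exact Set.finite_univ_iff.mp
    ((IsFinite.finite_preimage_singleton B.hom (IsLocalRing.closedPoint K)).subset fun x _ =>
      Subsingleton.elim (α := PrimeSpectrum K) _ _)

variable {A B : Over (Spec (CommRingCat.of K))} [GrpObj A] [IsProper A.hom] [GeometricallyIntegral A.hom]
  [GrpObj B] [IsProper B.hom] [GeometricallyIntegral B.hom]

local notation "pt" => 𝟙_ (Over (Spec (CommRingCat.of K)))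

set_option maxHeartbeats 1000000 in
/-- Finitely many `φ_L(b)` die on `A`. -/
theorem finite_ker (α : A ⟶ B) [IsMonHom α] [Surjective α.left] {L : B.left.Modules} (hL : CohB1.IsAmple L) :
    Set.Finite {b : pt ⟶ B | op α (MumfordSurj.phi (PicGrp.cls L hL.1) b) = 1} := by
  set l := PicGrp.cls L hL.1 with hl
  set G := {b : pt ⟶ B | op α (MumfordSurj.phi l b) = 1}
  have hphi : ∀ a b : pt ⟶ B, MumfordSurj.phi l (a * b) = MumfordSurj.phi l a * MumfordSurj.phi l b := fun a b => by
    rw [← MumfordSurj.pair_const, MonObj.comp_mul, Defect.pair_mul_right, MumfordSurj.pair_const, MumfordSurj.pair_const]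
  have hphi1 : MumfordSurj.phi l 1 = 1 := by rw [← MumfordSurj.pair_const, MonObj.comp_one, Defect.pair_one_right]
  have hslc : ∀ b : pt ⟶ B, op (lift (𝟙 A) (toUnit A ≫ b)) (Defect.pair l (fst A B ≫ α) (snd A B)) =
      op α (MumfordSurj.phi l b) := fun b => by
    rw [← MumfordSurj.pair_const, Defect.op_pair, Defect.op_pair, lift_fst_assoc, lift_snd, Category.id_comp,
      Category.comp_id, ← Category.assoc, toUnit_unique (α ≫ toUnit B) (toUnit A)]
  obtain ⟨Z, hZ, hmem⟩ := Slices.exists_closed (X := A) (Y := B) (Defect.pair l (fst A B ≫ α) (snd A B))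
  have hker : ∀ b, b.left (IsLocalRing.closedPoint K) ∈ Z ↔ b ∈ G := fun b => by rw [hmem b, hslc]; rfl
  have : IsLocallyNoetherian B.left := LocallyOfFiniteType.isLocallyNoetherian B.hom
  have : CompactSpace B.left := QuasiCompact.compactSpace_of_compactSpace B.hom
  have : IsNoetherian B.left := ⟨⟩
  suffices hfin : (Z ∩ closedPoints B.left).Finite by
    refine (hfin.preimage (f := fun a : pt ⟶ B => a.left (IsLocalRing.closedPoint K)) fun a _ b _ e => ?_).subset
      fun a ha => ⟨(hker a).mpr ha, Slices.isClosed_point a⟩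
    simp only at e
    rw [Slices.eq_ptAt a, Slices.eq_ptAt b]
    congr 1
  obtain ⟨Cs, hCf, hCc, hCi, hC⟩ := NoetherianSpace.exists_finite_set_isClosed_irreducible hZ
  rw [hC, Set.sUnion_eq_biUnion, Set.iUnion₂_inter]
  refine hCf.biUnion fun C hCmem => ?_
  rcases (C ∩ closedPoints B.left).eq_empty_or_nonempty with h | ⟨z₁, hz₁C, hz₁⟩
  · rw [h]; exact Set.finite_empty
  have hCZ : C ⊆ Z := hC ▸ Set.subset_sUnion_of_mem hCmem
  let a₁ := TransInv.ptAt B z₁ hz₁
  have ha₁ : a₁ ∈ G := (hker a₁).mp (by
    show pointOfClosedPoint B.hom z₁ hz₁ (IsLocalRing.closedPoint K) ∈ Z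
    rw [pointOfClosedPoint_apply]; exact hCZ hz₁C)
  let I := Scheme.IdealSheafData.vanishingIdeal (X := B.left) ⟨C, hCc C hCmem⟩
  let D : Over (Spec (CommRingCat.of K)) := Over.mk (I.subschemeι ≫ B.hom)
  let j₀ : D ⟶ B := Over.homMk I.subschemeι rfl
  have hr : Set.range I.subschemeι = C := by
    rw [Scheme.IdealSheafData.range_subschemeι, Scheme.IdealSheafData.coe_support_vanishingIdeal]
    rfl
  have : IsIntegral I.subscheme := S16188.isIntegral_subscheme _ (hCi C hCmem)
  have : IsIntegral D.left := ‹IsIntegral I.subscheme›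
  have : IsProper D.hom := inferInstanceAs (IsProper (I.subschemeι ≫ B.hom))
  let t : B ⟶ B := 𝟙 B * (toUnit B ≫ a₁⁻¹)
  have hct : ∀ (g : B ⟶ B) (q : pt ⟶ B), g ≫ toUnit B ≫ q = toUnit B ≫ q :=
    fun g q => by rw [← Category.assoc, toUnit_unique (g ≫ toUnit B) (toUnit B)]
  have : IsIso t := ⟨𝟙 B * (toUnit B ≫ a₁),
    by rw [MonObj.comp_mul, Category.comp_id, hct, _root_.mul_assoc, ← MonObj.comp_mul, inv_mul_cancel,
      MonObj.comp_one, _root_.mul_one],
    by rw [MonObj.comp_mul, Category.comp_id, hct, _root_.mul_assoc, ← MonObj.comp_mul, mul_inv_cancel,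
      MonObj.comp_one, _root_.mul_one]⟩
  have : IsIso t.left := inferInstanceAs (IsIso ((Over.forget _).map t))
  let j := j₀ ≫ t
  have hj : Topology.IsInducing j.left :=
    t.left.homeomorph.isInducing.comp I.subschemeι.isClosedEmbedding.isInducing
  have : IsClosedImmersion j₀.left := inferInstanceAs (IsClosedImmersion I.subschemeι)
  have : IsClosedImmersion j.left := inferInstanceAs (IsClosedImmersion (j₀.left ≫ t.left))
  let E := Defect.pair l (fst A D ≫ α) (snd A D ≫ j)
  have hslice : ∀ (w : D.left) (hw : IsClosed {w}), op (lift (𝟙 A) (toUnit A ≫ TransInv.ptAt D w hw)) E = 1 := by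
    intro w hw
    rw [Defect.op_pair, lift_fst_assoc, Category.id_comp, lift_snd_assoc, Category.assoc]
    have hb : TransInv.ptAt D w hw ≫ j₀ ∈ G := (hker _).mp (by
      show I.subschemeι (pointOfClosedPoint D.hom w hw (IsLocalRing.closedPoint K)) ∈ Z
      exact hCZ (hr.le ⟨_, rfl⟩))
    have e : TransInv.ptAt D w hw ≫ j = (TransInv.ptAt D w hw ≫ j₀) * a₁⁻¹ := by
      rw [← Category.assoc, MonObj.comp_mul, Category.comp_id, ← Category.assoc,
        toUnit_unique ((TransInv.ptAt D w hw ≫ j₀) ≫ toUnit B) (𝟙 _), Category.id_comp]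
    have hi : op α (MumfordSurj.phi l a₁⁻¹) = 1 := by
      have h2 := congrArg (op α) (hphi a₁ a₁⁻¹)
      rw [mul_inv_cancel, hphi1, map_one, map_mul, show op α (MumfordSurj.phi l a₁) = 1 from ha₁, _root_.one_mul] at h2
      exact h2.symm
    have h1 := hslc (TransInv.ptAt D w hw ≫ j)
    rw [Defect.op_pair, lift_fst_assoc, lift_snd, Category.id_comp] at h1
    rw [h1, e, hphi, map_mul, show op α (MumfordSurj.phi l (TransInv.ptAt D w hw ≫ j₀)) = 1 from hb, hi, _root_.one_mul]
  let π := (snd A D).left
  have : IsProper π := Cube.Local.isProper_snd A D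
  have : Flat π := Cube.Local.flat_snd A D
  have : GeometricallyIntegral π := show GeometricallyIntegral (pullback.snd A.hom D.hom) from inferInstance
  have : GeometricallyConnected π := FBase.BC.geometricallyConnected_of_geometricallyIrreducible π
  have : IsLocallyNoetherian D.left := LocallyOfFiniteType.isLocallyNoetherian D.hom
  have : JacobsonSpace D.left := LocallyOfFiniteType.jacobsonSpace D.hom
  obtain ⟨N, hN, hNE⟩ := PicGrp.exists_eq_cls E
  have hcl := Cube.Seesaw.isClosed_trivial π hN fun w => inferInstance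
  have hall : ∀ w : D.left, Nonempty (CohIII.fiberMod π N w ≅ Coh.structureModule (π.fiber w)) := by
    intro w
    have hsub : closedPoints D.left ⊆ {w | Nonempty (CohIII.fiberMod π N w ≅ Coh.structureModule (π.fiber w))} :=
      fun w hw => by
        refine (PicGrp.cls_eq_one_iff (PicLoc.isInvertible_pullback _ hN)).mp ?_
        rw [PicLaw.cls_pullback _ hN, ← hNE]
        exact (Slices.fibre_iff_slice E w hw).mpr (hslice w hw)
    have := hcl.closure_subset_iff.mpr hsub
    rw [closure_closedPoints] at this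
    exact this (Set.mem_univ w)
  obtain ⟨M, hM, hMN⟩ := (Cube.Seesaw.pullback_iff_fibres π
    (Cube.Seesaw.finrank_eq_one_of_geometrically π) hN).mpr hall
  have hEn : E = op (snd A D) (PicGrp.cls M hM) := by
    rw [hNE, PicLaw.Mumford.op, ← PicLaw.cls_pullback _ hM, PicGrp.cls_eq_cls_iff]
    exact ⟨hMN.some.symm⟩
  have hn : PicGrp.cls M hM = 1 := by
    have h := congrArg (op (lift (1 : D ⟶ A) (𝟙 D))) hEn
    rw [Defect.op_pair, lift_fst_assoc, lift_snd_assoc, Category.id_comp,
      show ((1 : D ⟶ A) ≫ α) = 1 from MonObj.one_comp α, Defect.pair_comm, Defect.pair_one_right,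
      ← PicLaw.Mumford.op_comp, lift_snd] at h
    exact (PicLaw.pl_id _).symm.trans h.symm
  -- the cover
  let W₀ : Over (Spec (CommRingCat.of K)) := Over.mk (pullback.fst α.left j.left ≫ A.hom)
  let p₀ : W₀ ⟶ A := Over.homMk (pullback.fst α.left j.left) rfl
  let q₀ : W₀ ⟶ D := Over.homMk (pullback.snd α.left j.left) (by
    show pullback.snd α.left j.left ≫ D.hom = pullback.fst α.left j.left ≫ A.hom
    rw [← Over.w α, pullback.condition_assoc, Over.w j])
  have : IsClosedImmersion p₀.left := inferInstanceAs (IsClosedImmersion (pullback.fst α.left j.left))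
  have : Surjective q₀.left := inferInstanceAs (Surjective (pullback.snd α.left j.left))
  obtain ⟨w, hw⟩ := q₀.left.surjective (genericPoint D.left)
  let J := Scheme.IdealSheafData.vanishingIdeal (X := W₀.left) ⟨closure {w}, isClosed_closure⟩
  let W : Over (Spec (CommRingCat.of K)) := Over.mk (J.subschemeι ≫ W₀.hom)
  let p : W ⟶ A := (Over.homMk J.subschemeι rfl : W ⟶ W₀) ≫ p₀
  let q : W ⟶ D := (Over.homMk J.subschemeι rfl : W ⟶ W₀) ≫ q₀
  have : IsIntegral W.left := S16188.isIntegral_subscheme _ isIrreducible_singleton.closure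
  have : IsClosedImmersion p.left := inferInstanceAs (IsClosedImmersion (J.subschemeι ≫ p₀.left))
  have : IsProper W.hom := by
    rw [← Over.w p]; infer_instance
  have : IsProper q.left := by
    have : IsProper (q.left ≫ D.hom) := by rw [Over.w q]; infer_instance
    exact IsProper.of_comp q.left D.hom
  have : Surjective q.left := by
    refine ⟨Set.range_eq_univ.mp (Set.eq_univ_of_univ_subset ?_)⟩
    have hgen : genericPoint D.left ∈ Set.range q.left := by
      have hwr : w ∈ Set.range J.subschemeι := by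
        rw [Scheme.IdealSheafData.range_subschemeι, Scheme.IdealSheafData.coe_support_vanishingIdeal]
        exact subset_closure rfl
      obtain ⟨v, hv⟩ := hwr
      exact ⟨v, (congrArg q₀.left hv).trans hw⟩
    exact (genericPoint_closure D.left).ge.trans
      (closure_minimal (Set.singleton_subset_iff.mpr hgen) q.left.isClosedMap.isClosed_range)
  have hpq : p ≫ α = q ≫ j := by
    show ((Over.homMk J.subschemeι rfl : W ⟶ W₀) ≫ p₀) ≫ α = _ ≫ j
    rw [Category.assoc, Category.assoc]
    congr 1
    exact Over.OverMorphism.ext pullback.condition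
  have hE : op q (op j (op (𝟙 B)⁻¹ l * l)) = 1 := by
    have h := congrArg (op (lift p⁻¹ q)) hEn
    rw [Defect.op_pair, lift_fst_assoc, lift_snd_assoc, hn, map_one, map_one, GrpObj.inv_comp, hpq,
      Defect.pair, inv_mul_cancel, CubeCons.op_one, one_div, inv_eq_one] at h
    rw [map_mul, map_mul, ← PicLaw.Mumford.op_comp, ← PicLaw.Mumford.op_comp, ← PicLaw.Mumford.op_comp,
      GrpObj.comp_inv, Category.comp_id]
    exact h
  let i : B ⟶ B := (𝟙 B)⁻¹
  have hii : i ≫ i = 𝟙 B := by rw [GrpObj.comp_inv, Category.comp_id, _root_.inv_inv]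
  have : IsIso i := ⟨i, hii, hii⟩
  have : IsIso i.left := inferInstanceAs (IsIso ((Over.forget _).map i))
  have hiL : CohB1.IsAmple ((Scheme.Modules.pullback i.left).obj L) :=
    AmpleLib.isAmple_pullback_of_isInducing _ i.left.homeomorph.isInducing hL
  have hamp : CohB1.IsAmple (CohB1.tensorMod ((Scheme.Modules.pullback i.left).obj L) L) :=
    (S4381.result B.hom _).mp (S4384.result B.hom _ _ ((S4381.result B.hom _).mpr hiL) ((S4381.result B.hom _).mpr hL))
  have : CompactSpace D.left := QuasiCompact.compactSpace_of_compactSpace D.hom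
  have hD := AmpleLib.isAmple_pullback_of_isInducing j.left hj hamp
  have hcls : op q (PicGrp.cls _ hD.1) = 1 := by
    rw [PicLaw.cls_pullback _ hamp.1, PicLaw.cls_tensor hiL.1 hL.1, PicLaw.cls_pullback _ hL.1]
    exact hE
  have hDfin : Finite D.left := finite_of_trivial_pullback q hD hcls
  have : Finite I.subscheme := hDfin
  exact ((Set.finite_range I.subschemeι).subset (by rw [hr])).subset Set.inter_subset_left

end Groth.Agent.AbVarLib.TransposeFinite
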